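import Cfsg.Agent.Lib.CoOneGolay.Basis
import Cfsg.Agent.Lib.CoOneType.Kind

/-!
The centraliser of a maximal abelian preimage of a totally singular four-space.
-/

set_option autoImplicit false

namespace CfsgLib.CoOneGolay

open CfsgLib.CoOneType CfsgLib.Extraspecial CfsgLib.Extraspecial.Pair

variable {G : Type*} [Group G] [Finite G]

/-- The preimage of a totally singular four-space, by generators. -/
def Esub (z : G) (x : Fin 4 → G) : Subgroup G := Subgroup.closure (insert z (Set.range x))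

/-- Its centraliser. -/
def Asub (z : G) (x : Fin 4 → G) : Subgroup G := Subgroup.centralizer (Esub z x : Set G)

/-- A commutator, as an element. -/
def cmm (a p : G) : G := p * a * p⁻¹ * a⁻¹

/-- The bits of an alternating four by four array. -/
def row (M : ℕ) (l : Fin 4) : ℕ :=
  code (![![false, M.testBit 0, M.testBit 1, M.testBit 2], ![M.testBit 0, false, M.testBit 3, M.testBit 4],
    ![M.testBit 1, M.testBit 3, false, M.testBit 5], ![M.testBit 2, M.testBit 4, M.testBit 5, false]] l)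

/-- The rows of the array of a pair of vectors. -/
def wrow (s t : ℕ) (l : Fin 4) : ℕ := cond (t.testBit l.1) s 0 ^^^ cond (s.testBit l.1) t 0

theorem row_xor : ∀ M < 64, ∀ N < 64, ∀ l, row (M ^^^ N) l = row M l ^^^ row N l := by
  decide +kernel

theorem row_zero : ∀ l, row 0 l = 0 := by decide +kernel

theorem row_inj : ∀ M < 64, ∀ N < 64, (∀ l, row M l = row N l) → M = N := by decide +kernel

theorem row_lt (M : ℕ) (l : Fin 4) : row M l < 16 := code_lt _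

/-- The six bits of an array. -/
def code6 (b : Fin 6 → Bool) : ℕ :=
  cond (b 0) 1 0 + cond (b 1) 2 0 + cond (b 2) 4 0 + cond (b 3) 8 0 + cond (b 4) 16 0 + cond (b 5) 32 0

theorem code6_spec : ∀ b : Fin 6 → Bool, code6 b < 64 ∧ ∀ i : Fin 6, (code6 b).testBit i.1 = b i := by
  decide +kernel

/-- Lifts of a hyperbolic basis to the extraspecial group. -/
structure Lifts (z : G) (Q : Subgroup G) (v : G → V8) (e f : Fin 4 → V8) (x q : Fin 4 → G) : Prop where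
  co : Co z Q v
  hyp : Hyp e f
  xQ : ∀ i, x i ∈ Q
  xv : ∀ i, v (x i) = e i
  qQ : ∀ i, q i ∈ Q
  qv : ∀ i, v (q i) = f i

theorem exists_lifts {z : G} {Q : Subgroup G} {v : G → V8} (H : Co z Q v) {e f : Fin 4 → V8}
    (h : Hyp e f) : ∃ x q, Lifts z Q v e f x q := by
  choose x hx hxv using fun i => H.surj (e i)
  choose q hq hqv using fun i => H.surj (f i)
  exact ⟨x, q, H, h, hx, hxv, hq, hqv⟩

/-- The product of lifts with exponents the bits of a number. -/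
def pp (x : Fin 4 → G) (n : ℕ) : G :=
  cond (n.testBit 0) (x 0) 1 * cond (n.testBit 1) (x 1) 1 * cond (n.testBit 2) (x 2) 1 *
    cond (n.testBit 3) (x 3) 1

namespace Lifts

variable {z : G} {Q : Subgroup G} {v : G → V8} {e f : Fin 4 → V8} {x q : Fin 4 → G}
  (B : Lifts z Q v e f x q)
include B

theorem pp_x (n : ℕ) : pp x n ∈ Q ∧ v (pp x n) = vec e n := by
  have hc : ∀ (b : Bool) i, cond b (x i) 1 ∈ Q ∧ v (cond b (x i) 1) = cond b (e i) 0 := fun b i => by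
    cases b
    · exact ⟨one_mem Q, B.co.v_one⟩
    · exact ⟨B.xQ i, B.xv i⟩
  have h0 := hc (n.testBit 0) 0
  have h1 := hc (n.testBit 1) 1
  have h2 := hc (n.testBit 2) 2
  have h3 := hc (n.testBit 3) 3
  refine ⟨mul_mem (mul_mem (mul_mem h0.1 h1.1) h2.1) h3.1, ?_⟩
  rw [pp, B.co.mul _ (mul_mem (mul_mem h0.1 h1.1) h2.1) _ h3.1, B.co.mul _ (mul_mem h0.1 h1.1) _ h2.1,
    B.co.mul _ h0.1 _ h1.1, h0.2, h1.2, h2.2, h3.2]
  rfl

theorem swap : Lifts z Q v f e q x := ⟨B.co, B.hyp.swap, B.qQ, B.qv, B.xQ, B.xv⟩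

theorem x_sq (i : Fin 4) : x i * x i = 1 := (B.co.sq _ (B.xQ i)).mp (B.xv i ▸ B.hyp.qe i)

theorem q_sq (i : Fin 4) : q i * q i = 1 := B.swap.x_sq i

theorem q_inv (i : Fin 4) : (q i)⁻¹ = q i := inv_eq_of_mul_eq_one_right (B.q_sq i)

theorem x_inv (i : Fin 4) : (x i)⁻¹ = x i := inv_eq_of_mul_eq_one_right (B.x_sq i)

theorem x_mem (i : Fin 4) : x i ∈ Esub z x :=
  Subgroup.subset_closure (Set.mem_insert_of_mem _ ⟨i, rfl⟩)

theorem z_mem_E : z ∈ Esub z x := Subgroup.subset_closure (Set.mem_insert _ _)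

theorem pp_mem (n : ℕ) : pp x n ∈ Esub z x := by
  have hc : ∀ (b : Bool) i, cond b (x i) 1 ∈ Esub z x := fun b i => by
    cases b
    · exact one_mem _
    · exact B.x_mem i
  exact mul_mem (mul_mem (mul_mem (hc _ _) (hc _ _)) (hc _ _)) (hc _ _)

theorem mem_E {a : G} : a ∈ Esub z x ↔ a ∈ Q ∧ ∀ i, bf (e i) (v a) = false := by
  constructor
  · intro ha
    induction ha using Subgroup.closure_induction with
    | mem w hw =>
      rcases hw with rfl | ⟨j, rfl⟩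
      · exact ⟨B.co.z_mem, fun i => by rw [B.co.v_z, bf_zero_right]⟩
      · exact ⟨B.xQ j, fun i => by rw [B.xv, B.hyp.ee]⟩
    | one => exact ⟨one_mem Q, fun i => by rw [B.co.v_one, bf_zero_right]⟩
    | mul a b _ _ ha hb =>
      exact ⟨mul_mem ha.1 hb.1, fun i => by rw [B.co.mul a ha.1 b hb.1, bf_xr_right, ha.2 i, hb.2 i]; rfl⟩
    | inv a _ ha => exact ⟨inv_mem ha.1, fun i => by rw [B.co.v_inv ha.1]; exact ha.2 i⟩
  · rintro ⟨ha, h⟩
    obtain ⟨hp, hpv⟩ := B.pp_x (cof f (v a))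
    rcases B.co.eq_or ha hp ((B.hyp.mem_U h).trans hpv.symm) with e' | e' <;> rw [e']
    · exact B.pp_mem _
    · exact mul_mem B.z_mem_E (B.pp_mem _)

theorem E_le_Q : Esub z x ≤ Q := fun _ h => (B.mem_E.mp h).1

theorem E_vec {a : G} (ha : a ∈ Esub z x) : ∃ n < 16, v a = vec e n :=
  ⟨_, cof_lt f (v a), B.hyp.mem_U (B.mem_E.mp ha).2⟩

theorem E_bf {a b : G} (ha : a ∈ Esub z x) (hb : b ∈ Esub z x) : bf (v a) (v b) = false := by
  obtain ⟨n, -, hn⟩ := B.E_vec hb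
  rw [hn, bf_vec]
  simp only [bf_comm (v a), (B.mem_E.mp ha).2, Bool.and_false, Bool.xor_self]

theorem E_comm {a b : G} (ha : a ∈ Esub z x) (hb : b ∈ Esub z x) : a * b = b * a := by
  exact (B.co.comm a (B.E_le_Q ha) b (B.E_le_Q hb)).mp (B.E_bf ha hb)

theorem E_sq {a : G} (ha : a ∈ Esub z x) : a * a = 1 := by
  obtain ⟨n, -, hn⟩ := B.E_vec ha
  exact (B.co.sq a (B.E_le_Q ha)).mp (hn ▸ B.hyp.qf_vec n)

theorem E_le_A : Esub z x ≤ Asub z x := fun a ha =>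
  Subgroup.mem_centralizer_iff.mpr fun b hb => B.E_comm hb ha

theorem z_mem_A : z ∈ Asub z x := B.E_le_A B.z_mem_E

theorem mem_A {a : G} : a ∈ Asub z x ↔ a * z = z * a ∧ ∀ i, a * x i = x i * a := by
  rw [Asub, Esub, Subgroup.centralizer_closure, Subgroup.mem_centralizer_iff]
  constructor
  · exact fun h => ⟨(h z (Set.mem_insert _ _)).symm,
      fun i => (h _ (Set.mem_insert_of_mem _ ⟨i, rfl⟩)).symm⟩
  · rintro ⟨h1, h2⟩ w (rfl | ⟨i, rfl⟩)
    · exact h1.symm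
    · exact (h2 i).symm

theorem A_comm_E {a b : G} (ha : a ∈ Asub z x) (hb : b ∈ Esub z x) : Commute a b :=
  (Subgroup.mem_centralizer_iff.mp ha b hb).symm

theorem A_Q {a : G} (ha : a ∈ Asub z x) (haQ : a ∈ Q) : a ∈ Esub z x :=
  B.mem_E.mpr ⟨haQ, fun i => by
    rw [← B.xv i, bf_comm, B.co.comm a haQ _ (B.xQ i)]
    exact (B.mem_A.mp ha).2 i⟩

theorem conj_E {p b : G} (hp : p ∈ Q) (hb : b ∈ Esub z x) : p * b * p⁻¹ ∈ Esub z x :=
  B.mem_E.mpr ⟨mul_mem (mul_mem hp (B.E_le_Q hb)) (inv_mem hp), fun i => by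
    rw [B.co.v_inner hp (B.E_le_Q hb)]; exact (B.mem_E.mp hb).2 i⟩

theorem conj_A {p a : G} (hp : p ∈ Q) (ha : a ∈ Asub z x) : p * a * p⁻¹ ∈ Asub z x := by
  refine Subgroup.mem_centralizer_iff.mpr fun b hb => ?_
  have h := B.conj_E (inv_mem hp) hb
  rw [inv_inv] at h
  have := ((B.A_comm_E ha h).map (MulAut.conj p)).eq
  simp only [MulAut.conj_apply] at this
  rw [show p * (p⁻¹ * b * p) * p⁻¹ = b by group] at this
  exact this.symm

theorem cmm_mem {a p : G} (ha : a ∈ Asub z x) (hp : p ∈ Q) : cmm a p ∈ Esub z x := by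
  refine B.A_Q (mul_mem (B.conj_A hp ha) (inv_mem ha)) ?_
  have := mul_mem hp (B.co.conj_mem (B.mem_A.mp ha).1 (inv_mem hp))
  simpa [cmm, mul_assoc] using this

theorem cmm_mul {a b p : G} (ha : a ∈ Asub z x) (hb : b ∈ Asub z x) (hp : p ∈ Q) :
    cmm (a * b) p = cmm a p * cmm b p := by
  have h := B.A_comm_E ha (B.cmm_mem hb hp)
  calc cmm (a * b) p = cmm a p * (a * cmm b p * a⁻¹) := by simp [cmm, mul_assoc]
    _ = _ := by rw [h.eq, mul_inv_cancel_right]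

theorem dv_mul {a b p : G} (ha : a ∈ Asub z x) (hb : b ∈ Asub z x) (hp : p ∈ Q) :
    v (cmm (a * b) p) = v (cmm a p) + v (cmm b p) := by
  rw [B.cmm_mul ha hb hp, B.co.mul _ (B.E_le_Q (B.cmm_mem ha hp)) _ (B.E_le_Q (B.cmm_mem hb hp))]
  rfl

theorem dv_mul_left {a p p' : G} (ha : a ∈ Asub z x) (hp : p ∈ Q) (hp' : p' ∈ Q) :
    v (cmm a (p * p')) = v (cmm a p') + v (cmm a p) := by
  have h := B.E_le_Q (B.cmm_mem ha hp')
  rw [show cmm a (p * p') = p * cmm a p' * p⁻¹ * cmm a p by simp [cmm, mul_assoc],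
    B.co.mul _ (mul_mem (mul_mem hp h) (inv_mem hp)) _ (B.E_le_Q (B.cmm_mem ha hp)), B.co.v_inner hp h]
  rfl

theorem dv_E_left {a p : G} (ha : a ∈ Asub z x) (hp : p ∈ Esub z x) : v (cmm a p) = 0 := by
  rw [cmm, ← (B.A_comm_E ha hp).eq, mul_inv_cancel_right, mul_inv_cancel, B.co.v_one]

theorem dv_E {a p : G} (ha : a ∈ Esub z x) (hp : p ∈ Q) : v (cmm a p) = 0 := by
  rw [cmm, B.co.mul _ (B.E_le_Q (B.conj_E hp ha)) _ (inv_mem (B.E_le_Q ha)), B.co.v_inner hp (B.E_le_Q ha),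
    B.co.v_inv (B.E_le_Q ha), xr_self]

/-- An element with trivial commutators on the lifts lies in the preimage. -/
theorem mem_E_of_dv {a : G} (ha : a ∈ Asub z x) (h : ∀ l, v (cmm a (q l)) = 0) : a ∈ Esub z x := by
  have h1 : v (cmm a 1) = 0 := by simp [cmm, B.co.v_one]
  have hc : ∀ (b : Bool) l, cond b (q l) 1 ∈ Q ∧ v (cmm a (cond b (q l) 1)) = 0 := fun b l => by
    cases b
    · exact ⟨one_mem Q, h1⟩
    · exact ⟨B.qQ l, h l⟩
  have hpp : ∀ n, v (cmm a (pp q n)) = 0 := fun n => by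
    have g0 := hc (n.testBit 0) 0
    have g1 := hc (n.testBit 1) 1
    have g2 := hc (n.testBit 2) 2
    have g3 := hc (n.testBit 3) 3
    rw [pp, B.dv_mul_left ha (mul_mem (mul_mem g0.1 g1.1) g2.1) g3.1,
      B.dv_mul_left ha (mul_mem g0.1 g1.1) g2.1, B.dv_mul_left ha g0.1 g1.1, g0.2, g1.2, g2.2, g3.2]
    simp
  have hall : ∀ p ∈ Q, v (cmm a p) = 0 := by
    intro p hp
    obtain ⟨hw, hwv⟩ := B.swap.pp_x (cof e (v p))
    have hE : p * (pp q (cof e (v p)))⁻¹ ∈ Esub z x := B.mem_E.mpr ⟨mul_mem hp (inv_mem hw), fun i => by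
      rw [B.co.mul _ hp _ (inv_mem hw), B.co.v_inv hw, hwv, bf_xr_right, B.hyp.swap.bf_f_vec, cof_bit,
        Bool.xor_self]⟩
    have e1 := B.dv_mul_left ha (B.E_le_Q hE) hw
    rw [inv_mul_cancel_right, B.dv_E_left ha hE, hpp, add_zero] at e1
    exact e1
  refine B.A_Q ha (B.co.ker a (B.mem_A.mp ha).1 fun p hp => ?_)
  have hq := inv_mem hp
  have hd := B.E_le_Q (B.cmm_mem ha hq)
  have e2 : a * p * a⁻¹ = p * cmm a p⁻¹ := by simp [cmm, mul_assoc]
  rw [e2, B.co.mul _ hp _ hd, hall _ hq, xr_zero]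

/-- The commutators of an element with the lifts have the given rows. -/
def HasRow (_B : Lifts z Q v e f x q) (a : G) (M : ℕ) : Prop :=
  a ∈ Asub z x ∧ ∀ l, v (cmm a (q l)) = vec e (row M l)

theorem hasRow_E {a : G} (ha : a ∈ Esub z x) : B.HasRow a 0 :=
  ⟨B.E_le_A ha, fun l => by rw [B.dv_E ha (B.qQ l), row_zero, vec_zero]⟩

theorem hasRow_mul {a b : G} {M N : ℕ} (hM : M < 64) (hN : N < 64) (ha : B.HasRow a M)
    (hb : B.HasRow b N) : B.HasRow (a * b) (M ^^^ N) :=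
  ⟨mul_mem ha.1 hb.1, fun l => by rw [B.dv_mul ha.1 hb.1 (B.qQ l), ha.2, hb.2, row_xor M hM N hN, vec_xor]⟩

theorem hasRow_conj {a : G} {M : ℕ} (hM : M < 64) {p : G} (hp : p ∈ Q) (ha : B.HasRow a M) :
    B.HasRow (p * a * p⁻¹) M := by
  have e1 : p * a * p⁻¹ = cmm a p * a := by simp [cmm, mul_assoc]
  have h := B.hasRow_mul (by norm_num) hM (B.hasRow_E (B.cmm_mem ha.1 hp)) ha
  rwa [Nat.zero_xor, ← e1] at h

theorem hasRow_same {a b : G} {M : ℕ} (ha : B.HasRow a M) (hb : B.HasRow b M) : a⁻¹ * b ∈ Esub z x := by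
  refine B.mem_E_of_dv (mul_mem (inv_mem ha.1) hb.1) fun l => ?_
  have h1 := B.dv_mul ha.1 (mul_mem (inv_mem ha.1) hb.1) (B.qQ l)
  rw [mul_inv_cancel_left, ha.2, hb.2] at h1
  rw [← CoOneType.add_cancel (vec e (row M l)) (v (cmm (a⁻¹ * b) (q l))), ← h1, CoOneType.add_self]

theorem exists_row {a : G} (ha : a ∈ Asub z x) : ∃ M < 64, B.HasRow a M := by
  set d : Fin 4 → G := fun l => cmm a (q l) with hd
  have hdE : ∀ l, d l ∈ Esub z x := fun l => B.cmm_mem ha (B.qQ l)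
  have hdiag : ∀ l, bf (f l) (v (d l)) = false := fun l => by
    rw [← B.qv l, B.co.comm _ (B.qQ l) _ (B.E_le_Q (hdE l))]
    have h1 : q l * d l * (q l)⁻¹ = (d l)⁻¹ := by
      simp only [hd, cmm, mul_inv_rev, inv_inv, ← mul_assoc, B.q_sq, one_mul, B.q_inv]
    rw [inv_eq_of_mul_eq_one_right (B.E_sq (hdE l))] at h1
    exact mul_inv_eq_iff_eq_mul.mp h1
  have hsym : ∀ i j, bf (f j) (v (d i)) = bf (f i) (v (d j)) := fun i j => by
    have hr : ∀ l, a * q l * a⁻¹ ∈ Q ∧ v (a * q l * a⁻¹) = v (d l) + f l := fun l => by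
      have e1 : a * q l * a⁻¹ = (d l)⁻¹ * q l := by simp [hd, cmm, mul_assoc]
      refine ⟨B.co.conj_mem (B.mem_A.mp ha).1 (B.qQ l), ?_⟩
      rw [e1, B.co.mul _ (inv_mem (B.E_le_Q (hdE l))) _ (B.qQ l), B.co.v_inv (B.E_le_Q (hdE l)), B.qv]
      rfl
    have h := B.co.conj_bf (B.mem_A.mp ha).1 (B.qQ i) (B.qQ j)
    rw [(hr i).2, (hr j).2, B.qv, B.qv, B.hyp.ff, bf_xor_left, bf_xor_right, bf_xor_right, B.hyp.ff,
      bf_comm (v (d i)) (f j)] at h
    rw [B.E_bf (hdE i) (hdE j)] at h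
    revert h
    cases bf (f j) (v (d i)) <;> cases bf (f i) (v (d j)) <;> simp
  obtain ⟨hlt, hbit⟩ := code6_spec ![bf (f 1) (v (d 0)), bf (f 2) (v (d 0)), bf (f 3) (v (d 0)),
    bf (f 2) (v (d 1)), bf (f 3) (v (d 1)), bf (f 3) (v (d 2))]
  refine ⟨_, hlt, ha, fun l => ?_⟩
  show v (d l) = _
  conv_lhs => rw [B.hyp.mem_U (B.mem_E.mp (hdE l)).2]
  congr 1
  unfold cof row
  congr 1
  funext j
  generalize hN : code6 _ = N at hbit ⊢
  have b0 : N.testBit 0 = bf (f 1) (v (d 0)) := hbit 0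
  have b1 : N.testBit 1 = bf (f 2) (v (d 0)) := hbit 1
  have b2 : N.testBit 2 = bf (f 3) (v (d 0)) := hbit 2
  have b3 : N.testBit 3 = bf (f 2) (v (d 1)) := hbit 3
  have b4 : N.testBit 4 = bf (f 3) (v (d 1)) := hbit 4
  have b5 : N.testBit 5 = bf (f 3) (v (d 2)) := hbit 5
  fin_cases l <;> fin_cases j <;>
    simp [b0, b1, b2, b3, b4, b5, hdiag, hsym 1 0, hsym 2 0, hsym 3 0, hsym 2 1, hsym 3 1, hsym 3 2]

end Lifts

end CfsgLib.CoOneGolay
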