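import Cfsg.Agent.Lib.CoOneType.Linear

/-!
Hyperbolic bases of the plus type space of dimension eight and isometries given on them.
-/

set_option autoImplicit false

namespace CfsgLib.CoOneGolay

open CfsgLib.CoOneType CfsgLib.Extraspecial
open CfsgLib.ConwayFive (e8 dec8 dec8_surj)

/-- A hyperbolic basis. -/
structure Hyp (e f : Fin 4 → V8) : Prop where
  qe : ∀ i, qf (e i) = false
  qff : ∀ i, qf (f i) = false
  ee : ∀ i j, bf (e i) (e j) = false
  ff : ∀ i j, bf (f i) (f j) = false
  ef : ∀ i j, bf (e i) (f j) = decide (i = j)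

/-- A combination with coefficients the bits of a number. -/
def vec (e : Fin 4 → V8) (n : ℕ) : V8 :=
  cond (n.testBit 0) (e 0) 0 + cond (n.testBit 1) (e 1) 0 + cond (n.testBit 2) (e 2) 0 +
    cond (n.testBit 3) (e 3) 0

/-- A combination of a hyperbolic basis. -/
def comb (e f : Fin 4 → V8) (m n : ℕ) : V8 := vec e m + vec f n

/-- The number with given bits. -/
def code (p : Fin 4 → Bool) : ℕ :=
  cond (p 0) 1 0 + cond (p 1) 2 0 + cond (p 2) 4 0 + cond (p 3) 8 0

/-- The products with a quadruple, as bits. -/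
def cof (p : Fin 4 → V8) (w : V8) : ℕ := code fun i => bf (p i) w

/-- The bitwise scalar product of two four-bit numbers. -/
def dot (m n : ℕ) : Bool :=
  (m.testBit 0 && n.testBit 0) ^^ (m.testBit 1 && n.testBit 1) ^^ (m.testBit 2 && n.testBit 2) ^^
    (m.testBit 3 && n.testBit 3)

theorem code_lt : ∀ p : Fin 4 → Bool, code p < 16 := by decide +kernel

theorem code_bit : ∀ (p : Fin 4 → Bool) (i : Fin 4), (code p).testBit i.1 = p i := by decide +kernel

theorem code_xor : ∀ p q : Fin 4 → Bool, code (fun i => p i ^^ q i) = code p ^^^ code q := by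
  decide +kernel

theorem code_testBit : ∀ n < 16, code (fun i => n.testBit i.1) = n := by decide +kernel

theorem cof_lt (p : Fin 4 → V8) (w : V8) : cof p w < 16 := code_lt _

theorem cof_bit (p : Fin 4 → V8) (w : V8) (i : Fin 4) : (cof p w).testBit i.1 = bf (p i) w :=
  code_bit _ i

theorem cof_add (p : Fin 4 → V8) (a b : V8) : cof p (a + b) = cof p a ^^^ cof p b := by
  unfold cof
  rw [← code_xor]
  congr 1
  funext i
  exact bf_xor_right _ _ _

theorem cond_xor (a b : Bool) (x : V8) : cond (a ^^ b) x 0 = cond a x 0 + cond b x 0 := by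
  cases a <;> cases b <;> simp [add_self]

theorem vec_xor (e : Fin 4 → V8) (m n : ℕ) : vec e (m ^^^ n) = vec e m + vec e n := by
  unfold vec
  simp only [Nat.testBit_xor, cond_xor]
  abel

theorem vec_zero (e : Fin 4 → V8) : vec e 0 = 0 := by simp [vec]

theorem vec_two_pow (e : Fin 4 → V8) (i : Fin 4) : vec e (2 ^ i.1) = e i := by
  simp only [vec, Nat.testBit_two_pow]
  fin_cases i <;> simp

theorem comb_xor (e f : Fin 4 → V8) (m n m' n' : ℕ) :
    comb e f (m ^^^ m') (n ^^^ n') = comb e f m n + comb e f m' n' := by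
  unfold comb
  rw [vec_xor, vec_xor]
  abel

theorem bf_vec (w : V8) (e : Fin 4 → V8) (n : ℕ) :
    bf w (vec e n) = ((n.testBit 0 && bf w (e 0)) ^^ (n.testBit 1 && bf w (e 1)) ^^
      (n.testBit 2 && bf w (e 2)) ^^ (n.testBit 3 && bf w (e 3))) := by
  simp only [vec, bf_xor_right, bf_cond']

theorem qf_cond (i : Bool) (v : V8) : qf (cond i v 0) = (i && qf v) := by
  cases i <;> simp [qf_zero]

/-- The standard first half. -/
def e0 : Fin 4 → V8 := ![dec8 1, dec8 16, dec8 68, dec8 140]

/-- The standard second half. -/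
def f0 : Fin 4 → V8 := ![dec8 2, dec8 32, dec8 72, dec8 204]

theorem hyp_std : Hyp e0 f0 :=
  ⟨by decide +kernel, by decide +kernel, by decide +kernel, by decide +kernel, by decide +kernel⟩

theorem std_expand : ∀ k : Fin 256, dec8 k = comb e0 f0 (cof f0 (dec8 k)) (cof e0 (dec8 k)) := by
  decide +kernel

namespace Hyp

variable {e f : Fin 4 → V8} (h : Hyp e f)
include h

theorem swap : Hyp f e :=
  ⟨h.qff, h.qe, h.ff, h.ee, fun i j => by rw [bf_comm, h.ef, decide_eq_decide]; exact eq_comm⟩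

theorem bf_e_vec (l : Fin 4) (n : ℕ) : bf (e l) (vec e n) = false := by
  simp [bf_vec, h.ee]

theorem bf_f_vec (l : Fin 4) (n : ℕ) : bf (f l) (vec e n) = n.testBit l.1 := by
  rw [bf_vec]
  simp only [h.swap.ef]
  fin_cases l <;> simp

theorem bf_f_comb (l : Fin 4) (m n : ℕ) : bf (f l) (comb e f m n) = m.testBit l.1 := by
  rw [comb, bf_xor_right, h.bf_f_vec, h.swap.bf_e_vec, Bool.xor_false]

theorem bf_e_comb (l : Fin 4) (m n : ℕ) : bf (e l) (comb e f m n) = n.testBit l.1 := by
  rw [comb, bf_xor_right, h.bf_e_vec, h.swap.bf_f_vec, Bool.false_xor]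

theorem qf_vec (n : ℕ) : qf (vec e n) = false := by
  simp [vec, qf_add, bf_xor_left, bf_cond, bf_cond', qf_cond, h.qe, h.ee]

theorem bf_vec_vec (m n : ℕ) : bf (vec e m) (vec f n) = dot m n := by
  rw [bf_vec]
  simp only [bf_comm (vec e m), h.bf_f_vec, dot]
  simp [Bool.and_comm]

theorem qf_comb (m n : ℕ) : qf (comb e f m n) = dot m n := by
  rw [comb, qf_add, h.qf_vec, h.swap.qf_vec, h.bf_vec_vec]
  simp

theorem cof_f_comb {m : ℕ} (hm : m < 16) (n : ℕ) : cof f (comb e f m n) = m := by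
  unfold cof
  simp only [h.bf_f_comb]
  exact code_testBit m hm

theorem cof_e_comb (m : ℕ) {n : ℕ} (hn : n < 16) : cof e (comb e f m n) = n := by
  unfold cof
  simp only [h.bf_e_comb]
  exact code_testBit n hn

/-- An isometry carrying the standard basis to the given one. -/
theorem exists_iso : ∃ M : Lin, M ∈ isoGrp e8 ∧ (∀ i, M (e0 i) = e i) ∧ ∀ i, M (f0 i) = f i := by
  let φ : V8 →+ V8 := AddMonoidHom.mk' (fun w => comb e f (cof f0 w) (cof e0 w))
    (fun a b => by rw [cof_add, cof_add, comb_xor])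
  have hinj : Function.Injective φ := by
    intro a b hab
    have ha := h.cof_f_comb (cof_lt f0 a) (cof e0 a)
    have hb := h.cof_f_comb (cof_lt f0 b) (cof e0 b)
    have ha' := h.cof_e_comb (cof f0 a) (cof_lt e0 a)
    have hb' := h.cof_e_comb (cof f0 b) (cof_lt e0 b)
    change comb e f _ _ = comb e f _ _ at hab
    rw [hab] at ha ha'
    obtain ⟨i, rfl⟩ := dec8_surj a
    obtain ⟨j, rfl⟩ := dec8_surj b
    rw [std_expand i, std_expand j, ← ha, ← ha', hb, hb']
  let L : Lin := LinearEquiv.ofBijective (φ.toZModLinearMap 2)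
    (Finite.injective_iff_bijective.mp hinj)
  have hL : ∀ w, L w = comb e f (cof f0 w) (cof e0 w) := fun w => rfl
  refine ⟨L, fun w => ?_, fun i => ?_, fun i => ?_⟩
  · refine qf_iff.mp ?_
    obtain ⟨k, rfl⟩ := dec8_surj w
    conv_rhs => rw [std_expand k, hyp_std.qf_comb]
    rw [hL, h.qf_comb]
  · rw [hL]
    have : cof f0 (e0 i) = 2 ^ i.1 ∧ cof e0 (e0 i) = 0 := by revert i; decide +kernel
    rw [this.1, this.2, comb, vec_two_pow, vec_zero, add_zero]
  · rw [hL]
    have : cof f0 (f0 i) = 0 ∧ cof e0 (f0 i) = 2 ^ i.1 := by revert i; decide +kernel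
    rw [this.1, this.2, comb, vec_two_pow, vec_zero, zero_add]

/-- Coordinates with respect to a hyperbolic basis. -/
theorem expand (w : V8) : w = comb e f (cof f w) (cof e w) := by
  obtain ⟨M, hM, he, hf⟩ := h.exists_iso
  obtain ⟨x, rfl⟩ := M.surjective w
  obtain ⟨k, rfl⟩ := dec8_surj x
  have hc : ∀ m n, M (comb e0 f0 m n) = comb e f m n := fun m n => by
    simp only [comb, vec, map_add, map_cond, he, hf]
  rw [std_expand k, hc, h.cof_f_comb (cof_lt _ _), h.cof_e_comb _ (cof_lt _ _)]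

theorem mem_U {w : V8} (hw : ∀ i, bf (e i) w = false) : w = vec e (cof f w) := by
  conv_lhs => rw [h.expand w]
  rw [show cof e w = 0 by unfold cof; simp [hw, code], comb, vec_zero, add_zero]

theorem vec_inj {m n : ℕ} (hm : m < 16) (hn : n < 16) (he : vec e m = vec e n) : m = n := by
  have h1 := h.cof_f_comb hm 0
  have h2 := h.cof_f_comb hn 0
  simp only [comb, vec_zero, add_zero] at h1 h2
  rw [← h1, he, h2]

theorem vec_eq_zero {n : ℕ} (hn : n < 16) (he : vec e n = 0) : n = 0 :=
  h.vec_inj hn (by norm_num) (by rw [he, vec_zero])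

end Hyp

/-- The map of the standard space sending the basis to given combinations. -/
def imgMap (a b a' b' : Fin 4 → ℕ) (k : Fin 256) : V8 :=
  comb (fun i => comb e0 f0 (a i) (b i)) (fun i => comb e0 f0 (a' i) (b' i))
    (cof f0 (dec8 k)) (cof e0 (dec8 k))

/-- The combinations form a hyperbolic basis and give a map with even fixed dimension. -/
def chk (a b a' b' : Fin 4 → ℕ) : Bool :=
  decide (∀ i j : Fin 4, dot (a i) (b i) = false ∧ dot (a' i) (b' i) = false ∧
    (dot (a i) (b j) ^^ dot (a j) (b i)) = false ∧ (dot (a' i) (b' j) ^^ dot (a' j) (b' i)) = false ∧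
    (dot (a i) (b' j) ^^ dot (a' j) (b i)) = decide (i = j)) &&
  decide ((Finset.univ.filter fun k : Fin 256 => imgMap a b a' b' k = dec8 k).card ∈
    ([1, 4, 16, 64, 256] : List ℕ))

theorem good_conj {L M : Lin} (hL : Good L) (hM : M ∈ isoGrp e8) : Good (M * L * M⁻¹) := by
  obtain ⟨d, hd, -⟩ := exists_parity
  have h1 := (hd ⟨L, hL.1⟩).mpr hL
  have h := (hd (⟨M, hM⟩ * ⟨L, hL.1⟩ * (⟨M, hM⟩ : isoGrp e8)⁻¹)).mp (by
    rw [map_mul, map_mul, map_inv, h1, mul_one, mul_inv_cancel])
  exact h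

theorem dec8_bij : Function.Bijective dec8 := by
  refine (Fintype.bijective_iff_surjective_and_card _).mpr ⟨fun v => dec8_surj v, ?_⟩
  simp

theorem bf_comb_comb {e f : Fin 4 → V8} (h : Hyp e f) (m n m' n' : ℕ) :
    bf (comb e f m n) (comb e f m' n') = (dot m n' ^^ dot m' n) := by
  rw [comb, comb, bf_xor_left, bf_xor_right, bf_xor_right, h.bf_vec_vec, bf_comm (vec f n) (vec e m'),
    h.bf_vec_vec]
  have h1 : bf (vec e m) (vec e m') = false := by
    have := h.qf_vec (m ^^^ m')
    rw [vec_xor, qf_add, h.qf_vec, h.qf_vec] at this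
    simpa using this
  have h2 : bf (vec f n) (vec f n') = false := by
    have := h.swap.qf_vec (n ^^^ n')
    rw [vec_xor, qf_add, h.swap.qf_vec, h.swap.qf_vec] at this
    simpa using this
  rw [h1, h2]
  simp

/-- An isometry of even fixed dimension given on a hyperbolic basis. -/
theorem Hyp.exists_good {e f : Fin 4 → V8} (h : Hyp e f) (a b a' b' : Fin 4 → ℕ)
    (hc : chk a b a' b' = true) :
    ∃ L : Lin, Good L ∧ (∀ i, L (e i) = comb e f (a i) (b i)) ∧
      ∀ i, L (f i) = comb e f (a' i) (b' i) := by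
  simp only [chk, Bool.and_eq_true, decide_eq_true_eq] at hc
  obtain ⟨hb, hn⟩ := hc
  have h1 : Hyp (fun i => comb e0 f0 (a i) (b i)) (fun i => comb e0 f0 (a' i) (b' i)) :=
    ⟨fun i => by rw [hyp_std.qf_comb]; exact (hb i i).1,
      fun i => by rw [hyp_std.qf_comb]; exact (hb i i).2.1,
      fun i j => by rw [bf_comb_comb hyp_std]; exact (hb i j).2.2.1,
      fun i j => by rw [bf_comb_comb hyp_std]; exact (hb i j).2.2.2.1,
      fun i j => by rw [bf_comb_comb hyp_std]; exact (hb i j).2.2.2.2⟩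
  obtain ⟨L0, hL0, he0, hf0⟩ := h1.exists_iso
  obtain ⟨M, hM, heM, hfM⟩ := h.exists_iso
  have hval : ∀ k, L0 (dec8 k) = imgMap a b a' b' k := fun k => by
    conv_lhs => rw [std_expand k]
    simp only [comb, vec, map_add, map_cond, he0, hf0, imgMap]
  have hnf : nfix L0 = (Finset.univ.filter fun k : Fin 256 => imgMap a b a' b' k = dec8 k).card := by
    rw [nfix, ← Fintype.card_subtype, ← Nat.card_eq_fintype_card]
    refine Nat.card_congr ?_
    exact ((Equiv.ofBijective dec8 dec8_bij).subtypeEquiv fun k => by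
      rw [← hval]; rfl).symm
  have hG : Good L0 := by
    refine ⟨hL0, ?_⟩
    rw [hnf]
    simp only [List.mem_cons, List.not_mem_nil, or_false] at hn
    rcases hn with e | e | e | e | e <;> rw [e]
    exacts [⟨0, by decide⟩, ⟨2, by decide⟩, ⟨4, by decide⟩, ⟨6, by decide⟩, ⟨8, by decide⟩]
  have hMc : ∀ m n, M (comb e0 f0 m n) = comb e f m n := fun m n => by
    simp only [comb, vec, map_add, map_cond, heM, hfM]
  refine ⟨M * L0 * M⁻¹, good_conj hG hM, fun i => ?_, fun i => ?_⟩
  · show M (L0 (M.symm (e i))) = _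
    rw [← heM i, M.symm_apply_apply, he0, hMc]
  · show M (L0 (M.symm (f i))) = _
    rw [← hfM i, M.symm_apply_apply, hf0, hMc]

end CfsgLib.CoOneGolay
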