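import Cfsg.Agent.Lib.CoOneGolay.Orbit

/-!
Lifts of the root substitutions of the four-space fixing the dual lifts as a set.
-/

set_option autoImplicit false

namespace CfsgLib.CoOneGolay

open CfsgLib.CoOneType CfsgLib.Extraspecial CfsgLib.Extraspecial.Pair

/-- The images of the basis under a root substitution. -/
def rootU (i j l : Fin 4) : ℕ := 2 ^ l.1 ^^^ cond (decide (l = j)) (2 ^ i.1) 0

/-- The images of the dual lifts under a root substitution. -/
def rootW (i j l : Fin 4) : ℕ := 2 ^ l.1 ^^^ cond (decide (l = i)) (2 ^ j.1) 0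

theorem swap_chk : ∀ S : Fin 4 → Bool, (S 0 ^^ S 1 ^^ S 2 ^^ S 3) = false →
    chk (fun l => cond (S l) (2 ^ l.1) 0) (fun l => cond (S l) 0 (2 ^ l.1))
      (fun l => cond (S l) 0 (2 ^ l.1)) (fun l => cond (S l) (2 ^ l.1) 0) = true := by
  decide +kernel

variable {G : Type*} [Group G] [Finite G]

/-- The action of an element on the basis and on the dual lifts. -/
structure HasAct {z : G} {Q : Subgroup G} {v : G → V8} {e f : Fin 4 → V8} {x q : Fin 4 → G}
    (_B : Lifts z Q v e f x q) (w : G) (U W : Fin 4 → ℕ) : Prop where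
  cz : w * z = z * w
  hx : ∀ l, v (w * x l * w⁻¹) = vec e (U l)
  hq : ∀ l, w * q l * w⁻¹ = pp q (W l)

/-- A lift of a root substitution. -/
structure Root {z : G} {Q : Subgroup G} {v : G → V8} {e f : Fin 4 → V8} {x q : Fin 4 → G}
    (B : Lifts z Q v e f x q) (i j : Fin 4) (t : G) : Prop where
  act : HasAct B t (rootU i j) (rootW i j)
  sq : t * t = 1
  fam : ∀ S : Fin 4 → Bool, S i = true → S j = false → ∀ a : Fin 4,
    t * (cond (S a) (x a) (q a)) = cond (S a) (x a) (q a) * t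

namespace Lifts

variable {z : G} {Q : Subgroup G} {v : G → V8} {e f : Fin 4 → V8} {x q : Fin 4 → G}
  (B : Lifts z Q v e f x q)
include B

theorem exists_root (i j : Fin 4) (hij : i ≠ j) : ∃ t, Root B i j t := by
  obtain ⟨g, hg, c⟩ := B.co.exists_pair (B.xQ i) (B.x_sq i) (B.ne_of_vec (by rw [B.xv]; exact B.e_ne i)).1
    (B.ne_of_vec (by rw [B.xv]; exact B.e_ne i)).2
  have F : Fr z Q v g (q i) := fr_of B.co c (B.qQ i) (by
    rw [hg, B.qv, B.xv, B.hyp.swap.ef]; simp)
  have hji : bf (f j) (e i) = false := by rw [B.hyp.swap.ef]; exact decide_eq_false hij.symm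
  obtain ⟨y, hy, hyw⟩ := F.al_surj (w := f j) (by rw [hg, B.xv]; exact hji)
  have hyq : qf (v (al (q i) y)) = false := by
    rw [← hyw.qf_eq F.sv_qf (F.P_perp (F.al_mem hy))]; exact B.hyp.qff j
  have hu := B.al_conj_self F hy hyq
  have hv : v (al (q i) y) = f j := by
    rcases hyw.symm with h | h
    · exact h
    · rw [h, B.qv, bf_xr_right, B.hyp.ff, hg, B.xv, B.hyp.swap.ef] at hu
      simp at hu
  obtain ⟨t, ht, htq⟩ : ∃ t ∈ P' Q z g, al (q i) t = q j := by
    rcases B.co.eq_or (F.mem_P.mp (F.al_mem hy)).1 (B.qQ j) (hv.trans (B.qv j).symm) with h | h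
    · exact ⟨y, hy, h⟩
    refine ⟨y * (g * z * g⁻¹), mul_mem hy (F.V_le_P' F.z'_mem_V), ?_⟩
    have hz' : al (q i) (g * z * g⁻¹) = z := by rw [al, F.us, mul_inv_cancel_right]
    rw [show al (q i) (y * (g * z * g⁻¹)) = al (q i) y * (y * al (q i) (g * z * g⁻¹) * y⁻¹) by
      simp [al, mul_assoc], hz', (F.mem_P'.mp hy).2, mul_inv_cancel_right, h,
      show z * q j * z = (z * q j) * z from rfl, ← B.co.commute_z (B.qQ j), mul_assoc, B.co.st.zz, mul_one]
  have hqj : bf (f j) (v (al (q i) t)) = false := by rw [htq, B.qv, B.hyp.ff]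
  have ht2 : t * t = 1 := (F.sq_rel ht).1.mpr (by rw [htq, B.qv]; exact B.hyp.qff j)
  have hcomm : ∀ w ∈ Q, bf (v w) (e i) = false → bf (v w) (f j) = false → w * t = t * w :=
    fun w hw h1 h2 => (F.comm_rel (F.mem_P_of hw (by rw [hg, B.xv]; exact h1)) ht).1 (by rw [htq, B.qv]; exact h2)
  refine ⟨t, ⟨(F.mem_P'.mp ht).2, fun l => ?_, fun l => ?_⟩, ht2, fun S hi hj a => ?_⟩
  · have hP : x l ∈ P Q z g := F.mem_P_of (B.xQ l) (by rw [hg, B.xv, B.xv]; exact B.hyp.ee l i)
    have hb : bf (v (x l)) (v (al (q i) t)) = decide (l = j) := by rw [htq, B.xv, B.qv, B.hyp.ef]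
    have h := F.comm_rel hP ht
    rw [hb] at h
    by_cases hl : l = j
    · rw [decide_eq_true hl] at h
      have hzz : z * (g * z * g⁻¹) * (z * (g * z * g⁻¹)) = 1 := F.V_sq F.zz'_mem
      have hmem : z * (g * z * g⁻¹) ∈ Q := mul_mem B.co.z_mem F.pr.mem
      rw [show t * x l * t⁻¹ = z * (g * z * g⁻¹) * x l by
        calc t * x l * t⁻¹ = z * (g * z * g⁻¹) * (z * (g * z * g⁻¹) * (t * x l)) * t⁻¹ := by
              rw [← mul_assoc (z * (g * z * g⁻¹)), hzz, one_mul]
          _ = z * (g * z * g⁻¹) * (x l * t) * t⁻¹ := by rw [h.2 rfl]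
          _ = _ := by group,
        B.co.mul _ hmem _ (B.xQ l), B.co.mul _ B.co.z_mem _ F.pr.mem, B.co.v_z, zero_xr, hg, B.xv, B.xv, rootU,
        vec_xor, decide_eq_true hl, cond_true, vec_two_pow, vec_two_pow, add_comm]
      rfl
    · rw [decide_eq_false hl] at h
      rw [← h.1 rfl, mul_inv_cancel_right, B.xv, rootU, decide_eq_false hl, cond_false, Nat.xor_zero, vec_two_pow]
  · by_cases hl : l = i
    · subst hl
      have h1 : q l * t * (q l)⁻¹ * t⁻¹ = q j := htq
      rw [rootW, decide_eq_true rfl, cond_true, B.swap.pp_xor, B.swap.pp_two_pow, B.swap.pp_two_pow]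
      have e1 : t * (q l)⁻¹ * t⁻¹ = (q l)⁻¹ * q j := by rw [← h1]; group
      rwa [B.q_inv] at e1
    · rw [rootW, decide_eq_false hl, cond_false, Nat.xor_zero, B.swap.pp_two_pow,
        ← hcomm _ (B.qQ l) (by rw [B.qv, B.hyp.swap.ef]; exact decide_eq_false hl) (by rw [B.qv]; exact B.hyp.ff l j),
        mul_inv_cancel_right]
  · cases hS : S a
    · refine (hcomm _ (B.qQ a) ?_ (by rw [B.qv]; exact B.hyp.ff a j)).symm
      rw [B.qv, B.hyp.swap.ef]
      exact decide_eq_false fun e' => by rw [e', hi] at hS; exact Bool.noConfusion hS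
    · refine (hcomm _ (B.xQ a) (by rw [B.xv]; exact B.hyp.ee a i) ?_).symm
      rw [B.xv, B.hyp.ef]
      exact decide_eq_false fun e' => by rw [e', hj] at hS; exact Bool.noConfusion hS

/-- Roots in a common four-space commute. -/
theorem root_comm (hc : B.Cross) {i j k l : Fin 4} {t t' : G} (ht : Root B i j t) (ht' : Root B k l t')
    (S : Fin 4 → Bool) (hS : (S 0 ^^ S 1 ^^ S 2 ^^ S 3) = false) (hi : S i = true) (hj : S j = false)
    (hk : S k = true) (hl : S l = false) : t * t' = t' * t := by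
  obtain ⟨L, hL, hLe, hLf⟩ := B.hyp.exists_good _ _ _ _ (swap_chk S hS)
  obtain ⟨c, hc', hcv⟩ := B.co.real L hL
  have hLS : ∀ m, L (cond (S m) (e m) (f m)) = e m := fun m => by
    cases h : S m
    · rw [cond_false, hLf, h, cond_false, cond_false, comb, vec_two_pow, vec_zero, add_zero]
    · rw [cond_true, hLe, h, cond_true, cond_true, comb, vec_two_pow, vec_zero, add_zero]
  have B' : Lifts z Q v (fun m => cond (S m) (e m) (f m)) (fun m => cond (S m) (f m) (e m))
      (fun m => cond (S m) (x m) (q m)) (fun m => cond (S m) (q m) (x m)) := by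
    refine ⟨B.co, ⟨fun m => ?_, fun m => ?_, fun m n => ?_, fun m n => ?_, fun m n => ?_⟩, fun m => ?_,
      fun m => ?_, fun m => ?_, fun m => ?_⟩
    · cases S m <;> simp [B.hyp.qe, B.hyp.qff]
    · cases S m <;> simp [B.hyp.qe, B.hyp.qff]
    · by_cases hmn : m = n
      · subst hmn; cases S m <;> simp [bf_self]
      · cases S m <;> cases S n <;> simp [B.hyp.ee, B.hyp.ff, B.hyp.ef, B.hyp.swap.ef, hmn]
    · by_cases hmn : m = n
      · subst hmn; cases S m <;> simp [bf_self]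
      · cases S m <;> cases S n <;> simp [B.hyp.ee, B.hyp.ff, B.hyp.ef, B.hyp.swap.ef, hmn]
    · by_cases hmn : m = n
      · subst hmn; cases S m <;> simp [B.hyp.ef, B.hyp.swap.ef]
      · cases S m <;> cases S n <;> simp [B.hyp.ee, B.hyp.ff, B.hyp.ef, B.hyp.swap.ef, hmn]
    · cases S m <;> simp [B.xQ, B.qQ]
    · cases S m <;> simp [B.xv, B.qv]
    · cases S m <;> simp [B.xQ, B.qQ]
    · cases S m <;> simp [B.xv, B.qv]
  have hmem : ∀ {i j : Fin 4} {t : G}, Root B i j t → S i = true → S j = false →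
      c * t * c⁻¹ ∈ Asub z x := fun {i j t} ht hi hj =>
    B'.conj_A' B hc' hL hcv (fun a m => by rw [hLS]; exact B.hyp.ee a m)
      (B'.mem_A.mpr ⟨ht.act.cz, ht.fam S hi hj⟩)
  have := B.A_comm (B.elementary hc) (hmem ht hi hj) (hmem ht' hk hl)
  have h2 := congrArg (fun w => c⁻¹ * w * c) this
  simpa [mul_assoc] using h2

theorem cond_q_mem (d : Bool) (l : Fin 4) : cond d (q l) 1 ∈ Q := by
  cases d
  · exact one_mem _
  · exact B.qQ l

theorem act_pp_q {w : G} {U W : Fin 4 → ℕ} (h : HasAct B w U W) (n : ℕ) :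
    w * pp q n * w⁻¹ = pp q (rowC n W) := by
  have hc : ∀ (d : Bool) l, w * cond d (q l) 1 * w⁻¹ = pp q (cond d (W l) 0) := fun d l => by
    cases d
    · simp [pp]
    · exact h.hq l
  rw [rowC, B.swap.pp_xor, B.swap.pp_xor, B.swap.pp_xor, ← hc, ← hc, ← hc, ← hc, pp]
  group

theorem act_pp_x {w : G} {U W : Fin 4 → ℕ} (h : HasAct B w U W) (n : ℕ) :
    v (w * pp x n * w⁻¹) = vec e (rowC n U) := by
  have hc : ∀ (d : Bool) l, w * cond d (x l) 1 * w⁻¹ ∈ Q ∧
      v (w * cond d (x l) 1 * w⁻¹) = vec e (cond d (U l) 0) := fun d l => by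
    cases d
    · simp [B.co.v_one, vec_zero]
    · exact ⟨B.co.conj_mem h.cz (B.xQ l), h.hx l⟩
  have g0 := hc (n.testBit 0) 0
  have g1 := hc (n.testBit 1) 1
  have g2 := hc (n.testBit 2) 2
  have g3 := hc (n.testBit 3) 3
  rw [rowC, vec_xor, vec_xor, vec_xor, ← g0.2, ← g1.2, ← g2.2, ← g3.2,
    show w * pp x n * w⁻¹ = (w * cond (n.testBit 0) (x 0) 1 * w⁻¹) * (w * cond (n.testBit 1) (x 1) 1 * w⁻¹) *
      (w * cond (n.testBit 2) (x 2) 1 * w⁻¹) * (w * cond (n.testBit 3) (x 3) 1 * w⁻¹) by rw [pp]; group,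
    B.co.mul _ (mul_mem (mul_mem g0.1 g1.1) g2.1) _ g3.1, B.co.mul _ (mul_mem g0.1 g1.1) _ g2.1,
    B.co.mul _ g0.1 _ g1.1]
  rfl

theorem act_one : HasAct B 1 (fun l => 2 ^ l.1) (fun l => 2 ^ l.1) :=
  ⟨by rw [one_mul, mul_one], fun l => by rw [vec_two_pow, inv_one, mul_one, one_mul, B.xv],
    fun l => by rw [B.swap.pp_two_pow, inv_one, mul_one, one_mul]⟩

theorem act_mul {w w' : G} {U W U' W' : Fin 4 → ℕ} (h : HasAct B w U W) (h' : HasAct B w' U' W') :
    HasAct B (w * w') (fun l => rowC (U' l) U) (fun l => rowC (W' l) W) := by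
  refine ⟨(show Commute w z from h.cz).mul_left h'.cz, fun l => ?_, fun l => ?_⟩
  · have hm := B.co.conj_mem h'.cz (B.xQ l)
    have hpm := (B.pp_x (U' l)).1
    rw [show w * w' * x l * (w * w')⁻¹ = w * (w' * x l * w'⁻¹) * w⁻¹ by group, ← B.act_pp_x h (U' l)]
    obtain ⟨L, -, hLv⟩ := B.co.par w h.cz
    rw [hLv _ hm, hLv _ hpm, h'.hx, (B.pp_x _).2]
  · rw [show w * w' * q l * (w * w')⁻¹ = w * (w' * q l * w'⁻¹) * w⁻¹ by group, h'.hq, B.act_pp_q h]

/-- Two elements with the same action differ by a dual element and a power of the centre. -/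
theorem act_same {w w' : G} {U W : Fin 4 → ℕ} (h : HasAct B w U W) (h' : HasAct B w' U W) :
    w⁻¹ * w' ∈ Esub z q := by
  set d := w⁻¹ * w' with hd
  have hdz : d * z = z * d := (show Commute w z from h.cz).inv_left.mul_left h'.cz
  have hdq : ∀ l, d * q l * d⁻¹ = q l := fun l => by
    rw [hd, show w⁻¹ * w' * q l * (w⁻¹ * w')⁻¹ = w⁻¹ * (w' * q l * w'⁻¹) * w by group, h'.hq, ← h.hq]
    group
  obtain ⟨L, -, hLv⟩ := B.co.par d hdz
  have hLx : ∀ l, L (e l) = e l := fun l => by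
    have h1 := B.co.conj_mem h'.cz (B.xQ l)
    have h2 := B.co.conj_mem h.cz (B.xQ l)
    have h3 : v (d * x l * d⁻¹) = v (x l) := by
      have e' : d * x l * d⁻¹ = w⁻¹ * (w' * x l * w'⁻¹) * w := by rw [hd]; group
      rcases B.co.eq_or h1 h2 ((h'.hx l).trans (h.hx l).symm) with e1 | e1 <;> rw [e', e1]
      · rw [show w⁻¹ * (w * x l * w⁻¹) * w = x l by group]
      · rw [show w⁻¹ * (z * (w * x l * w⁻¹)) * w = (w⁻¹ * z * w) * x l by group,
          show w⁻¹ * z * w = z by rw [mul_assoc, ← h.cz, inv_mul_cancel_left],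
          B.co.mul _ B.co.z_mem _ (B.xQ l), B.co.v_z, zero_xr]
    rwa [hLv _ (B.xQ l), B.xv] at h3
  have hLf : ∀ l, L (f l) = f l := fun l => by
    have := hLv _ (B.qQ l)
    rwa [hdq, B.qv, eq_comm] at this
  have hdQ : d ∈ Q := B.co.ker d hdz fun a ha => by
    rw [hLv a ha, app, B.hyp.expand (v a)]
    simp only [comb, vec, map_add, map_cond, hLx, hLf]
  refine B.swap.mem_E.mpr ⟨hdQ, fun l => ?_⟩
  rw [← B.qv l, bf_comm, B.co.comm d hdQ _ (B.qQ l)]
  exact mul_inv_eq_iff_eq_mul.mp (hdq l)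

end Lifts

end CfsgLib.CoOneGolay
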