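import Mathlib

/-!
A group generated by three involutions with the relations of the unitriangular group of degree four.
-/

set_option autoImplicit false

namespace CfsgLib.CoOneGolay

variable {K : Type*} [Group K]

/-- A word in the six root elements, in the order from the central one. -/
def word6 (a b c d e f : K) (i j k l m n : Bool) : K :=
  cond i f 1 * (cond j e 1 * (cond k d 1 * (cond l c 1 * (cond m b 1 * cond n a 1))))

theorem swap_tail {x y w r : K} (h : x * y = r) : x * (y * w) = r * w := by rw [← mul_assoc, h]

/-- The words form a subgroup containing the three generators. -/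
theorem mem_word6 {a b c d e f : K} (ha : a * a = 1) (hb : b * b = 1) (hc : c * c = 1) (hd : d * d = 1)
    (he : e * e = 1) (hf : f * f = 1) (ac : a * c = c * a) (ad : a * d = d * a) (af : a * f = f * a)
    (bd : b * d = d * b) (be : b * e = e * b) (bf : b * f = f * b) (ce : c * e = e * c) (cf : c * f = f * c)
    (de : d * e = e * d) (df : d * f = f * d) (ef : e * f = f * e) (ab : a * b = d * (b * a))
    (bc : b * c = e * (c * b)) (ae : a * e = f * (e * a)) (cd : c * d = f * (d * c))
    {w : K} (hw : w ∈ Subgroup.closure ({a, b, c} : Set K)) :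
    ∃ i j k l m n, w = word6 a b c d e f i j k l m n := by
  have hA : ∀ i j k l m n, a * word6 a b c d e f i j k l m n =
      word6 a b c d e f (i ^^ j ^^ (l && m)) j (k ^^ m) l m (!n) := by
    intro i j k l m n
    cases i <;> cases j <;> cases k <;> cases l <;> cases m <;> cases n <;>
      simp only [word6, cond_true, cond_false, one_mul, mul_one, Bool.xor_false, Bool.false_xor, Bool.and_true,
        Bool.and_false, Bool.not_true, Bool.not_false, Bool.true_xor, Bool.xor_true, Bool.false_and,
        Bool.true_and, mul_assoc, ha, hb, hc, hd, he, hf, ac, ad, af, bd, be, bf, ce, cf, de, df, ef, ab, bc,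
        ae, cd, swap_tail ha, swap_tail hb, swap_tail hc, swap_tail hd, swap_tail he, swap_tail hf,
        swap_tail ac, swap_tail ad, swap_tail af, swap_tail bd, swap_tail be, swap_tail bf, swap_tail ce,
        swap_tail cf, swap_tail de, swap_tail df, swap_tail ef, swap_tail ab, swap_tail bc, swap_tail ae,
        swap_tail cd]
  have hB : ∀ i j k l m n, b * word6 a b c d e f i j k l m n =
      word6 a b c d e f i (j ^^ l) k l (!m) n := by
    intro i j k l m n
    cases i <;> cases j <;> cases k <;> cases l <;> cases m <;> cases n <;>
      simp only [word6, cond_true, cond_false, one_mul, mul_one, Bool.xor_false, Bool.false_xor, Bool.not_true,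
        Bool.not_false, Bool.true_xor, Bool.xor_true, mul_assoc, hb, he, bd, be, bf, de, df, ef, bc,
        swap_tail hb, swap_tail he, swap_tail bd, swap_tail be, swap_tail bf, swap_tail de, swap_tail df,
        swap_tail ef, swap_tail bc]
  have hC : ∀ i j k l m n, c * word6 a b c d e f i j k l m n =
      word6 a b c d e f (i ^^ k) j k (!l) m n := by
    intro i j k l m n
    cases i <;> cases j <;> cases k <;> cases l <;> cases m <;> cases n <;>
      simp only [word6, cond_true, cond_false, one_mul, mul_one, Bool.xor_false, Bool.false_xor, Bool.not_true,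
        Bool.not_false, Bool.true_xor, Bool.xor_true, mul_assoc, hc, hf, ce, cf, de, df, ef, cd,
        swap_tail hc, swap_tail hf, swap_tail ce, swap_tail cf, swap_tail de, swap_tail df,
        swap_tail ef, swap_tail cd]
  induction hw using Subgroup.closure_induction_left with
  | one => exact ⟨false, false, false, false, false, false, by simp [word6]⟩
  | mul_left s hs y _ hy =>
    obtain ⟨i, j, k, l, m, n, rfl⟩ := hy
    rcases hs with rfl | rfl | rfl
    exacts [⟨_, _, _, _, _, _, hA i j k l m n⟩, ⟨_, _, _, _, _, _, hB i j k l m n⟩,
      ⟨_, _, _, _, _, _, hC i j k l m n⟩]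
  | inv_mul_cancel s hs y _ hy =>
    obtain ⟨i, j, k, l, m, n, rfl⟩ := hy
    rcases hs with rfl | rfl | rfl
    exacts [⟨_, _, _, _, _, _, (by rw [inv_eq_of_mul_eq_one_right ha]; exact hA i j k l m n)⟩,
      ⟨_, _, _, _, _, _, (by rw [inv_eq_of_mul_eq_one_right hb]; exact hB i j k l m n)⟩,
      ⟨_, _, _, _, _, _, (by rw [inv_eq_of_mul_eq_one_right hc]; exact hC i j k l m n)⟩]

end CfsgLib.CoOneGolay
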