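import Cfsg.Agent.Lib.CoOneGolay.Quot
import Cfsg.Agent.Lib.CoOneGolay.Roots
import Cfsg.Agent.Lib.CoOneGolay.Unitri
import Cfsg.Agent.Lib.Gaschutz.Split

/-!
A subgroup of order `2^10` of the normaliser meeting the centraliser trivially, and the complement.
-/

set_option autoImplicit false

namespace CfsgLib.CoOneGolay

open CfsgLib.CoOneType CfsgLib.Extraspecial CfsgLib.Extraspecial.Pair

/-- The action of a selected element. -/
def selU (b : Bool) (U : Fin 4 → ℕ) (l : Fin 4) : ℕ := cond b (U l) (2 ^ l.1)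

/-- The action of a word on the basis. -/
def wordU (i j k l m n : Bool) (p : Fin 4) : ℕ :=
  rowC (rowC (rowC (rowC (rowC (selU n (rootU 0 1) p) (selU m (rootU 1 2))) (selU l (rootU 2 3)))
    (selU k (rootU 0 2))) (selU j (rootU 1 3))) (selU i (rootU 0 3))

theorem wordU_inj : ∀ i j k l m n i' j' k' l' m' n' : Bool,
    (∀ p, wordU i j k l m n p = wordU i' j' k' l' m' n' p) →
      (i = i' ∧ j = j' ∧ k = k') ∧ (l = l' ∧ m = m' ∧ n = n') := by
  decide +kernel

theorem wordU_lt : ∀ i j k l m n : Bool, ∀ p, wordU i j k l m n p < 16 := by decide +kernel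

theorem wordU_id : ∀ p, wordU false false false false false false p = 2 ^ p.1 := by decide +kernel

theorem comm_root_U : ∀ p : Fin 4,
    (rowC (rowC (rowC (rootU 1 2 p) (rootU 0 1)) (rootU 1 2)) (rootU 0 1) = rootU 0 2 p ∧
      rowC (rowC (rowC (rootW 1 2 p) (rootW 0 1)) (rootW 1 2)) (rootW 0 1) = rootW 0 2 p) ∧
    (rowC (rowC (rowC (rootU 2 3 p) (rootU 1 2)) (rootU 2 3)) (rootU 1 2) = rootU 1 3 p ∧
      rowC (rowC (rowC (rootW 2 3 p) (rootW 1 2)) (rootW 2 3)) (rootW 1 2) = rootW 1 3 p) ∧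
    (rowC (rowC (rowC (rootU 1 3 p) (rootU 0 1)) (rootU 1 3)) (rootU 0 1) = rootU 0 3 p ∧
      rowC (rowC (rowC (rootW 1 3 p) (rootW 0 1)) (rootW 1 3)) (rootW 0 1) = rootW 0 3 p) := by
  decide +kernel

variable {G : Type*} [Group G] [Finite G]

namespace Lifts

variable {z : G} {Q : Subgroup G} {v : G → V8} {e f : Fin 4 → V8} {x q : Fin 4 → G}
  (B : Lifts z Q v e f x q)
include B

theorem comm_q (i j : Fin 4) : q i * q j = q j * q i :=
  (B.co.comm _ (B.qQ i) _ (B.qQ j)).mp (by rw [B.qv, B.qv]; exact B.hyp.ff i j)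

theorem act_pp (n : ℕ) : HasAct B (pp q n) (fun l => 2 ^ l.1) (fun l => 2 ^ l.1) := by
  obtain ⟨hQ, -⟩ := B.swap.pp_x n
  refine ⟨B.co.commute_z hQ, fun l => ?_, fun l => ?_⟩
  · rw [B.co.v_inner hQ (B.xQ l), B.xv, vec_two_pow]
  · have hc : Commute (pp q n) (q l) := by
      have : ∀ (d : Bool) k, Commute (cond d (q k) 1) (q l) := fun d k => by
        cases d
        · exact Commute.one_left _
        · exact B.comm_q k l
      exact (((this _ _).mul_left (this _ _)).mul_left (this _ _)).mul_left (this _ _)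
    rw [hc.eq, mul_inv_cancel_right, B.swap.pp_two_pow]

theorem act_z {w : G} {U W : Fin 4 → ℕ} (h : HasAct B w U W) (d : Bool) : HasAct B (w * cond d z 1) U W := by
  cases d
  · rwa [cond_false, mul_one]
  · refine ⟨(show Commute w z from h.cz).mul_left (Commute.refl z), fun l => ?_, fun l => ?_⟩
    · rw [cond_true, show w * z * x l * (w * z)⁻¹ = w * (z * x l * z⁻¹) * w⁻¹ by group,
        ← B.co.commute_z (B.xQ l), mul_inv_cancel_right]
      exact h.hx l
    · rw [cond_true, show w * z * q l * (w * z)⁻¹ = w * (z * q l * z⁻¹) * w⁻¹ by group,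
        ← B.co.commute_z (B.qQ l), mul_inv_cancel_right]
      exact h.hq l

theorem act_sel {w : G} {U W : Fin 4 → ℕ} (h : HasAct B w U W) (d : Bool) :
    HasAct B (cond d w 1) (selU d U) (selU d W) := by
  cases d
  · exact B.act_one
  · exact h

theorem act_normalizer {w : G} {U W : Fin 4 → ℕ} (h : HasAct B w U W) :
    w ∈ Subgroup.normalizer (Asub z x : Set G) := by
  obtain ⟨L, hL, hLv⟩ := B.co.par w h.cz
  refine mem_normalizer_of_le fun a ha => B.conj_A' B h.cz hL hLv (fun i j => ?_) ha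
  have h1 := hLv _ (B.xQ j)
  rw [B.xv, h.hx j, app] at h1
  rw [← h1]
  exact B.hyp.bf_e_vec i _

theorem act_same_split {w w' : G} {U W : Fin 4 → ℕ} (h : HasAct B w U W) (h' : HasAct B w' U W) :
    ∃ d n, w' = w * cond d z 1 * pp q n := by
  have hm := B.act_same h h'
  obtain ⟨n, -, hn⟩ := B.swap.E_vec hm
  rcases B.co.eq_or (B.swap.E_le_Q hm) (B.swap.pp_x n).1 (hn.trans (B.swap.pp_x n).2.symm) with e' | e'
  · exact ⟨false, n, by rw [cond_false, mul_one, ← e', mul_inv_cancel_left]⟩
  · exact ⟨true, n, by rw [cond_true, mul_assoc, ← e', mul_inv_cancel_left]⟩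

theorem pp_q_eq_zero {n : ℕ} (hn : n < 16) (h : pp q n ∈ Asub z x) : n = 0 := by
  have h1 := (B.mem_E.mp (B.A_Q h (B.swap.pp_x n).1)).2
  refine Nat.eq_of_testBit_eq fun i => ?_
  rw [Nat.zero_testBit]
  by_cases hi : i < 4
  · have h2 := h1 ⟨i, hi⟩
    rw [(B.swap.pp_x n).2, B.hyp.swap.bf_f_vec] at h2
    exact h2
  · exact Nat.testBit_lt_two_pow (lt_of_lt_of_le hn
      (show 2 ^ 4 ≤ 2 ^ i from Nat.pow_le_pow_right (by norm_num) (by omega)))

end Lifts

/-- The products of the dual lifts. -/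
def Fsub {z : G} {Q : Subgroup G} {v : G → V8} {e f : Fin 4 → V8} {x q : Fin 4 → G}
    (B : Lifts z Q v e f x q) : Subgroup G where
  carrier := Set.range (pp q)
  one_mem' := ⟨0, by simp [pp]⟩
  mul_mem' := by rintro _ _ ⟨m, rfl⟩ ⟨n, rfl⟩; exact ⟨m ^^^ n, B.swap.pp_xor m n⟩
  inv_mem' := by
    rintro _ ⟨m, rfl⟩
    refine ⟨m, (inv_eq_of_mul_eq_one_right ?_).symm⟩
    rw [← B.swap.pp_xor, Nat.xor_self]
    simp [pp]

theorem Lifts.pp_mod {z : G} {Q : Subgroup G} {v : G → V8} {e f : Fin 4 → V8} {x q : Fin 4 → G}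
    (_B : Lifts z Q v e f x q) (n : ℕ) : pp q n = pp q (n % 16) := by
  simp only [pp, show (16 : ℕ) = 2 ^ 4 from rfl, Nat.testBit_mod_two_pow]
  norm_num

theorem comm_form {K : Type*} [Group K] {a b d : K} (ha : a * a = 1) (hb : b * b = 1)
    (h : a * b * (a * b) = d) : a * b = d * (b * a) := by
  rw [← h]
  calc a * b = a * b * (a * b) * ((a * b)⁻¹) := by group
    _ = _ := by rw [mul_inv_rev, inv_eq_of_mul_eq_one_right ha, inv_eq_of_mul_eq_one_right hb]

theorem third_comm {K : Type*} [Group K] {a b c d e f : K} (hc : c * c = 1) (he : e * e = 1) (hf : f * f = 1)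
    (ac : a * c = c * a) (be : b * e = e * b) (af : a * f = f * a) (bf : b * f = f * b) (df : d * f = f * d)
    (ef : e * f = f * e) (ab : a * b * (a * b) = d) (bc : b * c = e * (c * b)) (ae : a * e = f * (e * a)) :
    c * d = f * (d * c) := by
  have cbc : c * b * c = b * e := by
    calc c * b * c = e * e * (c * b) * c := by rw [he, one_mul]
      _ = e * (e * (c * b)) * c := by group
      _ = e * b * (c * c) := by rw [← bc]; group
      _ = b * e := by rw [hc, mul_one, be]
  have ea : e * a = a * (e * f) := by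
    calc e * a = f * f * (e * a) := by rw [hf, one_mul]
      _ = f * (a * e) := by rw [ae, mul_assoc]
      _ = a * f * e := by rw [af, mul_assoc]
      _ = _ := by rw [mul_assoc, ef]
  calc c * d = c * d * c * c := by rw [mul_assoc (c * d), hc, mul_one]
    _ = (a * (c * b * c)) * (a * (c * b * c)) * c := by
      refine congrArg (· * c) ?_
      rw [← ab]
      calc c * (a * b * (a * b)) * c = c * a * b * (c * c) * a * b * c := by rw [hc]; group
        _ = (c * a) * b * c * (c * a) * b * c := by group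
        _ = a * c * b * c * (a * c) * b * c := by rw [← ac]
        _ = _ := by group
    _ = a * b * (e * a) * b * e * c := by rw [cbc]; group
    _ = a * b * a * (e * f * b) * e * c := by rw [ea]; group
    _ = a * b * a * b * (e * f) * e * c := by
      rw [show e * f * b = b * (e * f) by rw [mul_assoc, ← bf, ← mul_assoc, ← be, mul_assoc]]; group
    _ = d * (f * (e * e)) * c := by rw [← ab, ef]; group
    _ = _ := by rw [he, mul_one, df, mul_assoc]

end CfsgLib.CoOneGolay
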