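import Cfsg.Agent.Lib.CoOneGolay.Frames

/-!
The conjugation tables on eleven coordinates.
-/

set_option autoImplicit false

namespace CfsgLib.CoOneGolay

/-- The value of a linear table on the low bits of a number. -/
def linR (img : ℕ → ℕ) : ℕ → ℕ → ℕ
  | 0, _ => 0
  | m + 1, n => cond (n.testBit m) (img m) 0 ^^^ linR img m n

/-- The image of a coordinate vector under a dual lift. -/
def qImg (l : Fin 4) (i : ℕ) : ℕ :=
  if i = 0 then 1 else if i < 5 then 2 ^ i ^^^ cond (i == l.1 + 1) 1 0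
  else 2 ^ i ^^^ (row (2 ^ (i - 5)) l <<< 1)

/-- The image of a coordinate vector under the rotation with parameter `b`. -/
def rImg (b : ℕ) (i : ℕ) : ℕ :=
  if i = 0 then 2 else if i = 1 then 3 else if i < 5 then 2 ^ i ^^^ 2 ^ (i + 3)
  else if i < 8 then 2 ^ (i - 3) else 2 ^ i ^^^ ((b >>> (3 * (i - 8)) % 8) <<< 5)

/-- The action of a dual lift. -/
def qTab (l : Fin 4) (n : ℕ) : ℕ := linR (qImg l) 11 n

/-- The action of the rotation. -/
def rTab (b n : ℕ) : ℕ := linR (rImg b) 11 n

/-- The action of a product of dual lifts. -/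
def qcTab (c n : ℕ) : ℕ :=
  let f := fun (l : Fin 4) (m : ℕ) => cond (c.testBit l.1) (qTab l m) m
  f 0 (f 1 (f 2 (f 3 n)))

theorem mod_two_pow_succ_xor (n m : ℕ) :
    n % 2 ^ (m + 1) = cond (n.testBit m) (2 ^ m) 0 ^^^ n % 2 ^ m := by
  refine Nat.eq_of_testBit_eq fun i => ?_
  rw [Nat.testBit_xor, Nat.testBit_mod_two_pow, Nat.testBit_mod_two_pow]
  cases hb : n.testBit m <;> simp only [cond_true, cond_false, Nat.testBit_two_pow, Nat.zero_testBit]
  · by_cases h : i = m
    · subst h; simp [hb]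
    · simp [show (i < m + 1) ↔ (i < m) by omega]
  · by_cases h : i = m
    · subst h; simp [hb]
    · simp [show (i < m + 1) ↔ (i < m) by omega, Ne.symm h]

end CfsgLib.CoOneGolay
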