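import Cfsg.Agent.Lib.CoOneGolay.Cross
import Cfsg.Agent.Lib.CoOneGolay.Tables

/-!
Eleven coordinates on the centraliser, the rotation and the dual lifts in these coordinates.
-/

set_option autoImplicit false

namespace CfsgLib.CoOneGolay

open CfsgLib.CoOneType CfsgLib.Extraspecial CfsgLib.Extraspecial.Pair

variable {G : Type*} [Group G] [Finite G]

/-- A product with exponents the six low bits of a number. -/
def p6 (y : Fin 6 → G) (n : ℕ) : G :=
  cond (n.testBit 0) (y 0) 1 * cond (n.testBit 1) (y 1) 1 * cond (n.testBit 2) (y 2) 1 *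
    cond (n.testBit 3) (y 3) 1 * cond (n.testBit 4) (y 4) 1 * cond (n.testBit 5) (y 5) 1

/-- The element with given coordinates. -/
def el (z : G) (x : Fin 4 → G) (y : Fin 6 → G) (n : ℕ) : G :=
  cond (n.testBit 0) z 1 * pp x (n >>> 1) * p6 y (n >>> 5)

/-- Coordinates adapted to a rotation. -/
structure Crd {z : G} {Q : Subgroup G} {v : G → V8} {e f : Fin 4 → V8} {x q : Fin 4 → G}
    (B : Lifts z Q v e f x q) (y : Fin 6 → G) (ρ : G) (b : ℕ) : Prop where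
  ea : Cfsg.IsElementaryAbelian 2 (Asub z x)
  rows : ∀ k, B.HasRow (y k) (2 ^ k.1)
  qy : ∀ k l, q l * y k * (q l)⁻¹ = pp x (row (2 ^ k.1) l) * y k
  blt : b < 512
  rN : ρ ∈ Subgroup.normalizer (Asub z x : Set G)
  ract : ∀ i < 11, ρ * el z x y (2 ^ i) * ρ⁻¹ = el z x y (rImg b i)

theorem cond_mul_cond {M : Type*} [Monoid M] (a b : Bool) {w : M} (hw : w * w = 1) :
    cond a w 1 * cond b w 1 = cond (a ^^ b) w 1 := by
  cases a <;> cases b <;> simp [hw]

theorem mem_normalizer_of_le {H : Subgroup G} {c : G} (h : ∀ a ∈ H, c * a * c⁻¹ ∈ H) :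
    c ∈ Subgroup.normalizer (H : Set G) := by
  have hle : H.map (MulAut.conj c).toMonoidHom ≤ H := by
    rintro w ⟨a, ha, rfl⟩
    exact h a ha
  have he : H.map (MulAut.conj c).toMonoidHom = H := Subgroup.eq_of_le_of_card_ge hle
    (by rw [Subgroup.card_map_of_injective (MulAut.conj c).injective])
  rw [Subgroup.mem_normalizer_iff]
  refine fun a => ⟨h a, fun ha => ?_⟩
  obtain ⟨w, hw, hwa⟩ := he.ge ha
  rw [MulEquiv.coe_toMonoidHom, MulAut.conj_apply] at hwa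
  rwa [← mul_left_cancel (mul_right_cancel hwa)]

theorem code3 : ∀ d : Fin 4 → Bool, d 0 = false → ∃ n < 8, code d = n <<< 1 := by decide +kernel

theorem p6_low (y : Fin 6 → G) (n : ℕ) (hn : n < 8) :
    p6 y n = cond (n.testBit 0) (y 0) 1 * cond (n.testBit 1) (y 1) 1 * cond (n.testBit 2) (y 2) 1 := by
  have h : ∀ n < 8, n.testBit 3 = false ∧ n.testBit 4 = false ∧ n.testBit 5 = false := by decide +kernel
  obtain ⟨h3, h4, h5⟩ := h n hn
  simp [p6, h3, h4, h5]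

namespace Lifts

variable {z : G} {Q : Subgroup G} {v : G → V8} {e f : Fin 4 → V8} {x q : Fin 4 → G}
  (B : Lifts z Q v e f x q)
include B

theorem A_comm (hA : Cfsg.IsElementaryAbelian 2 (Asub z x)) {a b : G} (ha : a ∈ Asub z x)
    (hb : b ∈ Asub z x) : a * b = b * a :=
  congrArg Subtype.val (hA.1.1.1 (⟨a, ha⟩ : Asub z x) ⟨b, hb⟩)

theorem A_sq (hA : Cfsg.IsElementaryAbelian 2 (Asub z x)) {a : G} (ha : a ∈ Asub z x) : a * a = 1 := by
  rw [← pow_two]; exact hA.2 a ha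

theorem A_mul4 (hA : Cfsg.IsElementaryAbelian 2 (Asub z x)) {a b c d : G} (hb : b ∈ Asub z x)
    (hc : c ∈ Asub z x) : a * b * (c * d) = a * c * (b * d) := by
  rw [mul_assoc, ← mul_assoc b, B.A_comm hA hb hc, mul_assoc, mul_assoc]

theorem cond_x_mem (b : Bool) (i : Fin 4) : cond b (x i) 1 ∈ Asub z x := by
  cases b
  · exact one_mem _
  · exact B.E_le_A (B.x_mem i)

theorem pp_xor (m n : ℕ) : pp x (m ^^^ n) = pp x m * pp x n := by
  have hx : ∀ (b : Bool) i, cond b (x i) 1 ∈ Esub z x := fun b i => by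
    cases b
    · exact one_mem _
    · exact B.x_mem i
  have h4 : ∀ {a b c d : G}, b ∈ Esub z x → c ∈ Esub z x → a * b * (c * d) = a * c * (b * d) := by
    intro a b c d hb hc
    rw [mul_assoc, ← mul_assoc b, B.E_comm hb hc, mul_assoc, mul_assoc]
  simp only [pp, Nat.testBit_xor]
  simp only [← cond_mul_cond _ _ (B.x_sq _)]
  set a0 := cond (m.testBit 0) (x 0) 1
  set a1 := cond (m.testBit 1) (x 1) 1
  set a2 := cond (m.testBit 2) (x 2) 1
  set a3 := cond (m.testBit 3) (x 3) 1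
  set b0 := cond (n.testBit 0) (x 0) 1
  set b1 := cond (n.testBit 1) (x 1) 1
  set b2 := cond (n.testBit 2) (x 2) 1
  set b3 := cond (n.testBit 3) (x 3) 1
  symm
  rw [h4 (hx _ _) (mul_mem (mul_mem (hx _ _) (hx _ _)) (hx _ _)), h4 (hx _ _) (mul_mem (hx _ _) (hx _ _)),
    h4 (hx _ _) (hx _ _)]

theorem pp_zero : pp x 0 = 1 := by simp [pp]

theorem pp_two_pow (i : Fin 4) : pp x (2 ^ i.1) = x i := by
  simp only [pp, Nat.testBit_two_pow]
  fin_cases i <;> simp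

theorem cmm_x (i l : Fin 4) : cmm (x i) (q l) = cond (decide (i = l)) z 1 := by
  rcases B.co.st.comm_cases (B.qQ l) (B.xQ i) with h | h
  · have h2 := (B.co.comm _ (B.qQ l) _ (B.xQ i)).mpr (mul_inv_eq_iff_eq_mul.mp h)
    rw [B.qv, B.xv, bf_comm, B.hyp.ef] at h2
    rw [cmm, h, mul_inv_cancel, h2, cond_false]
  · have h2 : decide (i = l) = true := by
      rw [← B.hyp.ef, bf_comm, ← B.qv, ← B.xv]
      by_contra hne
      rw [Bool.not_eq_true] at hne
      rw [(B.co.comm _ (B.qQ l) _ (B.xQ i)).mp hne, mul_inv_cancel_right] at h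
      exact B.co.st.ne_one (mul_eq_right.mp h.symm)
    rw [cmm, h, mul_inv_cancel_right, h2, cond_true]

theorem cmm_pp (n : ℕ) (l : Fin 4) : cmm (pp x n) (q l) = cond (n.testBit l.1) z 1 := by
  have hc : ∀ (b : Bool) i, cmm (cond b (x i) 1) (q l) = cond (b && decide (i = l)) z 1 := fun b i => by
    cases b
    · simp [cmm]
    · simpa using B.cmm_x i l
  rw [pp, B.cmm_mul (mul_mem (mul_mem (B.cond_x_mem _ _) (B.cond_x_mem _ _)) (B.cond_x_mem _ _))
      (B.cond_x_mem _ _) (B.qQ l), B.cmm_mul (mul_mem (B.cond_x_mem _ _) (B.cond_x_mem _ _))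
      (B.cond_x_mem _ _) (B.qQ l), B.cmm_mul (B.cond_x_mem _ _) (B.cond_x_mem _ _) (B.qQ l),
    hc, hc, hc, hc]
  fin_cases l <;> simp

theorem cmm_cases {a : G} {M : ℕ} (ha : B.HasRow a M) (l : Fin 4) :
    ∃ d : Bool, cmm a (q l) = cond d z 1 * pp x (row M l) := by
  rcases B.co.eq_or (B.E_le_Q (B.cmm_mem ha.1 (B.qQ l))) (B.pp_x _).1 ((ha.2 l).trans (B.pp_x _).2.symm)
    with h | h
  · exact ⟨false, h.trans (one_mul _).symm⟩
  · exact ⟨true, h⟩

theorem exists_rot_fixed {g ρ : G} (hA : Cfsg.IsElementaryAbelian 2 (Asub z x))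
    (F : Fr z Q v g (q 0)) (hg : g * z * g⁻¹ = x 0) (T : Rot z Q g (q 0) ρ) {i j : Fin 4} {M : ℕ}
    (hi : i ≠ 0) (hj : j ≠ 0) (hM : ∀ l, wrow (2 ^ i.1) (2 ^ j.1) l = row M l) (hM64 : M < 64)
    (ha : ∀ l, l ≠ 0 → ρ * x l * ρ⁻¹ ∈ Asub z x) :
    ∃ k, B.HasRow k M ∧ ρ * k * ρ⁻¹ = k ∧ cmm k (q 0) = 1 := by
  obtain ⟨g3, u3, F3, hg3, t, htA, ht', htj, ht2⟩ := B.exists_edge_frame i j
  have htrow := B.edge_row F3 hg3 htA ht' htj hM
  have hq0 : q 0 * t = t * q 0 := B.edge_comm F3 hg3 htA ht' htj hi.symm hj.symm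
  obtain ⟨htz, htx⟩ := B.mem_A.mp htA
  obtain ⟨p, hp, hk, hpu, -⟩ := rot_lift F T htz (by rw [hg]; exact htx 0)
    (by rw [hq0, mul_inv_cancel_right]) ht2
  have hpE : p ∈ Esub z x := by
    refine B.mem_E.mpr ⟨(F.mem_P.mp hp).1, fun l => ?_⟩
    by_cases hl : l = 0
    · subst hl; rw [bf_comm, ← B.xv, ← hg]; exact F.P_perp hp
    have hs : bf (v (g * z * g⁻¹)) (v (x l)) = false := by rw [hg, B.xv, B.xv]; exact B.hyp.ee 0 l
    have tw := rot_twist F T (F.mem_P_of (B.xQ l) (by rw [bf_comm]; exact hs))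
      (by rw [htx l, mul_inv_cancel_right]) hp hk
    rw [B.A_comm hA htA (ha l hl), mul_inv_cancel_right] at tw
    rw [bf_comm, ← B.xv l]
    by_contra hne
    rw [Bool.not_eq_false] at hne
    rw [hne, cond_true] at tw
    exact B.co.st.ne_one (mul_eq_right.mp tw.symm)
  refine ⟨p * t, ?_, mul_inv_eq_iff_eq_mul.mpr hk, ?_⟩
  · have := B.hasRow_mul (by norm_num) hM64 (B.hasRow_E hpE) htrow
    rwa [Nat.zero_xor] at this
  · rw [cmm, show q 0 * (p * t) * (q 0)⁻¹ = (q 0 * p * (q 0)⁻¹) * (q 0 * t * (q 0)⁻¹) by group, hpu, hq0,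
      mul_inv_cancel_right, mul_inv_cancel]

theorem normalised {ρ k : G} (hA : Cfsg.IsElementaryAbelian 2 (Asub z x))
    {M : ℕ} (hM : M < 64) (hM0 : row M 0 = 0) (hk : B.HasRow k M) (hkρ : ρ * k * ρ⁻¹ = k)
    (hku : cmm k (q 0) = 1) : ∃ n < 8, B.HasRow (k * pp x (n <<< 1)) M ∧
      ∀ l, q l * (k * pp x (n <<< 1)) * (q l)⁻¹ = pp x (row M l) * (k * pp x (n <<< 1)) := by
  choose d hd using B.cmm_cases hk
  have hd0 : d 0 = false := by
    by_contra h
    rw [Bool.not_eq_false] at h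
    have := hd 0
    rw [hku, h, hM0, B.pp_zero, cond_true, mul_one] at this
    exact B.co.st.ne_one this.symm
  obtain ⟨n, hn, hcode⟩ := code3 d hd0
  refine ⟨n, hn, ?_, fun l => ?_⟩
  · have := B.hasRow_mul hM (by norm_num) hk (B.hasRow_E (B.pp_mem (n <<< 1)))
    rwa [Nat.xor_zero] at this
  have hb : (n <<< 1).testBit l.1 = d l := by rw [← hcode, code_bit]
  have hy : k * pp x (n <<< 1) ∈ Asub z x := mul_mem hk.1 (B.E_le_A (B.pp_mem _))
  have hc : cmm (k * pp x (n <<< 1)) (q l) = pp x (row M l) := by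
    rw [B.cmm_mul hk.1 (B.E_le_A (B.pp_mem _)) (B.qQ l), hd, B.cmm_pp, hb]
    cases d l
    · simp
    · rw [cond_true, ← B.E_comm (mul_mem B.z_mem_E (B.pp_mem _)) B.z_mem_E |>.symm, ← mul_assoc, B.co.st.zz,
        one_mul]
  rw [← hc, cmm]
  group

theorem exists_crd (hc : B.Cross) : ∃ y ρ b, Crd B y ρ b ∧ ρ * z * ρ⁻¹ = x 0 := by
  have hA := B.elementary hc
  obtain ⟨g, hg, c⟩ := B.co.exists_pair (B.xQ 0) (B.x_sq 0) (B.ne_of_vec (by rw [B.xv]; exact B.e_ne 0)).1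
    (B.ne_of_vec (by rw [B.xv]; exact B.e_ne 0)).2
  have F : Fr z Q v g (q 0) := fr_of B.co c (B.qQ 0) (by rw [hg, B.qv, B.xv, B.hyp.swap.ef]; rfl)
  obtain ⟨ρ, T⟩ := exists_rot F (B.q_sq 0)
  have hs : ∀ i, bf (e i) (v (g * z * g⁻¹)) = false := fun i => by
    rw [hg, B.xv]; exact B.hyp.ee i 0
  set a : Fin 4 → G := fun l => ρ * x l * ρ⁻¹ with ha
  have hP : ∀ l, x l ∈ P Q z g := B.x_mem_P F hs
  have hal : ∀ l, Eqm (v (g * z * g⁻¹)) (v (al (q 0) (a l))) (e l) := fun l => by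
    have := rot_al F T (hP l); rwa [B.xv] at this
  have haA : ∀ l, a l ∈ Asub z x := fun l =>
    B.qa_of_al F hs (rot_P F T (hP l)) fun i => by rw [(hal l).bf_eq (hs i)]; exact B.hyp.ee i l
  have hρV : ρ * z * ρ⁻¹ = x 0 ∧ ρ * x 0 * ρ⁻¹ = z * x 0 := ⟨hg ▸ T.rz, hg ▸ T.rs⟩
  have hb : ∀ l, ρ * a l * ρ⁻¹ = x l * a l := by
    intro l
    set b := ρ * a l * ρ⁻¹ with hbdef
    have hm := rot_orbit F T (hP l)
    have hVE : V z g ≤ Esub z x := (Subgroup.closure_le _).mpr (by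
      rintro w (rfl | rfl)
      exacts [B.z_mem_E, hg.symm ▸ B.x_mem 0])
    have hxA := B.E_le_A (B.x_mem l)
    have hbA : b ∈ Asub z x := by
      have h := mul_mem (inv_mem (mul_mem hxA (haA l))) (B.E_le_A (hVE hm))
      rwa [show (x l * a l)⁻¹ * (x l * (ρ * x l * ρ⁻¹) * (ρ * (ρ * x l * ρ⁻¹) * ρ⁻¹)) = b by
        rw [hbdef]; simp only [ha]; group] at h
    have hb3 : ρ * b * ρ⁻¹ = x l := by
      rw [hbdef]
      simp only [ha]
      rw [show ρ * (ρ * (ρ * x l * ρ⁻¹) * ρ⁻¹) * ρ⁻¹ = ρ * ρ * ρ * x l * (ρ * ρ * ρ)⁻¹ by group, T.cube]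
      group
    have hfix : ρ * (x l * a l * b) = x l * a l * b * ρ := by
      refine mul_inv_eq_iff_eq_mul.mp ?_
      have e : ρ * (x l * a l * b) * ρ⁻¹ = (ρ * x l * ρ⁻¹) * (ρ * a l * ρ⁻¹) * (ρ * b * ρ⁻¹) := by group
      rw [e, ← hbdef, hb3]
      exact (B.A_comm hA (mul_mem (haA l) hbA) hxA).trans (mul_assoc _ _ _).symm
    have h1 := rot_V F T hm hfix
    exact (eq_inv_of_mul_eq_one_right h1).trans (inv_eq_of_mul_eq_one_right (B.A_sq hA (mul_mem hxA (haA l))))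
  have hk : ∀ (i j : Fin 4) (M : ℕ), i ≠ 0 → j ≠ 0 → (∀ l, wrow (2 ^ i.1) (2 ^ j.1) l = row M l) → M < 64 →
      row M 0 = 0 → ∃ k n, n < 8 ∧ ρ * k * ρ⁻¹ = k ∧ k ∈ Asub z x ∧ B.HasRow (k * pp x (n <<< 1)) M ∧
      ∀ l, q l * (k * pp x (n <<< 1)) * (q l)⁻¹ = pp x (row M l) * (k * pp x (n <<< 1)) := by
    intro i j M hi hj hM hM64 hM0
    obtain ⟨k, hk1, hk2, hk3⟩ := B.exists_rot_fixed hA F hg T hi hj hM hM64 fun l _ => haA l
    obtain ⟨n, hn, hn1, hn2⟩ := B.normalised hA hM64 hM0 hk1 hk2 hk3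
    exact ⟨k, n, hn, hk2, hk1.1, hn1, hn2⟩
  obtain ⟨k3, n3, l3, f3, m3, r3, c3⟩ :=
    hk 1 2 8 (by decide) (by decide) (by decide +kernel) (by norm_num) (by decide +kernel)
  obtain ⟨k4, n4, l4, f4, m4, r4, c4⟩ :=
    hk 1 3 16 (by decide) (by decide) (by decide +kernel) (by norm_num) (by decide +kernel)
  obtain ⟨k5, n5, l5, f5, m5, r5, c5⟩ :=
    hk 2 3 32 (by decide) (by decide) (by decide +kernel) (by norm_num) (by decide +kernel)
  set y : Fin 6 → G := ![x 1 * a 1, x 2 * a 2, x 3 * a 3, k3 * pp x (n3 <<< 1), k4 * pp x (n4 <<< 1),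
    k5 * pp x (n5 <<< 1)] with hy
  have hrow1 : ∀ (l : Fin 4) (M : ℕ), M < 64 → (∀ i, wrow (2 ^ (0 : Fin 4).1) (2 ^ l.1) i = row M i) →
      B.HasRow (x l * a l) M := fun l M hM hw => by
    have h1 : B.HasRow (a l) M := B.edge_row (i := 0) (j := l) F hg (haA l)
      (F.mem_P'.mp (rot_P F T (hP l))).1 (hal l).symm hw
    have := B.hasRow_mul (by norm_num) hM (B.hasRow_E (B.x_mem l)) h1
    rwa [Nat.zero_xor] at this
  have hrows : ∀ k, B.HasRow (y k) (2 ^ k.1) := by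
    intro k
    fin_cases k
    exacts [hrow1 1 1 (by norm_num) (by decide +kernel), hrow1 2 2 (by norm_num) (by decide +kernel),
      hrow1 3 4 (by norm_num) (by decide +kernel), r3, r4, r5]
  have hy1 : ∀ (l : Fin 4) (M : ℕ), l ≠ 0 → row M 0 = 2 ^ l.1 →
      (∀ i, i ≠ 0 → row M i = cond (decide (l = i)) 1 0) → ∀ i,
      q i * (x l * a l) * (q i)⁻¹ = pp x (row M i) * (x l * a l) := by
    intro l M hl hM0 hMi i
    have hc : cmm (x l * a l) (q i) = pp x (row M i) := by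
      rw [B.cmm_mul (B.E_le_A (B.x_mem l)) (haA l) (B.qQ i), B.cmm_x]
      by_cases hi : i = 0
      · subst hi
        rw [decide_eq_false hl, cond_false, one_mul, hM0, B.pp_two_pow]
        have hcx := B.cmm_x l 0
        rw [decide_eq_false hl, cond_false, cmm, mul_inv_eq_one] at hcx
        have hρ2 : ρ * ρ = ρ⁻¹ := eq_inv_of_mul_eq_one_left T.cube
        have e1 : q 0 * a l * (q 0)⁻¹ = x l * a l := by
          rw [← hb]
          simp only [ha]
          rw [show q 0 * (ρ * x l * ρ⁻¹) * (q 0)⁻¹ =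
              (q 0 * ρ * (q 0)⁻¹) * (q 0 * x l * (q 0)⁻¹) * (q 0 * ρ * (q 0)⁻¹)⁻¹ by group, T.inv, hcx,
            show ρ * (ρ * x l * ρ⁻¹) * ρ⁻¹ = (ρ * ρ) * x l * (ρ * ρ)⁻¹ by group, hρ2]
        rw [cmm, e1, mul_inv_cancel_right]
      · rw [hMi i hi]
        have hiP : q i ∈ P Q z g := F.mem_P_of (B.qQ i) (by
          rw [hg, B.qv, B.xv, B.hyp.swap.ef]; exact decide_eq_false hi)
        have hbf : bf (v (q i)) (v (al (q 0) (a l))) = decide (l = i) := by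
          rw [(hal l).bf_eq (F.P_perp hiP), B.qv, bf_comm, B.hyp.ef]
        have hc := F.comm_rel hiP (rot_P F T (hP l))
        rw [hbf] at hc
        by_cases h : l = i
        · rw [decide_eq_true h, cond_true, cond_true]
          rw [decide_eq_true h] at hc
          rw [cmm, hc.2 rfl, show z * (g * z * g⁻¹) * (a l * q i) * (q i)⁻¹ * (a l)⁻¹ =
            z * (g * z * g⁻¹) by group, ← mul_assoc, B.co.st.zz, one_mul, hg]
          exact (B.pp_two_pow 0).symm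
        · rw [decide_eq_false h, cond_false, cond_false, one_mul, B.pp_zero]
          rw [decide_eq_false h] at hc
          rw [cmm, hc.1 rfl, mul_inv_cancel_right, mul_inv_cancel]
    rw [← hc, cmm]
    group
  have hqy : ∀ k l, q l * y k * (q l)⁻¹ = pp x (row (2 ^ k.1) l) * y k := by
    intro k
    fin_cases k
    exacts [hy1 1 1 (by decide) (by decide +kernel) (by decide +kernel),
      hy1 2 2 (by decide) (by decide +kernel) (by decide +kernel),
      hy1 3 4 (by decide) (by decide +kernel) (by decide +kernel), c3, c4, c5]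
  set b := n3 + 8 * n4 + 64 * n5 with hbdef
  have hn : ∀ n < 8, ρ * pp x (n <<< 1) * ρ⁻¹ = pp x (n <<< 1) * p6 y n := by
    intro n hn
    have hc : ∀ (d : Bool) (l : Fin 4),
        ρ * cond d (x l) 1 * ρ⁻¹ = cond d (x l) 1 * cond d (x l * a l) 1 := fun d l => by
      cases d
      · simp
      · simp only [cond_true, ha]
        rw [← mul_assoc, B.x_sq, one_mul]
    have e : ∀ i : ℕ, (n <<< 1).testBit (i + 1) = n.testBit i := fun i => by simp [Nat.testBit_shiftLeft]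
    have e0' : (n <<< 1).testBit 0 = false := by simp [Nat.testBit_shiftLeft]
    have hcA : ∀ (d : Bool) (l : Fin 4), cond d (x l * a l) 1 ∈ Asub z x := fun d l => by
      cases d
      · exact one_mem _
      · exact mul_mem (B.E_le_A (B.x_mem l)) (haA l)
    rw [pp, e0', e 0, e 1, e 2, cond_false, one_mul, p6_low y n hn,
      show ρ * (cond (n.testBit 0) (x 1) 1 * cond (n.testBit 1) (x 2) 1 * cond (n.testBit 2) (x 3) 1) * ρ⁻¹ =
        (ρ * cond (n.testBit 0) (x 1) 1 * ρ⁻¹) * (ρ * cond (n.testBit 1) (x 2) 1 * ρ⁻¹) *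
          (ρ * cond (n.testBit 2) (x 3) 1 * ρ⁻¹) by group, hc, hc, hc,
      B.A_mul4 hA (hcA _ _) (B.cond_x_mem _ _),
      B.A_mul4 hA (mul_mem (hcA _ _) (hcA _ _)) (B.cond_x_mem _ _)]
    simp [hy]
  have hk' : ∀ (k : G) (n : ℕ), n < 8 → ρ * k * ρ⁻¹ = k →
      ρ * (k * pp x (n <<< 1)) * ρ⁻¹ = k * pp x (n <<< 1) * p6 y n := by
    intro k n hn' hk
    rw [show ρ * (k * pp x (n <<< 1)) * ρ⁻¹ = (ρ * k * ρ⁻¹) * (ρ * pp x (n <<< 1) * ρ⁻¹) by group, hk, hn n hn',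
      ← mul_assoc]
  have hp6 : ∀ n, p6 y n ∈ Asub z x := fun n => by
    have : ∀ (d : Bool) k, cond d (y k) 1 ∈ Asub z x := fun d k => by
      cases d
      · exact one_mem _
      · exact (hrows k).1
    exact mul_mem (mul_mem (mul_mem (mul_mem (mul_mem (this _ _) (this _ _)) (this _ _)) (this _ _)) (this _ _))
      (this _ _)
  have bits : ∀ n3 < 8, ∀ n4 < 8, ∀ n5 < 8, rImg (n3 + 8 * n4 + 64 * n5) 8 = 256 ^^^ (n3 <<< 5) ∧
      rImg (n3 + 8 * n4 + 64 * n5) 9 = 512 ^^^ (n4 <<< 5) ∧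
      rImg (n3 + 8 * n4 + 64 * n5) 10 = 1024 ^^^ (n5 <<< 5) := by
    decide +kernel
  obtain ⟨b8, b9, b10⟩ := bits n3 l3 n4 l4 n5 l5
  have rImg_low : ∀ i < 8, ∀ b, rImg b i = rImg 0 i := fun i hi b => by
    unfold rImg
    split_ifs <;> first | rfl | omega
  have hbig : ∀ (i : Fin 3) n, n < 8 → el z x y (2 ^ (8 + i.1) ^^^ (n <<< 5)) = y (⟨3 + i.1, by omega⟩) * p6 y n := by
    intro i n hn
    revert i
    have hb : ∀ n < 8, ∀ i : Fin 3, (2 ^ (8 + i.1) ^^^ (n <<< 5)) >>> 5 = 2 ^ (3 + i.1) + n ∧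
        (2 ^ (8 + i.1) ^^^ (n <<< 5)).testBit 0 = false ∧
        ∀ j : Fin 4, ((2 ^ (8 + i.1) ^^^ (n <<< 5)) >>> 1).testBit j.1 = false := by decide +kernel
    intro i
    obtain ⟨e1, e2, e3⟩ := hb n hn i
    have e30 := e3 0
    have e31 := e3 1
    have e32 := e3 2
    have e33 := e3 3
    simp only [Fin.val_zero, Fin.val_one, Fin.val_two, Fin.isValue] at e30 e31 e32 e33
    rw [el, e1, e2, pp, e30, e31, e32, show ((2 ^ (8 + i.1) ^^^ (n <<< 5)) >>> 1).testBit 3 = false from e33]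
    simp only [cond_false, one_mul]
    have hb6 : ∀ n < 8, ∀ i : Fin 3, ∀ j : Fin 6,
        (2 ^ (3 + i.1) + n).testBit j.1 = (decide (j.1 = 3 + i.1) ^^ n.testBit j.1) := by decide +kernel
    have h := hb6 n hn i
    have t : ∀ n < 8, n.testBit 3 = false ∧ n.testBit 4 = false ∧ n.testBit 5 = false := by decide +kernel
    obtain ⟨t3, t4, t5⟩ := t n hn
    have h0 : (2 ^ (3 + i.1) + n).testBit 0 = _ := h 0
    have h1 : (2 ^ (3 + i.1) + n).testBit 1 = _ := h 1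
    have h2 : (2 ^ (3 + i.1) + n).testBit 2 = _ := h 2
    have h3 : (2 ^ (3 + i.1) + n).testBit 3 = _ := h 3
    have h4 : (2 ^ (3 + i.1) + n).testBit 4 = _ := h 4
    have h5 : (2 ^ (3 + i.1) + n).testBit 5 = _ := h 5
    rw [p6_low y n hn, p6, h0, h1, h2, h3, h4, h5]
    have hcy : ∀ d k, cond d (y k) 1 ∈ Asub z x := fun d k => by
      cases d
      · exact one_mem _
      · exact (hrows k).1
    fin_cases i <;> simp [t3, t4, t5] <;>
      exact B.A_comm hA (mul_mem (mul_mem (hcy _ _) (hcy _ _)) (hcy _ _)) (hrows _).1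
  have hlow : el z x y 1 = z ∧ el z x y 2 = x 0 ∧ el z x y 4 = x 1 ∧ el z x y 8 = x 2 ∧ el z x y 16 = x 3 ∧
      el z x y 32 = x 1 * a 1 ∧ el z x y 64 = x 2 * a 2 ∧ el z x y 128 = x 3 * a 3 ∧
      el z x y 256 = y 3 ∧ el z x y 512 = y 4 ∧ el z x y 1024 = y 5 ∧ el z x y 3 = z * x 0 ∧ el z x y 36 = x 1 * (x 1 * a 1) ∧
      el z x y 72 = x 2 * (x 2 * a 2) ∧ el z x y 144 = x 3 * (x 3 * a 3) := by
    simp only [el, pp, p6]
    norm_num [Nat.testBit_eq_decide_div_mod_eq, Nat.shiftRight_eq_div_pow]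
    simp [hy]
  obtain ⟨w0, w1, w2, w3, w4, w5, w6, w7, w8, w9, w10, u1, u2, u3, u4⟩ := hlow
  have hract : ∀ i < 11, ρ * el z x y (2 ^ i) * ρ⁻¹ = el z x y (rImg b i) := by
    have hxa : ∀ l, x l * (x l * a l) = a l := fun l => by rw [← mul_assoc, B.x_sq, one_mul]
    have hxy : ∀ l, ρ * (x l * a l) * ρ⁻¹ = x l := fun l => by
      have e : ρ * (x l * a l) * ρ⁻¹ = (ρ * x l * ρ⁻¹) * (ρ * a l * ρ⁻¹) := by group
      rw [e, hb]
      show a l * _ = _
      rw [B.A_comm hA (B.E_le_A (B.x_mem l)) (haA l), ← mul_assoc, B.A_sq hA (haA l), one_mul]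
    intro i hi
    obtain ⟨r0, r1, r2, r3, r4, r5, r6, r7⟩ : rImg 0 0 = 2 ∧ rImg 0 1 = 3 ∧ rImg 0 2 = 36 ∧ rImg 0 3 = 72 ∧
        rImg 0 4 = 144 ∧ rImg 0 5 = 4 ∧ rImg 0 6 = 8 ∧ rImg 0 7 = 16 := by decide +kernel
    by_cases h8 : i < 8
    · rw [rImg_low i h8]
      interval_cases i <;> norm_num [r0, r1, r2, r3, r4, r5, r6, r7, w0, w1, w2, w3, w4, w5, w6, w7, u1, u2, u3, u4, hρV.1, hρV.2,
        hxa, hxy] <;> rfl
    rw [hbdef]
    interval_cases i
    · rw [b8, show (256 : ℕ) = 2 ^ (8 + (0 : Fin 3).1) from rfl, hbig 0 n3 l3]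
      show ρ * el z x y 256 * ρ⁻¹ = _
      rw [w8]
      exact hk' k3 n3 l3 f3
    · rw [b9, show (512 : ℕ) = 2 ^ (8 + (1 : Fin 3).1) from rfl, hbig 1 n4 l4]
      show ρ * el z x y 512 * ρ⁻¹ = _
      rw [w9]
      exact hk' k4 n4 l4 f4
    · rw [b10, show (1024 : ℕ) = 2 ^ (8 + (2 : Fin 3).1) from rfl, hbig 2 n5 l5]
      show ρ * el z x y 1024 * ρ⁻¹ = _
      rw [w10]
      exact hk' k5 n5 l5 f5
  have hρN : ρ ∈ Subgroup.normalizer (Asub z x : Set G) := by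
    refine mem_normalizer_of_le fun w hw => ?_
    have hz : ρ * z * ρ⁻¹ ∈ Asub z x := hρV.1.symm ▸ B.E_le_A (B.x_mem 0)
    have hw' := B.A_le_closure hrows hw
    clear hw
    induction hw' using Subgroup.closure_induction with
    | mem s hs =>
      rcases hs with hs | ⟨k, rfl⟩
      · have hle : Esub z x ≤ (Asub z x).comap (MulAut.conj ρ).toMonoidHom := (Subgroup.closure_le _).mpr (by
          rintro t (rfl | ⟨l, rfl⟩)
          exacts [hz, haA l])
        exact hle hs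
      · have hkA : ∀ (k : G) (n : ℕ), n < 8 → ρ * k * ρ⁻¹ = k → k ∈ Asub z x →
            ρ * (k * pp x (n <<< 1)) * ρ⁻¹ ∈ Asub z x := fun k n hn' hk hm => by
          rw [hk' k n hn' hk]
          exact mul_mem (mul_mem hm (B.E_le_A (B.pp_mem _))) (hp6 n)
        have h1 : ∀ l, ρ * (x l * a l) * ρ⁻¹ ∈ Asub z x := fun l => by
          rw [show ρ * (x l * a l) * ρ⁻¹ = a l * (ρ * a l * ρ⁻¹) by simp only [ha]; group, hb]
          exact mul_mem (haA l) (mul_mem (B.E_le_A (B.x_mem l)) (haA l))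
        fin_cases k
        exacts [h1 1, h1 2, h1 3, hkA k3 n3 l3 f3 m3, hkA k4 n4 l4 f4 m4, hkA k5 n5 l5 f5 m5]
    | one => simp
    | mul s t _ _ hs ht => simpa [mul_assoc] using mul_mem hs ht
    | inv s _ hs => simpa [mul_assoc] using inv_mem hs
  exact ⟨y, ρ, b, ⟨hA, hrows, hqy, by omega, hρN, hract⟩, hρV.1⟩

end Lifts

end CfsgLib.CoOneGolay
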