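import Cfsg.Agent.Lib.CoOneType.Kind

/-!
An element of order three permuting the involutions of a pair, inverted by the mover.
-/

set_option autoImplicit false

namespace CfsgLib.CoOneGolay

open CfsgLib.CoOneType CfsgLib.Extraspecial CfsgLib.Extraspecial.Pair

variable {G : Type*} [Group G] [Finite G]

/-- A rotation of a frame. -/
structure Rot (z : G) (Q : Subgroup G) (g u ρ : G) : Prop where
  mem : ρ ∈ X Q g
  cube : ρ * ρ * ρ = 1
  rz : ρ * z * ρ⁻¹ = g * z * g⁻¹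
  rs : ρ * (g * z * g⁻¹) * ρ⁻¹ = z * (g * z * g⁻¹)
  inv : u * ρ * u⁻¹ = ρ⁻¹

variable {z : G} {Q : Subgroup G} {v : G → V8} {g u : G} (F : Fr z Q v g u)
include F

local notation "z'" => g * z * g⁻¹
local notation "Q'" => Subgroup.map (MulEquiv.toMonoidHom (MulAut.conj g)) Q
local notation "sv" => v (g * z * g⁻¹)

theorem R_split {r : G} (hr : r ∈ R Q z g) : ∃ x ∈ P Q z g, ∃ y ∈ P' Q z g, r = x * y := by
  let S : Subgroup G :=
    { carrier := {r | ∃ x ∈ P Q z g, ∃ y ∈ P' Q z g, r = x * y}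
      one_mem' := ⟨1, one_mem _, 1, one_mem _, (one_mul 1).symm⟩
      mul_mem' := by
        rintro a b ⟨x, hx, y, hy, rfl⟩ ⟨x₂, hx₂, y₂, hy₂, rfl⟩
        exact ⟨x * (y * x₂ * y⁻¹), mul_mem hx (F.P_conj_P' hy hx₂), y * y₂, mul_mem hy hy₂, by group⟩
      inv_mem' := by
        rintro a ⟨x, hx, y, hy, rfl⟩
        exact ⟨y⁻¹ * x⁻¹ * y⁻¹⁻¹, F.P_conj_P' (inv_mem hy) (inv_mem hx), y⁻¹, inv_mem hy, by group⟩ }
  have h : R Q z g ≤ S := sup_le (fun y hy => ⟨1, one_mem _, y, hy, (one_mul y).symm⟩)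
    fun x hx => ⟨x, hx, 1, one_mem _, (mul_one x).symm⟩
  exact h hr

theorem R_pow_eight {r : G} (hr : r ∈ R Q z g) : r ^ 8 = 1 := by
  obtain ⟨x, hx, y, hy, rfl⟩ := R_split F hr
  have h2 : (x * y) * (x * y) ∈ P Q z g := by
    rw [show x * y * (x * y) = x * (y * x * y⁻¹) * (y * y) by group]
    refine mul_mem (mul_mem hx (F.P_conj_P' hy hx)) ?_
    rcases F.pr.s'.sq_cases (F.mem_P'.mp hy).1 with h | h <;> rw [h]
    · exact one_mem _
    · exact F.V_le_P F.z'_mem_V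
  rcases F.pr.s.sq_cases (F.mem_P.mp h2).1 with h | h
  · calc (x * y) ^ 8 = (x * y * (x * y) * (x * y * (x * y))) ^ 2 := by
            rw [← pow_two, ← pow_two, ← pow_mul, ← pow_mul]
      _ = 1 := by rw [h, one_pow]
  · calc (x * y) ^ 8 = (x * y * (x * y) * (x * y * (x * y))) ^ 2 := by
            rw [← pow_two, ← pow_two, ← pow_mul, ← pow_mul]
      _ = 1 := by rw [h, pow_two, F.pr.s.zz]

theorem R_comm_V {e r : G} (he : e ∈ V z g) (hr : r ∈ R Q z g) : Commute e r :=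
  Subgroup.mem_centralizer_iff.mp (F.pr.R_le_centralizer hr) e he

theorem mem_R_of {r : G} (hX : r ∈ X Q g) (hz : r * z * r⁻¹ = z) (hs : r * z' * r⁻¹ = z') :
    r ∈ R Q z g := by
  rw [F.pr.R_eq]
  exact ⟨hX, F.pr.mem_centralizer_V.mpr ⟨mul_inv_eq_iff_eq_mul.mp hz, mul_inv_eq_iff_eq_mul.mp hs⟩⟩

theorem exists_rot (hu : u * u = 1) : ∃ ρ, Rot z Q g u ρ := by
  obtain ⟨u', hu', h1, h2, h3⟩ := F.pr.exists_swap'
  have hui : u⁻¹ = u := inv_eq_of_mul_eq_one_right hu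
  have huz : u * z * u⁻¹ = z := by rw [F.co.commute_z F.uQ, mul_inv_cancel_right]
  have huzz : u * (z * z') * u⁻¹ = z' := by
    rw [show u * (z * z') * u⁻¹ = (u * z * u⁻¹) * (u * z' * u⁻¹) by group, huz, F.us, ← mul_assoc,
      F.pr.s.zz, one_mul]
  have g1 : u'⁻¹ * z * u' = z * z' := by
    calc u'⁻¹ * z * u' = u'⁻¹ * (u' * (z * z') * u'⁻¹) * u' := by rw [h3]
      _ = _ := by group
  have g2 : u'⁻¹ * z' * u' = z' := by
    calc u'⁻¹ * z' * u' = u'⁻¹ * (u' * z' * u'⁻¹) * u' := by rw [h1]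
      _ = _ := by group
  set t := u' * u * u'⁻¹ with ht
  have ht2 : t * t = 1 := by
    rw [ht, show u' * u * u'⁻¹ * (u' * u * u'⁻¹) = u' * (u * u) * u'⁻¹ by group, hu]; group
  set w := t * u with hw
  have w1 : w * z * w⁻¹ = z' := by
    rw [hw, ht, show u' * u * u'⁻¹ * u * z * (u' * u * u'⁻¹ * u)⁻¹ =
      u' * (u * (u'⁻¹ * (u * z * u⁻¹) * u') * u⁻¹) * u'⁻¹ by group, huz, g1, huzz, h1]
  have w2 : w * z' * w⁻¹ = z * z' := by
    rw [hw, ht, show u' * u * u'⁻¹ * u * z' * (u' * u * u'⁻¹ * u)⁻¹ =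
      u' * (u * (u'⁻¹ * (u * z' * u⁻¹) * u') * u⁻¹) * u'⁻¹ by group, F.us,
      show u'⁻¹ * (z * z') * u' = (u'⁻¹ * z * u') * (u'⁻¹ * z' * u') by group, g1, g2,
      mul_assoc z, F.pr.s'.zz, mul_one, huz, h2]
  have w3 : w * (z * z') * w⁻¹ = z := by
    rw [show w * (z * z') * w⁻¹ = (w * z * w⁻¹) * (w * z' * w⁻¹) by group, w1, w2, F.pr.comm,
      ← mul_assoc, F.pr.s'.zz, one_mul]
  have hwX : w ∈ X Q g :=
    mul_mem (mul_mem (mul_mem (Subgroup.mem_sup_right hu') (Subgroup.mem_sup_left F.uQ))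
      (inv_mem (Subgroup.mem_sup_right hu'))) (Subgroup.mem_sup_left F.uQ)
  have hR : w ^ 3 ∈ R Q z g := by
    refine mem_R_of F (pow_mem hwX 3) ?_ ?_
    · rw [pow_three, show w * (w * w) * z * (w * (w * w))⁻¹ = w * (w * (w * z * w⁻¹) * w⁻¹) * w⁻¹ by group,
        w1, w2, w3]
    · rw [pow_three, show w * (w * w) * z' * (w * (w * w))⁻¹ = w * (w * (w * z' * w⁻¹) * w⁻¹) * w⁻¹ by group,
        w2, w3, w1]
  have h8 := R_pow_eight F hR
  have h15 : w ^ 15 ∈ R Q z g := by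
    rw [show 15 = 3 * 5 from rfl, pow_mul]; exact pow_mem hR 5
  have e1 : w ^ 16 = w ^ 15 * w := pow_succ w 15
  have hfix : ∀ e ∈ V z g, w ^ 15 * e * (w ^ 15)⁻¹ = e := fun e he => by
    rw [← (R_comm_V F he h15).eq, mul_inv_cancel_right]
  refine ⟨w ^ 16, pow_mem hwX 16, ?_, ?_, ?_, ?_⟩
  · rw [← pow_add, ← pow_add, show 16 + 16 + 16 = 3 * 8 * 2 from rfl, pow_mul, pow_mul, h8, one_pow]
  · rw [e1, show w ^ 15 * w * z * (w ^ 15 * w)⁻¹ = w ^ 15 * (w * z * w⁻¹) * (w ^ 15)⁻¹ by group, w1,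
      hfix _ F.z'_mem_V]
  · rw [e1, show w ^ 15 * w * z' * (w ^ 15 * w)⁻¹ = w ^ 15 * (w * z' * w⁻¹) * (w ^ 15)⁻¹ by group, w2,
      hfix _ F.zz'_mem]
  · rw [← conj_pow, ← inv_pow]
    congr 1
    rw [hw, mul_inv_rev, inv_eq_of_mul_eq_one_right ht2, hui]
    simp only [mul_assoc, hu, mul_one]

variable {ρ : G} (T : Rot z Q g u ρ)
include T

theorem rot_rzz : ρ * (z * z') * ρ⁻¹ = z := by
  rw [show ρ * (z * z') * ρ⁻¹ = (ρ * z * ρ⁻¹) * (ρ * z' * ρ⁻¹) by group, T.rz, T.rs, F.pr.comm,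
    ← mul_assoc, F.pr.s'.zz, one_mul]

theorem rot_V {e : G} (he : e ∈ V z g) (hc : ρ * e = e * ρ) : e = 1 := by
  have h : ρ * e * ρ⁻¹ = e := mul_inv_eq_iff_eq_mul.mpr hc
  rcases F.pr.mem_V.mp he with rfl | rfl | rfl | rfl
  · rfl
  · rw [T.rz] at h; exact absurd h F.pr.ne
  · rw [T.rs] at h; exact absurd h F.pr.mul_ne_right
  · rw [rot_rzz F T] at h; exact absurd h.symm F.pr.mul_ne_left

theorem rot_P {x : G} (hx : x ∈ P Q z g) : ρ * x * ρ⁻¹ ∈ P' Q z g := by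
  obtain ⟨hxQ, hxs⟩ := F.mem_P.mp hx
  have hQ : ρ * x * ρ⁻¹ ∈ Q' := by
    rw [← F.co.st.map_eq (a := ρ) (b := g) T.rz]
    exact ⟨x, hxQ, rfl⟩
  have h1 := (show Commute x z' from hxs).map (MulAut.conj ρ)
  rw [MulAut.conj_apply, MulAut.conj_apply, T.rs] at h1
  have h2 := h1.mul_right (show Commute (ρ * x * ρ⁻¹) z' from F.pr.s'.z_comm hQ).inv_right
  rw [mul_inv_cancel_right] at h2
  exact F.mem_P'.mpr ⟨hQ, h2⟩

theorem rot_R {r : G} (hr : r ∈ R Q z g) : ρ * r * ρ⁻¹ ∈ R Q z g :=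
  (Subgroup.mem_normalizer_iff.mp (F.pr.X_le_normalizer_R T.mem) r).mp hr

theorem rot_V_mem {e : G} (he : e ∈ V z g) : ρ * e * ρ⁻¹ ∈ V z g :=
  (Subgroup.mem_normalizer_iff.mp (F.pr.X_le_normalizer T.mem) e).mp he

theorem rot_inv : u * ρ⁻¹ * u⁻¹ = ρ := by
  have h : (u * ρ * u⁻¹)⁻¹ = ρ⁻¹⁻¹ := congrArg (·⁻¹) T.inv
  rw [inv_inv] at h
  rw [show u * ρ⁻¹ * u⁻¹ = (u * ρ * u⁻¹)⁻¹ by group]
  exact h

theorem mem_P_of_comm {r : G} (hr : r ∈ R Q z g) (hru : u * r * u⁻¹ = r) : r ∈ P Q z g := by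
  obtain ⟨x, hx, y, hy, rfl⟩ := R_split F hr
  have hxQ := (F.mem_P.mp hx).1
  have hsplit : u * (x * y) * u⁻¹ = (u * x * u⁻¹) * (al u y * y) := by
    rw [← F.al_eq]; group
  rw [hsplit] at hru
  have hal : al u y ∈ V z g := by
    rcases F.pr.s.comm_cases F.uQ hxQ with h | h <;> rw [h] at hru
    · have : al u y = 1 := by
        rwa [← mul_assoc, mul_assoc x (al u y) y, mul_right_inj, mul_eq_right] at hru
      rw [this]; exact one_mem _
    · rw [← F.co.commute_z hxQ, mul_assoc x z, mul_right_inj, ← mul_assoc, mul_eq_right] at hru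
      rw [eq_inv_of_mul_eq_one_right hru, F.pr.s.inv_z]
      exact F.z_mem_V
  exact mul_mem hx (F.V_le_P (F.al_inj hy (F.v_mem_V hal)))

/-- The rotation has no fixed points on the radical. -/
theorem rot_fix {r : G} (hr : r ∈ R Q z g) (hc : ρ * r = r * ρ) : r = 1 := by
  have hrV := F.pr.mem_centralizer_V.mp (F.pr.R_le_centralizer hr)
  have hu : u * r * u⁻¹ ∈ R Q z g := (Subgroup.mem_normalizer_iff.mp (F.pr.Q_le_normalizer_R F.uQ) r).mp hr
  have hcu : Commute ρ (u * r * u⁻¹) := by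
    have := ((show Commute ρ r from hc).inv_left).map (MulAut.conj u)
    rwa [MulAut.conj_apply, MulAut.conj_apply, rot_inv F T] at this
  set d := u * r * u⁻¹ * r⁻¹ with hd
  have hdc : Commute ρ d := hcu.mul_right (show Commute ρ r from hc).inv_right
  have hdQ : d ∈ Q := by
    have := mul_mem F.uQ (F.co.conj_mem hrV.1 (inv_mem F.uQ))
    simpa [hd, mul_assoc] using this
  have hdR : d ∈ R Q z g := mul_mem hu (inv_mem hr)
  have hdP : d ∈ P Q z g := F.mem_P.mpr ⟨hdQ, (F.pr.mem_centralizer_V.mp (F.pr.R_le_centralizer hdR)).2⟩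
  have key : ∀ {a : G}, a ∈ P Q z g → Commute ρ a → a = 1 := fun {a} ha hca => by
    refine rot_V F T (F.meet (F.mem_P.mp ha).1 ?_) hca.eq
    have := (F.mem_P'.mp (rot_P F T ha)).1
    rwa [hca.eq, mul_inv_cancel_right] at this
  have hd1 : d = 1 := key hdP hdc
  exact key (mem_P_of_comm F T hr (mul_inv_eq_one.mp hd1)) hc

/-- Every element of an invariant subgroup of the radical is a commutator with the rotation. -/
theorem rot_shift {N : Subgroup G} (hN : N ≤ R Q z g) (hρ : ∀ n ∈ N, ρ * n * ρ⁻¹ ∈ N) {w : G}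
    (hw : w ∈ N) : ∃ r ∈ N, r * ρ * r⁻¹ * ρ⁻¹ = w := by
  let φ : N → N := fun r => ⟨(r : G) * (ρ * (r : G)⁻¹ * ρ⁻¹), mul_mem r.2 (hρ _ (inv_mem r.2))⟩
  have hinj : Function.Injective φ := by
    intro a b h
    have h' : (a : G) * (ρ * (a : G)⁻¹ * ρ⁻¹) = (b : G) * (ρ * (b : G)⁻¹ * ρ⁻¹) := congrArg Subtype.val h
    have hc : ρ * ((b : G)⁻¹ * a) = (b : G)⁻¹ * a * ρ := by
      calc ρ * ((b : G)⁻¹ * a) = (b : G)⁻¹ * ((b : G) * (ρ * (b : G)⁻¹ * ρ⁻¹)) * ρ * (a : G) := by group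
        _ = _ := by rw [← h']; group
    exact Subtype.ext (inv_mul_eq_one.mp (rot_fix F T (hN (mul_mem (inv_mem b.2) a.2)) hc)).symm
  obtain ⟨r, hr⟩ := (Finite.injective_iff_surjective.mp hinj) ⟨w, hw⟩
  refine ⟨r, r.2, ?_⟩
  have := congrArg Subtype.val hr
  simpa [φ, mul_assoc] using this

theorem rot_orbit {e : G} (he : e ∈ P Q z g) :
    e * (ρ * e * ρ⁻¹) * (ρ * (ρ * e * ρ⁻¹) * ρ⁻¹) ∈ V z g := by
  set a := ρ * e * ρ⁻¹ with ha
  set b := ρ * a * ρ⁻¹ with hb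
  have heR : e ∈ R Q z g := Subgroup.mem_sup_right he
  have haR : a ∈ R Q z g := rot_R F T heR
  have hbR : b ∈ R Q z g := rot_R F T haR
  have hb3 : ρ * b * ρ⁻¹ = e := by
    rw [hb, ha, show ρ * (ρ * (ρ * e * ρ⁻¹) * ρ⁻¹) * ρ⁻¹ = ρ * ρ * ρ * e * (ρ * ρ * ρ)⁻¹ by group, T.cube]
    group
  set m := e * a * b with hm
  have hmR : m ∈ R Q z g := mul_mem (mul_mem heR haR) hbR
  have hconj : ρ * m * ρ⁻¹ = e⁻¹ * m * e := by
    rw [hm, show ρ * (e * a * b) * ρ⁻¹ = (ρ * e * ρ⁻¹) * (ρ * a * ρ⁻¹) * (ρ * b * ρ⁻¹) by group, hb3,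
      ← ha, ← hb]
    group
  set w := e⁻¹ * m * e * m⁻¹ with hw
  have hwV : w ∈ V z g := by
    obtain ⟨x, hx, y, hy, hxy⟩ := R_split F hmR
    have := F.radical_comm (inv_mem he) (one_mem _) hx hy
    rw [mul_one, inv_inv, ← hxy] at this
    exact this
  have hVR : V z g ≤ R Q z g := fun c hc => Subgroup.mem_sup_right (F.V_le_P hc)
  obtain ⟨r, hr, hrw⟩ := rot_shift F T hVR (fun n hn => rot_V_mem F T hn) hwV
  have hwi : w⁻¹ = w := inv_eq_of_mul_eq_one_right (F.V_sq hwV)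
  have hρr : ρ * r * ρ⁻¹ = w * r := by
    conv_rhs => rw [← hwi, ← hrw]
    group
  have hfix : ρ * (m * r) = m * r * ρ := by
    refine mul_inv_eq_iff_eq_mul.mp ?_
    calc ρ * (m * r) * ρ⁻¹ = (ρ * m * ρ⁻¹) * (ρ * r * ρ⁻¹) := by group
      _ = w * m * (w * r) := by rw [hconj, hρr, hw]; group
      _ = m * (w * w) * r := by rw [(R_comm_V F hwV hmR).eq]; group
      _ = _ := by rw [F.V_sq hwV, mul_one]
  rw [eq_inv_of_mul_eq_one_left (rot_fix F T (mul_mem hmR (hVR hr)) hfix)]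
  exact inv_mem hr

/-- The rotated element is attached to the original one. -/
theorem rot_al {e : G} (he : e ∈ P Q z g) : Eqm sv (v (al u (ρ * e * ρ⁻¹))) (v e) := by
  have hm := rot_orbit F T he
  have haP := rot_P F T he
  set a := ρ * e * ρ⁻¹ with ha
  set b := ρ * a * ρ⁻¹ with hb
  set m := e * a * b with hmdef
  have heQ := (F.mem_P.mp he).1
  have hua : u * a * u⁻¹ = ρ⁻¹ * (u * e * u⁻¹) * ρ := by
    rw [ha, show u * (ρ * e * ρ⁻¹) * u⁻¹ = (u * ρ * u⁻¹) * (u * e * u⁻¹) * (u * ρ * u⁻¹)⁻¹ by group,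
      T.inv, inv_inv]
  obtain ⟨ε, hε, hεe⟩ : ∃ ε ∈ V z g, u * e * u⁻¹ = ε * e := by
    rcases F.pr.s.comm_cases F.uQ heQ with h | h
    · exact ⟨1, one_mem _, h.trans (one_mul e).symm⟩
    · exact ⟨z, F.z_mem_V, h⟩
  have hε' : ρ⁻¹ * ε * ρ ∈ V z g := by
    have := (Subgroup.mem_normalizer_iff.mp (F.pr.X_le_normalizer (inv_mem T.mem)) ε).mp hε
    rwa [inv_inv] at this
  have hb' : b = ρ⁻¹ * e * ρ := by
    have hρ2 : ρ * ρ = ρ⁻¹ := eq_inv_of_mul_eq_one_left T.cube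
    rw [hb, ha, show ρ * (ρ * e * ρ⁻¹) * ρ⁻¹ = (ρ * ρ) * e * (ρ * ρ)⁻¹ by group, hρ2, inv_inv]
  have hale : al u a * e ∈ V z g := by
    have e1 : al u a * e = (ρ⁻¹ * ε * ρ) * (b * a⁻¹ * e) := by
      rw [al, hua, hεe, hb']; group
    rw [e1]
    refine mul_mem hε' ?_
    have hbm : b = a⁻¹ * e⁻¹ * m := by rw [hmdef]; group
    have hca : Commute m a⁻¹ := F.V_central hm (Or.inr (inv_mem haP))
    have e2 : b * a⁻¹ * e = m * (a⁻¹ * e⁻¹ * a * e) * (e⁻¹ * (a * a)⁻¹ * e) := by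
      rw [hbm]
      calc a⁻¹ * e⁻¹ * m * a⁻¹ * e = (a⁻¹ * e⁻¹) * (m * a⁻¹) * e := by group
        _ = a⁻¹ * e⁻¹ * (a⁻¹ * m) * e := by rw [hca.eq]
        _ = (a⁻¹ * e⁻¹ * a⁻¹ * e) * (e⁻¹ * m * e) := by group
        _ = (a⁻¹ * e⁻¹ * a⁻¹ * e) * m := by
          rw [show e⁻¹ * m * e = m by rw [mul_assoc, (F.V_central hm (Or.inl he)).eq, inv_mul_cancel_left]]
        _ = m * (a⁻¹ * e⁻¹ * a⁻¹ * e) := by
          refine (Commute.symm ?_).eq
          exact (((F.V_central hm (Or.inr (inv_mem haP))).mul_right (F.V_central hm (Or.inl (inv_mem he)))).mul_right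
            (F.V_central hm (Or.inr (inv_mem haP)))).mul_right (F.V_central hm (Or.inl he))
        _ = _ := by group
    rw [e2]
    refine mul_mem (mul_mem hm ?_) ?_
    · have := inv_mem (F.comm_mem_V (inv_mem he) (inv_mem haP))
      simpa [mul_assoc] using this
    · have haa : a * a ∈ V z g := by
        rcases F.pr.s'.sq_cases (F.mem_P'.mp haP).1 with h | h <;> rw [h]
        · exact one_mem _
        · exact F.z'_mem_V
      rw [mul_assoc, (F.V_central (inv_mem haa) (Or.inl he)).eq, inv_mul_cancel_left]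
      exact inv_mem haa
  have h := F.v_mem_V hale
  rw [F.co.mul _ (F.mem_P.mp (F.al_mem haP)).1 _ heQ] at h
  have h' := Eqm.xr h (Eqm.refl sv (v e))
  rwa [xr_assoc, xr_self, xr_zero, zero_xr] at h'

/-- An involution fixing the frame becomes fixed by the rotation after a correction. -/
theorem rot_lift {t : G} (htz : t * z = z * t) (hts : t * z' = z' * t) (htu : u * t * u⁻¹ = t)
    (ht : t * t = 1) : ∃ x ∈ P Q z g, ρ * (x * t) = x * t * ρ ∧ u * x * u⁻¹ = x ∧ x * t * (x * t) = 1 := by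
  have hti : t⁻¹ = t := inv_eq_of_mul_eq_one_right ht
  have htV : t ∈ Subgroup.centralizer (V z g : Set G) := F.pr.mem_centralizer_V.mpr ⟨htz, hts⟩
  have htX : t * ρ * t⁻¹ ∈ X Q g :=
    (Subgroup.mem_normalizer_iff.mp (F.pr.centralizer_le_normalizer_X htV) ρ).mp T.mem
  have hfix : ∀ e ∈ V z g, t * ρ * t⁻¹ * ρ⁻¹ * e * (t * ρ * t⁻¹ * ρ⁻¹)⁻¹ = e := fun e he => by
    have hc : ∀ e' ∈ V z g, t * e' * t⁻¹ = e' := fun e' he' => by
      rw [← Subgroup.mem_centralizer_iff.mp htV e' he', mul_inv_cancel_right]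
    have hc' : ∀ e' ∈ V z g, t⁻¹ * e' * t = e' := fun e' he' => by
      rw [mul_assoc, Subgroup.mem_centralizer_iff.mp htV e' he', inv_mul_cancel_left]
    have h1 : ρ⁻¹ * e * ρ ∈ V z g := by
      have := (Subgroup.mem_normalizer_iff.mp (F.pr.X_le_normalizer (inv_mem T.mem)) e).mp he
      rwa [inv_inv] at this
    rw [show t * ρ * t⁻¹ * ρ⁻¹ * e * (t * ρ * t⁻¹ * ρ⁻¹)⁻¹ =
      t * (ρ * (t⁻¹ * (ρ⁻¹ * e * ρ) * t) * ρ⁻¹) * t⁻¹ by group, hc' _ h1,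
      show ρ * (ρ⁻¹ * e * ρ) * ρ⁻¹ = e by group, hc e he]
  have hwR : t * ρ * t⁻¹ * ρ⁻¹ ∈ R Q z g :=
    mem_R_of F (mul_mem htX (inv_mem T.mem)) (hfix z F.z_mem_V) (hfix _ F.z'_mem_V)
  obtain ⟨r, hr, hrw⟩ := rot_shift F T le_rfl (fun n hn => rot_R F T hn) hwR
  have hr' : r * ρ * r⁻¹ = t * ρ * t⁻¹ := mul_right_cancel hrw
  have hk : Commute ρ (r⁻¹ * t) := by
    calc ρ * (r⁻¹ * t) = r⁻¹ * (r * ρ * r⁻¹) * t := by group
      _ = _ := by rw [hr']; group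
  have hku : Commute ρ (u * (r⁻¹ * t) * u⁻¹) := by
    have := hk.inv_left.map (MulAut.conj u)
    rwa [MulAut.conj_apply, MulAut.conj_apply, rot_inv F T] at this
  have hd : r⁻¹ * (u * r * u⁻¹) = 1 := by
    refine rot_fix F T (mul_mem (inv_mem hr) ((Subgroup.mem_normalizer_iff.mp
      (F.pr.Q_le_normalizer_R F.uQ) r).mp hr)) ?_
    have := hk.mul_right hku.inv_right
    rw [show r⁻¹ * t * (u * (r⁻¹ * t) * u⁻¹)⁻¹ = r⁻¹ * t * (u * t * u⁻¹)⁻¹ * (u * r * u⁻¹) by group,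
      htu, mul_inv_cancel_right] at this
    exact this
  have hrP := mem_P_of_comm F T hr (inv_mul_eq_one.mp hd).symm
  have hxu : u * r⁻¹ * u⁻¹ = r⁻¹ := by
    rw [show u * r⁻¹ * u⁻¹ = (u * r * u⁻¹)⁻¹ by group, ← inv_mul_eq_one.mp hd]
  refine ⟨r⁻¹, inv_mem hrP, hk.eq, hxu, ?_⟩
  have hk2 : r⁻¹ * t * (r⁻¹ * t) ∈ P Q z g := by
    rw [show r⁻¹ * t * (r⁻¹ * t) = r⁻¹ * (t * r⁻¹ * t⁻¹) * (t * t) by group, ht, mul_one]
    refine mul_mem (inv_mem hrP) (F.mem_P.mpr ⟨F.co.conj_mem htz (inv_mem (F.mem_P.mp hrP).1), ?_⟩)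
    exact ((show Commute t z' from hts).mul_left
      (show Commute r⁻¹ z' from (F.mem_P.mp (inv_mem hrP)).2)).mul_left (show Commute t z' from hts).inv_left
  exact rot_fix F T (Subgroup.mem_sup_right hk2) (hk.mul_right hk).eq

/-- The commutator of the corrected involution with a rotated element. -/
theorem rot_twist {t x e : G} (he : e ∈ P Q z g) (hte : t * e * t⁻¹ = e) (hx : x ∈ P Q z g)
    (hk : ρ * (x * t) = x * t * ρ) :
    t * (ρ * e * ρ⁻¹) * t⁻¹ = cond (bf (v x) (v e)) z 1 * (ρ * e * ρ⁻¹) := by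
  have haP := rot_P F T he
  have hbf : bf (v x) (v (al u (ρ * e * ρ⁻¹))) = bf (v x) (v e) :=
    (rot_al F T he).bf_eq (F.P_perp hx)
  have hcomm := F.comm_rel hx haP
  rw [hbf] at hcomm
  set a := ρ * e * ρ⁻¹ with ha
  have hkρ : x * t * ρ * (x * t)⁻¹ = ρ := by rw [← hk, mul_inv_cancel_right]
  have hka : x * t * a * (x * t)⁻¹ = ρ * (x * e * x⁻¹) * ρ⁻¹ := by
    rw [ha, show x * t * (ρ * e * ρ⁻¹) * (x * t)⁻¹ = (x * t * ρ * (x * t)⁻¹) * (x * (t * e * t⁻¹) * x⁻¹) *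
      (x * t * ρ * (x * t)⁻¹)⁻¹ by group, hkρ, hte]
  cases hb : bf (v x) (v e)
  · have h1 : x * e * x⁻¹ = e := mul_inv_eq_iff_eq_mul.mpr
      ((F.co.comm x (F.mem_P.mp hx).1 e (F.mem_P.mp he).1).mp hb)
    rw [h1, ← ha] at hka
    rw [cond_false, one_mul]
    calc t * a * t⁻¹ = x⁻¹ * (x * t * a * (x * t)⁻¹) * x := by group
      _ = x⁻¹ * (a * x) := by rw [hka, mul_assoc]
      _ = a := by rw [← hcomm.1 hb, inv_mul_cancel_left]
  · have hxQ := (F.mem_P.mp hx).1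
    have h1 : x * e * x⁻¹ = z * e := (F.pr.s.comm_cases hxQ (F.mem_P.mp he).1).resolve_left fun h => by
      rw [(F.co.comm x hxQ e (F.mem_P.mp he).1).mpr (mul_inv_eq_iff_eq_mul.mp h)] at hb
      exact Bool.false_ne_true hb
    rw [h1, show ρ * (z * e) * ρ⁻¹ = (ρ * z * ρ⁻¹) * (ρ * e * ρ⁻¹) by group, T.rz, ← ha] at hka
    have h2 : x * a = z * z' * (a * x) := hcomm.2 hb
    have h3 : a * x = z * z' * (x * a) := by
      rw [h2, ← mul_assoc (z * z'), F.V_sq F.zz'_mem, one_mul]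
    have cx : Commute x z' := (F.mem_P.mp hx).2
    have cxz : Commute x (z * z') := (show Commute x z from F.co.commute_z hxQ).mul_right cx
    rw [cond_true]
    calc t * a * t⁻¹ = x⁻¹ * (x * t * a * (x * t)⁻¹) * x := by group
      _ = x⁻¹ * z' * (a * x) := by rw [hka]; group
      _ = x⁻¹ * (z' * (z * z')) * (x * a) := by rw [h3]; group
      _ = x⁻¹ * z * x * a := by
        rw [show z' * (z * z') = z by rw [← mul_assoc, ← F.pr.comm, mul_assoc, F.pr.s'.zz, mul_one]]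
        group
      _ = _ := by rw [mul_assoc x⁻¹ z, ← F.co.commute_z hxQ, inv_mul_cancel_left]

end CfsgLib.CoOneGolay
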