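import Cfsg.Agent.Lib.CoOneGolay.Frames
import Cfsg.Agent.Lib.CoOneGolay.Rot

/-!
For one of the two families of totally singular four-spaces the centraliser is commutative.
-/

set_option autoImplicit false

namespace CfsgLib.CoOneGolay

open CfsgLib.CoOneType CfsgLib.Extraspecial CfsgLib.Extraspecial.Pair

variable {G : Type*} [Group G] [Finite G]

namespace Lifts

variable {z : G} {Q : Subgroup G} {v : G → V8} {e f : Fin 4 → V8} {x q : Fin 4 → G}
  (B : Lifts z Q v e f x q)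
include B

theorem dv_congr {a p p' : G} (ha : a ∈ Asub z x) (hp : p ∈ Q) (hp' : p' ∈ Q) (h : v p = v p') :
    cmm a p = cmm a p' := by
  rcases B.co.eq_or hp hp' h with rfl | rfl
  · rfl
  have hz : ∀ w, Commute w z → z * w * z⁻¹ = w := fun w hw => by rw [← hw.eq, mul_inv_cancel_right]
  have hc : Commute (p' * a * p'⁻¹) z :=
    ((show Commute p' z from B.co.commute_z hp').mul_left (show Commute a z from (B.mem_A.mp ha).1)).mul_left
      (show Commute p' z from B.co.commute_z hp').inv_left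
  simp only [cmm]
  rw [show z * p' * a * (z * p')⁻¹ = z * (p' * a * p'⁻¹) * z⁻¹ by group, hz _ hc]

/-- Conjugation between the centralisers of two four-spaces. -/
theorem conj_A' {e' f' : Fin 4 → V8} {x' q' : Fin 4 → G} (B' : Lifts z Q v e' f' x' q') {c : G} {L : Lin}
    (hc : c * z = z * c) (hL : Good L) (hcv : ∀ p ∈ Q, v (c * p * c⁻¹) = app L (v p))
    (h : ∀ i j, bf (e' i) (L (e j)) = false) {a : G} (ha : a ∈ Asub z x) : c * a * c⁻¹ ∈ Asub z x' := by
  refine B'.mem_A.mpr ⟨((show Commute c z from hc).mul_left (show Commute a z from (B.mem_A.mp ha).1)).mul_left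
    (show Commute c z from hc).inv_left, fun i => ?_⟩
  have hc' : c⁻¹ * z = z * c⁻¹ := (show Commute c z from hc).inv_left.eq
  have hb : c⁻¹ * x' i * c ∈ Esub z x := by
    have hm := B.co.conj_mem hc' (B'.xQ i)
    rw [inv_inv] at hm
    refine B.mem_E.mpr ⟨hm, fun j => ?_⟩
    have h2 := hcv _ hm
    rw [show c * (c⁻¹ * x' i * c) * c⁻¹ = x' i by group, B'.xv] at h2
    rw [← iso_bf hL.1, bf_comm]
    change bf (app L _) _ = false
    rw [← h2]
    exact h i j
  have := (B.A_comm_E ha hb).map (MulAut.conj c)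
  simp only [MulAut.conj_apply] at this
  rw [show c * (c⁻¹ * x' i * c) * c⁻¹ = x' i by group] at this
  exact this.eq

/-- A permutation of the indices. -/
theorem conj_perm (σ : Fin 4 → Fin 4) (hσ : ∀ i, σ (σ i) = i)
    (hchk : chk (fun i => 2 ^ (σ i).1) (fun _ => 0) (fun _ => 0) (fun i => 2 ^ (σ i).1) = true) :
    ∃ c, ∀ a M M', B.HasRow a M →
      (∀ l, code (fun i => (row M (σ l)).testBit (σ i).1) = row M' l) → B.HasRow (c * a * c⁻¹) M' := by
  obtain ⟨L, hL, hLe, hLf⟩ := B.hyp.exists_good _ _ _ _ hchk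
  have he : ∀ i, L (e i) = e (σ i) := fun i => by rw [hLe, comb, vec_two_pow, vec_zero, add_zero]
  have hf : ∀ i, L (f i) = f (σ i) := fun i => by rw [hLf, comb, vec_two_pow, vec_zero, zero_add]
  obtain ⟨c, hc, hcv⟩ := B.co.real L hL
  refine ⟨c, fun a M M' ha hM => ⟨B.conj_A' B hc hL hcv (fun i j => by rw [he]; exact B.hyp.ee _ _) ha.1,
    fun l => ?_⟩⟩
  have hp : c * q (σ l) * c⁻¹ ∈ Q := B.co.conj_mem hc (B.qQ _)
  have hv : v (q l) = v (c * q (σ l) * c⁻¹) := by
    rw [hcv _ (B.qQ _), B.qv, B.qv, app, hf, hσ]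
  rw [B.dv_congr (B.conj_A' B hc hL hcv (fun i j => by rw [he]; exact B.hyp.ee _ _) ha.1) (B.qQ l) hp hv,
    show cmm (c * a * c⁻¹) (c * q (σ l) * c⁻¹) = c * cmm a (q (σ l)) * c⁻¹ by simp [cmm, mul_assoc],
    hcv _ (B.E_le_Q (B.cmm_mem ha.1 (B.qQ _))), ha.2, app]
  have hU : ∀ i, bf (e i) (L (vec e (row M (σ l)))) = false := fun i => by
    rw [← hσ i, ← he, iso_bf hL.1]
    exact B.hyp.bf_e_vec _ _
  rw [B.hyp.mem_U hU, ← hM l]
  congr 1
  unfold cof
  congr 1
  funext i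
  conv_lhs => rw [← hσ i, ← hf, iso_bf hL.1]
  exact B.hyp.bf_f_vec _ _

theorem cross_of_first (h : ∀ a b, B.HasRow a 1 → B.HasRow b 32 → a * b = b * a) : B.Cross := by
  have key : ∀ (σ : Fin 4 → Fin 4), (∀ i, σ (σ i) = i) →
      chk (fun i => 2 ^ (σ i).1) (fun _ => 0) (fun _ => 0) (fun i => 2 ^ (σ i).1) = true →
      ∀ M N, (∀ l, code (fun i => (row M (σ l)).testBit (σ i).1) = row 1 l) →
      (∀ l, code (fun i => (row N (σ l)).testBit (σ i).1) = row 32 l) →
      ∀ a b, B.HasRow a M → B.HasRow b N → a * b = b * a := by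
    intro σ hσ hchk M N hM hN a b ha hb
    obtain ⟨c, hc⟩ := B.conj_perm σ hσ hchk
    have := h _ _ (hc a M 1 ha hM) (hc b N 32 hb hN)
    exact (Commute.map this (MulAut.conj c⁻¹) |> fun w => by simpa [mul_assoc] using w.eq)
  have h1 := key ![0, 2, 1, 3] (by decide) (by decide +kernel) 2 16 (by decide +kernel) (by decide +kernel)
  have h2 := key ![0, 3, 2, 1] (by decide) (by decide +kernel) 4 8 (by decide +kernel) (by decide +kernel)
  intro k a b ha hb
  fin_cases k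
  · exact h a b ha hb
  · exact h1 a b ha hb
  · exact h2 a b ha hb
  · exact (h2 b a hb ha).symm
  · exact (h1 b a hb ha).symm
  · exact (h b a hb ha).symm

/-- The four-space with the second vector replaced by its partner. -/
theorem flip : Lifts z Q v ![e 0, f 1, e 2, e 3] ![f 0, e 1, f 2, f 3] ![x 0, q 1, x 2, x 3]
    ![q 0, x 1, q 2, q 3] := by
  refine ⟨B.co, ⟨?_, ?_, ?_, ?_, ?_⟩, ?_, ?_, ?_, ?_⟩
  all_goals intro i
  all_goals first | (intro j; fin_cases i <;> fin_cases j) | fin_cases i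
  all_goals simp [B.hyp.qe, B.hyp.qff, B.hyp.ee, B.hyp.ff, B.hyp.ef, B.hyp.swap.ef, B.xQ, B.qQ, B.xv, B.qv]

theorem exists_edge_frame (i j : Fin 4) : ∃ g u, Fr z Q v g u ∧ g * z * g⁻¹ = x i ∧ ∃ y ∈ Asub z x,
    y ∈ Subgroup.map (MulEquiv.toMonoidHom (MulAut.conj g)) Q ∧
      Eqm (v (g * z * g⁻¹)) (e j) (v (al u y)) ∧ y * y = 1 := by
  obtain ⟨g, u, F, hg, hs⟩ := B.exists_frame (B.x_mem i) (by rw [B.xv]; exact B.e_ne i)
  obtain ⟨y, hy, hy', hyj⟩ := B.qa_exists F hs (w := e j) (fun k => B.hyp.ee k j)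
  exact ⟨g, u, F, hg, y, hy, hy', hyj, B.qa_sq F hs hy hy'⟩

theorem edge_row {i j : Fin 4} {g u y : G} (F : Fr z Q v g u) (hg : g * z * g⁻¹ = x i) (hy : y ∈ Asub z x)
    (hy' : y ∈ Subgroup.map (MulEquiv.toMonoidHom (MulAut.conj g)) Q)
    (hyj : Eqm (v (g * z * g⁻¹)) (e j) (v (al u y))) {M : ℕ}
    (hM : ∀ l, wrow (2 ^ i.1) (2 ^ j.1) l = row M l) : B.HasRow y M :=
  ⟨hy, fun l => by
    rw [B.frame_row F (by rw [hg, B.xv, vec_two_pow]) hy hy' (t := 2 ^ j.1) (by rw [vec_two_pow]; exact hyj) l,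
      hM]⟩

/-- An element of an edge commutes with the dual lifts away from the edge. -/
theorem edge_comm {i j : Fin 4} {g u y : G} (F : Fr z Q v g u) (hg : g * z * g⁻¹ = x i)
    (hy : y ∈ Asub z x) (hy' : y ∈ Subgroup.map (MulEquiv.toMonoidHom (MulAut.conj g)) Q)
    (hyj : Eqm (v (g * z * g⁻¹)) (e j) (v (al u y))) {l : Fin 4} (hi : l ≠ i) (hj : l ≠ j) :
    q l * y = y * q l := by
  have hli : bf (f l) (e i) = false := by rw [B.hyp.swap.ef]; exact decide_eq_false hi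
  refine (F.comm_rel (F.mem_P_of (B.qQ l) (by rw [hg, B.qv, B.xv]; exact hli)) (B.qa_mem_P' F hy hy')).1 ?_
  rw [B.qv, ← hyj.bf_eq (by rw [hg, B.xv]; exact hli), B.hyp.swap.ef]
  exact decide_eq_false hj

end Lifts

/-- The corresponding edges commute for the four-space or for the flipped one. -/
theorem cross_or {z : G} {Q : Subgroup G} {v : G → V8} {e0 f0 : Fin 4 → V8} {x q : Fin 4 → G}
    (B : Lifts z Q v e0 f0 x q) : B.Cross ∨ B.flip.Cross := by
  have H := B.co
  by_cases h : ∀ a b, B.HasRow a 1 → B.HasRow b 32 → a * b = b * a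
  · exact Or.inl (B.cross_of_first h)
  refine Or.inr (B.flip.cross_of_first ?_)
  intro a b ha hb
  by_contra hab
  apply h
  intro a' b' ha' hb'
  -- the frame of the first vector
  obtain ⟨g, hg, c⟩ := H.exists_pair (B.xQ 0) (B.x_sq 0) (B.ne_of_vec (by rw [B.xv]; exact B.e_ne 0)).1
    (B.ne_of_vec (by rw [B.xv]; exact B.e_ne 0)).2
  have hsv : v (g * z * g⁻¹) = vec e0 (2 ^ (0 : Fin 4).1) := by rw [hg, B.xv, vec_two_pow]
  have F : Fr z Q v g (q 0) := fr_of H c (B.qQ 0) (by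
    rw [hg, B.qv, B.xv, B.hyp.swap.ef]; rfl)
  obtain ⟨ρ, T⟩ := exists_rot F (B.q_sq 0)
  have hs : ∀ i, bf (e0 i) (v (g * z * g⁻¹)) = false := fun i => by
    rw [hg, B.xv]; exact B.hyp.ee i 0
  -- the opposite edge
  obtain ⟨g3, u3, F3, hg3, t, htA, ht', htj, ht2⟩ := B.exists_edge_frame 2 3
  have htrow : B.HasRow t 32 := B.edge_row F3 hg3 htA ht' htj (by decide +kernel)
  have hq0 : q 0 * t = t * q 0 := B.edge_comm F3 hg3 htA ht' htj (by decide) (by decide)
  have hq1 : q 1 * t = t * q 1 := B.edge_comm F3 hg3 htA ht' htj (by decide) (by decide)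
  obtain ⟨htz, htx⟩ := B.mem_A.mp htA
  have htA' : t ∈ Asub z ![x 0, q 1, x 2, x 3] := B.flip.mem_A.mpr ⟨htz, fun i => by
    fin_cases i
    exacts [htx 0, hq1.symm, htx 2, htx 3]⟩
  have htrow' : B.flip.HasRow t 32 := by
    refine ⟨htA', fun l => ?_⟩
    have e0r : ∀ l, (row 32 l).testBit 1 = false := by decide +kernel
    have e1 : ∀ l, vec ![e0 0, f0 1, e0 2, e0 3] (row 32 l) = vec e0 (row 32 l) := fun l => by
      simp [vec, e0r l]
    rw [e1]
    fin_cases l
    · exact htrow.2 0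
    · have e2 : row 32 1 = 0 := by decide +kernel
      have e3 : cmm t (x 1) = 1 := by rw [cmm, ← htx 1, mul_inv_cancel_right, mul_inv_cancel]
      show v (cmm t (x 1)) = _
      dsimp only
      rw [e3, H.v_one]
      show (0 : V8) = vec e0 (row 32 1)
      rw [e2, vec_zero]
    · exact htrow.2 2
    · exact htrow.2 3
  obtain ⟨p, hp, hk, hpu, hk2⟩ := rot_lift F T htz (by rw [hg]; exact htx 0)
    (by rw [hq0, mul_inv_cancel_right]) ht2
  have hx1 : x 1 ∈ P Q z g := B.x_mem_P F hs 1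
  have hq1P : q 1 ∈ P Q z g := F.mem_P_of (B.qQ 1) (by
    rw [hg, B.qv, B.xv, B.hyp.swap.ef]; rfl)
  have hs' : ∀ i, bf (![e0 0, f0 1, e0 2, e0 3] i) (v (g * z * g⁻¹)) = false := fun i => by
    rw [hg, B.xv]
    fin_cases i
    exacts [B.hyp.ee 0 0, B.hyp.swap.ef 1 0, B.hyp.ee 2 0, B.hyp.ee 3 0]
  -- the two rotated elements
  have hr : B.HasRow (ρ * x 1 * ρ⁻¹) 1 := by
    have hal := rot_al F T hx1
    rw [B.xv] at hal
    have hmem := rot_P F T hx1
    have hA := B.qa_of_al F hs hmem fun i => by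
      rw [hal.bf_eq (hs i)]; exact B.hyp.ee i 1
    exact B.edge_row F hg hA (F.mem_P'.mp hmem).1 hal.symm (by decide +kernel)
  have hr' : B.flip.HasRow (ρ * q 1 * ρ⁻¹) 1 := by
    have hal := rot_al F T hq1P
    rw [B.qv] at hal
    have hmem := rot_P F T hq1P
    have hA := B.flip.qa_of_al F hs' hmem fun i => by
      rw [hal.bf_eq (hs' i)]
      exact B.flip.hyp.ee i 1
    exact B.flip.edge_row (i := 0) (j := 1) F hg hA (F.mem_P'.mp hmem).1 hal.symm (by decide +kernel)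
  have tw := rot_twist F T hx1 (by rw [htx 1, mul_inv_cancel_right]) hp hk
  have tw' := rot_twist F T hq1P (by rw [← hq1, mul_inv_cancel_right]) hp hk
  cases hb1 : bf (v p) (v (x 1))
  · rw [hb1, cond_false, one_mul] at tw
    exact B.comm_transfer ha' hr hb' htrow (mul_inv_eq_iff_eq_mul.mp tw).symm
  exfalso
  cases hb2 : bf (v p) (v (q 1))
  · rw [hb2, cond_false, one_mul] at tw'
    exact hab (B.flip.comm_transfer ha hr' hb htrow' (mul_inv_eq_iff_eq_mul.mp tw').symm)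
  -- the correcting element would be anisotropic and of square one
  rw [B.xv] at hb1
  rw [B.qv] at hb2
  have hpQ := (F.mem_P.mp hp).1
  have hti : t⁻¹ = t := inv_eq_of_mul_eq_one_right ht2
  have hfix : v (cmm t p) = 0 := by
    have hcP := H.conj_mem htz (inv_mem hpQ)
    rw [show cmm t p = p * (t * p⁻¹ * t⁻¹) by simp [cmm, mul_assoc], H.mul _ hpQ _ hcP]
    have e1 : p * (t * p * t⁻¹) = 1 := by rw [hti, ← mul_assoc, ← mul_assoc, mul_assoc]; exact hk2
    have e2 : t * p⁻¹ * t⁻¹ = p := by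
      rw [show t * p⁻¹ * t⁻¹ = (t * p * t⁻¹)⁻¹ by group, eq_inv_of_mul_eq_one_right e1, inv_inv]
    rw [e2, xr_self]
  have hs3 : ∀ i, bf (e0 i) (v (g3 * z * g3⁻¹)) = false := fun i => by
    rw [hg3, B.xv]; exact B.hyp.ee i 2
  rw [B.frame_dv F3 hs3 htA ht' hpQ] at hfix
  have hb3 : bf (v p) (v (g3 * z * g3⁻¹)) = false := by
    have h3 := congrArg (bf (f0 3)) hfix
    rw [bf_xor_right, bf_cond', bf_cond', bf_zero_right, ← htj.bf_eq (w := f0 3) (by rw [hg3, B.xv, B.hyp.swap.ef]; rfl),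
      B.hyp.swap.ef, hg3, B.xv, B.hyp.swap.ef] at h3
    rw [hg3, B.xv]
    simpa using h3
  rw [hb3, cond_false, add_zero] at hfix
  have hb4 : bf (v p) (v (al u3 t)) = false := by
    have h3 := congrArg (bf (f0 2)) hfix
    rw [bf_cond', bf_zero_right, hg3, B.xv, B.hyp.swap.ef] at h3
    simpa using h3
  have hpt : p * t = t * p :=
    (F3.comm_rel (F3.mem_P_of hpQ hb3) (B.qa_mem_P' F3 htA ht')).1 hb4
  have hpp : p * p = 1 := by
    rw [show p * t * (p * t) = p * (t * p) * t by group, ← hpt,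
      show p * (p * t) * t = p * p * (t * t) by group, ht2, mul_one] at hk2
    exact hk2
  have hqp := (H.sq p hpQ).mpr hpp
  rw [hg3, B.xv] at hb3
  rw [← htj.bf_eq (by rw [hg3, B.xv]; exact hb3)] at hb4
  have h00 : bf (e0 0) (v p) = false := by rw [bf_comm, ← B.xv 0, ← hg]; exact F.P_perp hp
  have h0f : bf (f0 0) (v p) = false := by
    rw [← B.qv 0]
    exact (H.comm _ (B.qQ 0) _ hpQ).mpr (mul_inv_eq_iff_eq_mul.mp hpu)
  rw [B.hyp.expand (v p), B.hyp.qf_comb] at hqp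
  have c0 := cof_bit e0 (v p) 0
  have c1 := cof_bit e0 (v p) 1
  have c2 := cof_bit e0 (v p) 2
  have c3 := cof_bit e0 (v p) 3
  have d0 := cof_bit f0 (v p) 0
  have d1 := cof_bit f0 (v p) 1
  simp only [Fin.val_zero, Fin.val_one, Fin.val_two, Fin.isValue] at c0 c1 c2 c3 d0 d1
  rw [h00] at c0
  rw [h0f] at d0
  rw [bf_comm, hb1] at c1
  rw [bf_comm, hb2] at d1
  rw [bf_comm, hb3] at c2
  rw [bf_comm, hb4] at c3
  have c3' : (cof e0 (v p)).testBit 3 = false := c3
  simp [dot, c0, c1, c2, c3', d0, d1] at hqp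

/-- One of two hyperbolic bases has commuting edges. -/
theorem exists_cross {z : G} {Q : Subgroup G} {v : G → V8} (H : Co z Q v) :
    ∃ e f x q, ∃ B : Lifts z Q v e f x q, B.Cross := by
  obtain ⟨x, q, B⟩ := exists_lifts H hyp_std
  rcases cross_or B with h | h
  · exact ⟨_, _, _, _, B, h⟩
  · exact ⟨_, _, _, _, B.flip, h⟩

end CfsgLib.CoOneGolay
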