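import Cfsg.Agent.Lib.CoOneGolay.Coords

/-!
The coordinates are a bijection onto the centraliser, and conjugations are given by the tables.
-/

set_option autoImplicit false

namespace CfsgLib.CoOneGolay

open CfsgLib.CoOneType CfsgLib.Extraspecial CfsgLib.Extraspecial.Pair

variable {G : Type*} [Group G] [Finite G]

theorem qImg_low : ∀ l : Fin 4, qImg l 0 = 1 ∧
    ∀ i : Fin 4, qImg l (i.1 + 1) = 2 ^ (i.1 + 1) ^^^ cond (decide (i = l)) 1 0 := by decide +kernel

namespace Crd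

variable {z : G} {Q : Subgroup G} {v : G → V8} {e f : Fin 4 → V8} {x q : Fin 4 → G}
  {B : Lifts z Q v e f x q} {y : Fin 6 → G} {ρ : G} {b : ℕ} (C : Crd B y ρ b)
include C

theorem y_mem (k : Fin 6) : y k ∈ Asub z x := (C.rows k).1

theorem cond_y_mem (d : Bool) (k : Fin 6) : cond d (y k) 1 ∈ Asub z x := by
  cases d
  · exact one_mem _
  · exact C.y_mem k

theorem p6_mem (n : ℕ) : p6 y n ∈ Asub z x :=
  mul_mem (mul_mem (mul_mem (mul_mem (mul_mem (C.cond_y_mem _ _) (C.cond_y_mem _ _)) (C.cond_y_mem _ _))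
    (C.cond_y_mem _ _)) (C.cond_y_mem _ _)) (C.cond_y_mem _ _)

theorem cond_z_mem (d : Bool) : cond d z 1 ∈ Esub z x := by
  cases d
  · exact one_mem _
  · exact B.z_mem_E

theorem el_mem (n : ℕ) : el z x y n ∈ Asub z x :=
  mul_mem (B.E_le_A (mul_mem (C.cond_z_mem _) (B.pp_mem _))) (C.p6_mem _)

theorem p6_xor (m n : ℕ) : p6 y (m ^^^ n) = p6 y m * p6 y n := by
  have hy := C.cond_y_mem
  simp only [p6, Nat.testBit_xor]
  simp only [← cond_mul_cond _ _ (B.A_sq C.ea (C.y_mem _))]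
  symm
  rw [B.A_mul4 C.ea (hy _ _) (mul_mem (mul_mem (mul_mem (mul_mem (hy _ _) (hy _ _)) (hy _ _)) (hy _ _)) (hy _ _)),
    B.A_mul4 C.ea (hy _ _) (mul_mem (mul_mem (mul_mem (hy _ _) (hy _ _)) (hy _ _)) (hy _ _)),
    B.A_mul4 C.ea (hy _ _) (mul_mem (mul_mem (hy _ _) (hy _ _)) (hy _ _)),
    B.A_mul4 C.ea (hy _ _) (mul_mem (hy _ _) (hy _ _)), B.A_mul4 C.ea (hy _ _) (hy _ _)]

theorem el_xor (m n : ℕ) : el z x y (m ^^^ n) = el z x y m * el z x y n := by
  simp only [el, Nat.shiftRight_xor_distrib, Nat.testBit_xor]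
  rw [B.pp_xor, C.p6_xor, ← cond_mul_cond _ _ B.co.st.zz]
  symm
  rw [B.A_mul4 C.ea (C.p6_mem _) (B.E_le_A (mul_mem (C.cond_z_mem _) (B.pp_mem _))),
    B.A_mul4 C.ea (B.E_le_A (B.pp_mem _)) (B.E_le_A (C.cond_z_mem _))]

theorem el_zero : el z x y 0 = 1 := by simp [el, pp, p6]

theorem el_sq (n : ℕ) : el z x y n * el z x y n = 1 := B.A_sq C.ea (C.el_mem n)

theorem el_z : el z x y 1 = z := by simp [el, pp, p6]

theorem el_x (i : Fin 4) : el z x y (2 ^ (i.1 + 1)) = x i := by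
  simp only [el, pp, p6]
  fin_cases i <;> norm_num [Nat.testBit_eq_decide_div_mod_eq, Nat.shiftRight_eq_div_pow] <;> rfl

theorem el_y (k : Fin 6) : el z x y (2 ^ (k.1 + 5)) = y k := by
  simp only [el, pp, p6]
  fin_cases k <;> norm_num [Nat.testBit_eq_decide_div_mod_eq, Nat.shiftRight_eq_div_pow] <;> simp

theorem el_pp (n : ℕ) (hn : n < 16) : el z x y (n <<< 1) = pp x n := by
  have h : ∀ n < 16, (n <<< 1).testBit 0 = false ∧ (n <<< 1) >>> 1 = n ∧ (n <<< 1) >>> 5 = 0 := by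
    decide +kernel
  obtain ⟨h1, h2, h3⟩ := h n hn
  simp [el, h1, h2, h3, p6]

theorem el_lin {c : G} {img : ℕ → ℕ} (h : ∀ i < 11, c * el z x y (2 ^ i) * c⁻¹ = el z x y (img i))
    {n : ℕ} (hn : n < 2048) : c * el z x y n * c⁻¹ = el z x y (linR img 11 n) := by
  suffices key : ∀ m ≤ 11, c * el z x y (n % 2 ^ m) * c⁻¹ = el z x y (linR img m n) by
    have := key 11 le_rfl
    rwa [Nat.mod_eq_of_lt (by norm_num; omega)] at this
  intro m
  induction m with
  | zero => intro _; simp [linR, C.el_zero, Nat.mod_one]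
  | succ m ih =>
    intro hm
    rw [mod_two_pow_succ_xor, C.el_xor, linR, C.el_xor, ← ih (by omega)]
    cases n.testBit m
    · simp [C.el_zero]
    · rw [cond_true, cond_true, ← h m (by omega)]; group

theorem q_el (l : Fin 4) {n : ℕ} (hn : n < 2048) :
    q l * el z x y n * (q l)⁻¹ = el z x y (qTab l n) := by
  refine C.el_lin (fun i hi => ?_) hn
  obtain ⟨q0, qx⟩ := qImg_low l
  by_cases h5 : i < 5
  · by_cases h0 : i = 0
    · subst h0
      rw [q0, pow_zero, C.el_z, B.co.commute_z (B.qQ l), mul_inv_cancel_right]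
    obtain ⟨j, rfl⟩ : ∃ j : Fin 4, i = j.1 + 1 := ⟨⟨i - 1, by omega⟩, by show i = i - 1 + 1; omega⟩
    rw [qx, C.el_xor, C.el_x]
    have hc := B.cmm_x j l
    rw [cmm] at hc
    rw [show q l * x j * (q l)⁻¹ = q l * x j * (q l)⁻¹ * (x j)⁻¹ * x j by group, hc]
    cases decide (j = l)
    · simp [C.el_zero]
    · rw [cond_true, cond_true, C.el_z, B.E_comm B.z_mem_E (B.x_mem j)]
  obtain ⟨k, rfl⟩ : ∃ k : Fin 6, i = k.1 + 5 := ⟨⟨i - 5, by omega⟩, by show i = i - 5 + 5; omega⟩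
  have e : qImg l (k.1 + 5) = 2 ^ (k.1 + 5) ^^^ (row (2 ^ k.1) l <<< 1) := by
    unfold qImg
    rw [if_neg (by omega), if_neg (by omega), Nat.add_sub_cancel]
  rw [e, C.el_xor, C.el_y, C.qy, C.el_pp _ (row_lt _ _),
    B.A_comm C.ea (B.E_le_A (B.pp_mem _)) (C.y_mem k)]

theorem r_el {n : ℕ} (hn : n < 2048) : ρ * el z x y n * ρ⁻¹ = el z x y (rTab b n) :=
  C.el_lin C.ract hn

theorem p6_row : ∀ M < 64, B.HasRow (p6 y M) M := by
  suffices key : ∀ m ≤ 6, ∀ M, B.HasRow (p6 y (M % 2 ^ m)) (M % 2 ^ m) by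
    intro M hM
    have := key 6 le_rfl M
    rwa [Nat.mod_eq_of_lt (by norm_num; omega)] at this
  intro m
  induction m with
  | zero =>
    intro _ M
    rw [pow_zero, Nat.mod_one, show p6 y 0 = 1 by simp [p6]]
    exact B.hasRow_E (one_mem _)
  | succ m ih =>
    intro hm M
    rw [mod_two_pow_succ_xor, C.p6_xor]
    have h64 : 2 ^ m < 64 := by
      calc 2 ^ m ≤ 2 ^ 5 := Nat.pow_le_pow_right (by norm_num) (by omega)
        _ < 64 := by norm_num
    refine B.hasRow_mul ?_ (lt_of_lt_of_le (Nat.mod_lt _ (by positivity)) h64.le) ?_ (ih (by omega) M)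
    · cases M.testBit m
      · simp
      · exact h64
    cases M.testBit m
    · rw [cond_false, show p6 y 0 = 1 by simp [p6]]; exact B.hasRow_E (one_mem _)
    · rw [cond_true]
      have hp : p6 y (2 ^ m) = y ⟨m, by omega⟩ := by
        simp only [p6, Nat.testBit_two_pow]
        have : m < 6 := by omega
        interval_cases m <;> simp
      rw [hp]
      exact C.rows ⟨m, by omega⟩

theorem el_row {n : ℕ} (hn : n < 2048) : B.HasRow (el z x y n) (n >>> 5) := by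
  have h64 : n >>> 5 < 64 := by rw [Nat.shiftRight_eq_div_pow]; omega
  have := B.hasRow_mul (by norm_num) h64 (B.hasRow_E (mul_mem (C.cond_z_mem (n.testBit 0))
    (B.pp_mem (n >>> 1)))) (C.p6_row _ h64)
  rwa [Nat.zero_xor] at this

theorem el_inj {m n : ℕ} (hm : m < 2048) (hn : n < 2048) (h : el z x y m = el z x y n) : m = n := by
  have h0 : el z x y (m ^^^ n) = 1 := by rw [C.el_xor, h, C.el_sq]
  have hlt : m ^^^ n < 2 ^ 11 := Nat.xor_lt_two_pow (by omega) (by omega)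
  suffices m ^^^ n = 0 from Nat.xor_eq_zero_iff.mp this
  generalize hk : m ^^^ n = k at h0 hlt
  have h64 : k >>> 5 < 64 := by rw [Nat.shiftRight_eq_div_pow]; omega
  have hM : k >>> 5 = 0 := by
    refine row_inj _ h64 0 (by norm_num) fun l => B.hyp.vec_inj (row_lt _ _) (row_lt _ _) ?_
    rw [← (C.el_row (by omega : k < 2048)).2 l, row_zero, vec_zero, h0]
    simp [cmm, B.co.v_one]
  rw [el, hM, show p6 y 0 = 1 by simp [p6], mul_one] at h0
  have hk32 : k < 32 := by rw [Nat.shiftRight_eq_div_pow] at hM; omega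
  have hv := congrArg v h0
  rw [B.co.mul _ (B.E_le_Q (C.cond_z_mem _)) _ (B.pp_x _).1, (B.pp_x _).2, B.co.v_one] at hv
  have hz : v (cond (k.testBit 0) z 1) = 0 := by
    cases k.testBit 0
    · exact B.co.v_one
    · exact B.co.v_z
  rw [hz, zero_xr] at hv
  have h1 := B.hyp.vec_eq_zero (by rw [Nat.shiftRight_eq_div_pow]; omega) hv
  rw [h1, B.pp_zero, mul_one] at h0
  have h2 : k.testBit 0 = false := by
    by_contra hne
    rw [Bool.not_eq_false] at hne
    rw [hne] at h0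
    exact B.co.st.ne_one h0
  rw [Nat.testBit_zero] at h2
  rw [Nat.shiftRight_eq_div_pow] at h1
  simp at h2
  omega

theorem exists_el {a : G} (ha : a ∈ Asub z x) : ∃ n < 2048, el z x y n = a := by
  obtain ⟨M, hM, hMa⟩ := B.exists_row ha
  have hE := B.hasRow_same (C.p6_row M hM) hMa
  obtain ⟨j, hj, hjv⟩ := B.E_vec hE
  have hp : el z x y (M <<< 5) = p6 y M := by
    have h : ∀ M < 64, (M <<< 5).testBit 0 = false ∧ (∀ i : Fin 4, ((M <<< 5) >>> 1).testBit i.1 = false) ∧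
        (M <<< 5) >>> 5 = M := by decide +kernel
    obtain ⟨h1, h2, h3⟩ := h M hM
    have g0 : ((M <<< 5) >>> 1).testBit 0 = false := h2 0
    have g1 : ((M <<< 5) >>> 1).testBit 1 = false := h2 1
    have g2 : ((M <<< 5) >>> 1).testBit 2 = false := h2 2
    have g3 : ((M <<< 5) >>> 1).testBit 3 = false := h2 3
    simp [el, pp, h1, h3, g0, g1, g2, g3]
  have hlt : ∀ i : ℕ, i < 2 ^ 11 → i ^^^ M <<< 5 < 2 ^ 11 := fun i hi =>
    Nat.xor_lt_two_pow hi (by rw [Nat.shiftLeft_eq]; omega)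
  have hj1 : el z x y (j <<< 1) = pp x j := C.el_pp j hj
  rcases B.co.eq_or (B.E_le_Q hE) (B.pp_x j).1 (hjv.trans (B.pp_x j).2.symm) with h | h
  · refine ⟨(j <<< 1) ^^^ (M <<< 5), hlt _ (by rw [Nat.shiftLeft_eq]; omega), ?_⟩
    rw [C.el_xor, hp, hj1, ← h, B.A_comm C.ea (B.E_le_A hE) (C.p6_mem M), mul_inv_cancel_left]
  · refine ⟨(1 ^^^ (j <<< 1)) ^^^ (M <<< 5),
      hlt _ (Nat.xor_lt_two_pow (by norm_num) (by rw [Nat.shiftLeft_eq]; omega)), ?_⟩
    rw [C.el_xor, C.el_xor, C.el_z, hp, hj1, ← h, B.A_comm C.ea (B.E_le_A hE) (C.p6_mem M),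
      mul_inv_cancel_left]

theorem card_A : Nat.card (Asub z x) = 2 ^ 11 := by
  let φ : Fin 2048 → Asub z x := fun n => ⟨el z x y n, C.el_mem n⟩
  have hb : Function.Bijective φ := by
    refine ⟨fun a b h => Fin.ext (C.el_inj a.2 b.2 (congrArg Subtype.val h)), fun a => ?_⟩
    obtain ⟨n, hn, h⟩ := C.exists_el a.2
    exact ⟨⟨n, hn⟩, Subtype.ext h⟩
  rw [← Nat.card_congr (Equiv.ofBijective φ hb), Nat.card_fin]
  norm_num

end Crd

end CfsgLib.CoOneGolay
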