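import Cfsg.Agent.Lib.Golay.CodeAut
import Cfsg.Agent.Lib.Golay.MathieuFacts

/-!
The orbits of the group of the code on the code modulo the all-ones word, and faithfulness.
-/

set_option autoImplicit false

namespace CfsgLib.CoOneGolay

open Cfsg CfsgLib.Golay CfsgLib.Golay.Invariant CfsgLib.Golay.CodeAut
open scoped Pointwise

theorem sep_points : ∀ i < 24, ∀ j < 24, i ≠ j → ∃ m ∈ octLit, m.testBit i = true ∧ m.testBit j = false := by
  decide +kernel

theorem card_support_one (w : GolayPt → ZMod 2) :
    (support₂ (w + CodeAut.one)).card = 24 - (support₂ w).card := by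
  have hs : support₂ (w + CodeAut.one) = (support₂ w)ᶜ := by
    ext p
    rw [Finset.mem_compl]
    unfold support₂
    rw [Finset.mem_filter, Finset.mem_filter]
    simp only [Finset.mem_univ, true_and, Pi.add_apply, CodeAut.one]
    generalize w p = a; revert a; decide
  rw [hs, Finset.card_compl]
  rfl

/-- A permutation fixing every word up to the all-ones word is trivial. -/
theorem perm_eq_one {σ : Equiv.Perm GolayPt}
    (h : ∀ c ∈ golayCode, E (Invariant.act σ c) c) : σ = 1 := by
  refine Equiv.ext fun p => ?_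
  by_contra hne
  rw [Equiv.Perm.one_apply] at hne
  obtain ⟨m, hm, hmi, hmj⟩ := sep_points (idx p) (idx_lt p) (idx (σ p)) (idx_lt _)
    (fun e => hne (idx_injective e).symm)
  obtain ⟨hmc, hm8⟩ := mem_octLit_iff.1 hm
  have hmem : wd m ∈ golayCode := wd_mem_of_inC (inC_iff_mem_codeList.2 hmc)
  have hc8 : (support₂ (wd m)).card = 8 := by rw [support_wd, card_dec_eq_pop, hm8]
  rcases h _ hmem with e | e
  · have h1 := congrFun e (σ p)
    simp only [Invariant.act, Equiv.symm_apply_apply, wd, hmi, hmj] at h1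
    simp at h1
  · have h1 : (support₂ (Invariant.act σ (wd m))).card = 8 := by
      have : support₂ (Invariant.act σ (wd m)) = σ • support₂ (wd m) := support₂_comp_symm σ _
      rw [this, Finset.card_smul_finset, hc8]
    rw [e, card_support_one, hc8] at h1
    exact absurd h1 (by norm_num)

theorem exists_rep {c : GolayPt → ZMod 2} (hc : c ∈ golayCode) :
    ∃ c' ∈ golayCode, E c c' ∧ (support₂ c').card = clsW c := by
  by_cases h : (support₂ c).card ≤ 12
  · exact ⟨c, hc, E.refl c, by unfold clsW; omega⟩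
  · refine ⟨c + CodeAut.one, add_mem hc one_mem_code, ?_, ?_⟩
    · exact (E.symm (Or.inr rfl) : E c (c + CodeAut.one))
    · rw [card_support_one, clsW]
      have : (support₂ c).card ≤ 24 := Finset.card_le_univ _
      omega

/-- Words of one class are related by the group. -/
theorem exists_move_cls {c d : GolayPt → ZMod 2} (hc : c ∈ golayCode) (hd : d ∈ golayCode)
    (h : clsW c = clsW d) : ∃ k ∈ M24, E d (Invariant.act k c) := by
  obtain ⟨c', hc', hcc, hc1⟩ := exists_rep hc
  obtain ⟨d', hd', hdd, hd1⟩ := exists_rep hd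
  have key : ∀ k : Equiv.Perm GolayPt, k • support₂ c' = support₂ d' → Invariant.act k c' = d' := fun k hk =>
    support₂_injective ((support₂_comp_symm k c').trans hk)
  have fin : ∀ k ∈ M24, Invariant.act k c' = d' → ∃ k ∈ M24, E d (Invariant.act k c) := fun k hk e =>
    ⟨k, hk, hdd.trans (by rw [← e]; exact (hcc.symm).act k)⟩
  have hle : clsW c ≤ 12 := by unfold clsW; omega
  obtain ⟨m, hm, hmeq⟩ := mem_supports_codeList.1 (⟨c', hc', rfl⟩ : support₂ c' ∈ supports _)
  have hw := codeList_weight hm
  rw [← card_dec_eq_pop, hmeq, hc1] at hw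
  rcases (by omega : clsW c = 0 ∨ clsW c = 8 ∨ clsW c = 12) with e | e | e
  · rw [e] at hc1
    rw [← h, e] at hd1
    refine fin 1 (one_mem _) (key 1 ?_)
    rw [one_smul, Finset.card_eq_zero.mp hc1, Finset.card_eq_zero.mp hd1]
  · obtain ⟨g, hg⟩ := octad_transitive (o := support₂ c') (o' := support₂ d') ⟨⟨c', hc', rfl⟩, hc1.trans e⟩
      ⟨⟨d', hd', rfl⟩, hd1.trans (h.symm.trans e)⟩
    exact fin g g.2 (key g hg)
  · obtain ⟨g, hg⟩ := dodecad_transitive (d := support₂ c') (d' := support₂ d') ⟨⟨c', hc', rfl⟩, hc1.trans e⟩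
      ⟨⟨d', hd', rfl⟩, hd1.trans (h.symm.trans e)⟩
    exact fin g g.2 (key g hg)

end CfsgLib.CoOneGolay
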