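import Cfsg.Agent.Lib.CoOneGolay.Base

/-!
Elements of the centraliser coming from the frames of the vectors of the four-space.
-/

set_option autoImplicit false

namespace CfsgLib.CoOneGolay

open CfsgLib.CoOneType CfsgLib.Extraspecial CfsgLib.Extraspecial.Pair

variable {G : Type*} [Group G] [Finite G]

/-- A frame with prescribed mover. -/
theorem fr_of {z g p : G} {Q : Subgroup G} {v : G → V8} (H : Co z Q v) (c : Pair Q z g) (hp : p ∈ Q)
    (hb : bf (v p) (v (g * z * g⁻¹)) = true) : Fr z Q v g p := by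
  refine ⟨H, c, hp, (H.st.comm_cases hp c.mem).resolve_left fun h => ?_⟩
  rw [(H.comm p hp _ c.mem).mpr (mul_inv_eq_iff_eq_mul.mp h)] at hb
  exact Bool.false_ne_true hb

namespace Lifts

variable {z : G} {Q : Subgroup G} {v : G → V8} {e f : Fin 4 → V8} {x q : Fin 4 → G}
  (B : Lifts z Q v e f x q)
include B

theorem ne_of_vec {a : G} (hv : v a ≠ 0) : a ≠ 1 ∧ a ≠ z :=
  ⟨fun h => hv (by rw [h, B.co.v_one]), fun h => hv (by rw [h, B.co.v_z])⟩

theorem e_ne (i : Fin 4) : e i ≠ 0 := fun h => by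
  have := B.hyp.ef i i
  rw [h, bf_zero_left] at this
  simp at this

/-- A frame at an element of the preimage, with prescribed mover. -/
theorem exists_frame {a : G} (ha : a ∈ Esub z x) (hv : v a ≠ 0) :
    ∃ g u, Fr z Q v g u ∧ g * z * g⁻¹ = a ∧ ∀ i, bf (e i) (v (g * z * g⁻¹)) = false := by
  obtain ⟨h1, h2⟩ := B.ne_of_vec hv
  obtain ⟨g, hg, c⟩ := B.co.exists_pair (B.E_le_Q ha) (B.E_sq ha) h1 h2
  obtain ⟨u, F⟩ := B.co.exists_fr c
  exact ⟨g, u, F, hg, hg.symm ▸ (B.mem_E.mp ha).2⟩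

variable {g u : G}

theorem qa_mem_P' (F : Fr z Q v g u) {y : G} (hy : y ∈ Asub z x)
    (hy' : y ∈ Subgroup.map (MulEquiv.toMonoidHom (MulAut.conj g)) Q) : y ∈ P' Q z g :=
  F.mem_P'.mpr ⟨hy', (B.mem_A.mp hy).1⟩

theorem x_mem_P (F : Fr z Q v g u) (hs : ∀ i, bf (e i) (v (g * z * g⁻¹)) = false) (i : Fin 4) :
    x i ∈ P Q z g :=
  F.mem_P_of (B.xQ i) (by rw [B.xv]; exact hs i)

theorem E_le_P (F : Fr z Q v g u) (hs : ∀ i, bf (e i) (v (g * z * g⁻¹)) = false) :
    Esub z x ≤ P Q z g :=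
  (Subgroup.closure_le _).mpr (by
    rintro w (rfl | ⟨i, rfl⟩)
    exacts [F.V_le_P F.z_mem_V, B.x_mem_P F hs i])

theorem al_U (F : Fr z Q v g u) (hs : ∀ i, bf (e i) (v (g * z * g⁻¹)) = false) {y : G}
    (hy : y ∈ Asub z x) (hy' : y ∈ Subgroup.map (MulEquiv.toMonoidHom (MulAut.conj g)) Q) (i : Fin 4) :
    bf (e i) (v (al u y)) = false := by
  by_contra h
  rw [Bool.not_eq_false, ← B.xv i] at h
  have h1 := (F.comm_rel (B.x_mem_P F hs i) (B.qa_mem_P' F hy hy')).2 h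
  rw [← (B.mem_A.mp hy).2 i] at h1
  exact F.pr.mul_ne_one (mul_eq_right.mp h1.symm)

theorem qa_of_al (F : Fr z Q v g u) (hs : ∀ i, bf (e i) (v (g * z * g⁻¹)) = false) {y : G}
    (hy : y ∈ P' Q z g) (h : ∀ i, bf (e i) (v (al u y)) = false) : y ∈ Asub z x :=
  B.mem_A.mpr ⟨(F.mem_P'.mp hy).2,
    fun i => ((F.comm_rel (B.x_mem_P F hs i) hy).1 (by rw [B.xv]; exact h i)).symm⟩

theorem U_bf {a b : V8} (ha : ∀ i, bf (e i) a = false) (hb : ∀ i, bf (e i) b = false) :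
    bf a b = false := by
  rw [B.hyp.mem_U hb, bf_vec]
  simp only [bf_comm a, ha, Bool.and_false, Bool.xor_self]

theorem qa_comm (F : Fr z Q v g u) (hs : ∀ i, bf (e i) (v (g * z * g⁻¹)) = false) {y y₂ : G}
    (hy : y ∈ Asub z x) (hy' : y ∈ Subgroup.map (MulEquiv.toMonoidHom (MulAut.conj g)) Q)
    (hy₂ : y₂ ∈ Asub z x) (hy₂' : y₂ ∈ Subgroup.map (MulEquiv.toMonoidHom (MulAut.conj g)) Q) :
    y * y₂ = y₂ * y := by
  have h1 := B.qa_mem_P' F hy hy'
  have h2 := B.qa_mem_P' F hy₂ hy₂'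
  rw [F.al_commute_iff h1 h2, ← B.co.comm _ (F.mem_P.mp (F.al_mem h1)).1 _ (F.mem_P.mp (F.al_mem h2)).1]
  exact B.U_bf (B.al_U F hs hy hy') (B.al_U F hs hy₂ hy₂')

theorem qa_sq (F : Fr z Q v g u) (hs : ∀ i, bf (e i) (v (g * z * g⁻¹)) = false) {y : G}
    (hy : y ∈ Asub z x) (hy' : y ∈ Subgroup.map (MulEquiv.toMonoidHom (MulAut.conj g)) Q) :
    y * y = 1 := by
  rw [(F.sq_rel (B.qa_mem_P' F hy hy')).1, B.hyp.mem_U (B.al_U F hs hy hy')]
  exact B.hyp.qf_vec _

theorem qa_exists (F : Fr z Q v g u) (hs : ∀ i, bf (e i) (v (g * z * g⁻¹)) = false) {w : V8}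
    (hw : ∀ i, bf (e i) w = false) : ∃ y, y ∈ Asub z x ∧
      y ∈ Subgroup.map (MulEquiv.toMonoidHom (MulAut.conj g)) Q ∧
      Eqm (v (g * z * g⁻¹)) w (v (al u y)) := by
  obtain ⟨y, hy, hyw⟩ := F.al_surj (w := w) (B.U_bf hw hs)
  exact ⟨y, B.qa_of_al F hs hy (fun i => (hyw.bf_eq (hs i)).symm.trans (hw i)),
    (F.mem_P'.mp hy).1, hyw⟩

theorem al_conj_self (F : Fr z Q v g u) {y : G} (hy : y ∈ P' Q z g) (hq : qf (v (al u y)) = false) :
    bf (v u) (v (al u y)) = false := by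
  have hal := (F.mem_P.mp (F.al_mem hy)).1
  have huu : u * u * y * (u * u)⁻¹ = y := by
    rcases F.pr.s.sq_cases F.uQ with h | h <;> rw [h]
    · group
    · rw [← (F.mem_P'.mp hy).2, mul_inv_cancel_right]
  rw [B.co.comm u F.uQ _ hal]
  refine mul_inv_eq_iff_eq_mul.mp ?_
  conv_rhs => rw [← inv_eq_of_mul_eq_one_right ((B.co.sq _ hal).mp hq)]
  calc u * al u y * u⁻¹ = (u * u * y * (u * u)⁻¹) * (u * y⁻¹ * u⁻¹) := by rw [al]; group
    _ = _ := by rw [huu, al]; group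

/-- The commutators with the elements of a frame. -/
theorem frame_dv (F : Fr z Q v g u) (hs : ∀ i, bf (e i) (v (g * z * g⁻¹)) = false) {y p : G}
    (hy : y ∈ Asub z x) (hy' : y ∈ Subgroup.map (MulEquiv.toMonoidHom (MulAut.conj g)) Q) (hp : p ∈ Q) :
    v (cmm y p) = cond (bf (v p) (v (al u y))) (v (g * z * g⁻¹)) 0 +
      cond (bf (v p) (v (g * z * g⁻¹))) (v (al u y)) 0 := by
  have hy'' := B.qa_mem_P' F hy hy'
  have hP : ∀ r ∈ P Q z g, v (cmm y r) = cond (bf (v r) (v (al u y))) (v (g * z * g⁻¹)) 0 := by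
    intro r hr
    cases hb : bf (v r) (v (al u y))
    · rw [cmm, (F.comm_rel hr hy'').1 hb, mul_inv_cancel_right, mul_inv_cancel, B.co.v_one]; rfl
    · rw [cmm, (F.comm_rel hr hy'').2 hb,
        show z * (g * z * g⁻¹) * (y * r) * r⁻¹ * y⁻¹ = z * (g * z * g⁻¹) by group,
        B.co.mul _ B.co.z_mem _ F.pr.mem, B.co.v_z, zero_xr]
      rfl
  by_cases hb : bf (v p) (v (g * z * g⁻¹)) = false
  · rw [hP p (F.mem_P_of hp hb), hb, cond_false, add_zero]
  rw [Bool.not_eq_false] at hb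
  have hm : u⁻¹ * p ∈ P Q z g := F.mem_P_of (mul_mem (inv_mem F.uQ) hp) (by
    rw [B.co.mul _ (inv_mem F.uQ) _ hp, B.co.v_inv F.uQ, bf_xr_left, F.u_not_perp, hb]; rfl)
  conv_lhs => rw [← mul_inv_cancel_left u p]
  have hq : qf (v (al u y)) = false := by rw [B.hyp.mem_U (B.al_U F hs hy hy')]; exact B.hyp.qf_vec _
  rw [B.dv_mul_left hy F.uQ (F.mem_P.mp hm).1, hP _ hm, B.co.mul _ (inv_mem F.uQ) _ hp, B.co.v_inv F.uQ,
    bf_xr_left, B.al_conj_self F hy'' hq, Bool.false_xor, hb, cond_true]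
  rfl

theorem cond_vec (b : Bool) (n : ℕ) : cond b (vec e n) 0 = vec e (cond b n 0) := by
  cases b
  · exact (vec_zero e).symm
  · rfl

/-- The rows of an element attached to two vectors. -/
theorem frame_row (F : Fr z Q v g u) {s t : ℕ} (hsv : v (g * z * g⁻¹) = vec e s) {y : G}
    (hy : y ∈ Asub z x) (hy' : y ∈ Subgroup.map (MulEquiv.toMonoidHom (MulAut.conj g)) Q)
    (ht : Eqm (v (g * z * g⁻¹)) (vec e t) (v (al u y))) (l : Fin 4) :
    v (cmm y (q l)) = vec e (wrow s t l) := by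
  rw [B.frame_dv F (fun i => by rw [hsv]; exact B.hyp.bf_e_vec i s) hy hy' (B.qQ l), B.qv]
  have hrec : v (al u y) = vec e t ∨ v (al u y) = vec e (t ^^^ s) := by
    rcases ht.symm with h | h
    · exact Or.inl h
    · exact Or.inr (by rw [h, hsv, vec_xor]; rfl)
  rcases hrec with h | h <;> rw [h, hsv, B.hyp.bf_f_vec, B.hyp.bf_f_vec, B.cond_vec, B.cond_vec, ← vec_xor] <;>
    congr 1
  rw [wrow, Nat.testBit_xor]
  cases t.testBit l.1 <;> cases s.testBit l.1 <;> simp [Nat.xor_comm, Nat.xor_left_comm]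

/-- For each pair of vectors an involution with the rows of the pair. -/
theorem exists_pair_elt {g u : G} (F : Fr z Q v g u) {s : ℕ} (hsv : v (g * z * g⁻¹) = vec e s) {t M : ℕ}
    (hM : ∀ l, wrow s t l = row M l) : ∃ y, B.HasRow y M ∧ y * y = 1 ∧
      y ∈ Subgroup.map (MulEquiv.toMonoidHom (MulAut.conj g)) Q := by
  have hs : ∀ i, bf (e i) (v (g * z * g⁻¹)) = false := fun i => by rw [hsv]; exact B.hyp.bf_e_vec i s
  obtain ⟨y, hy, hy', hyt⟩ := B.qa_exists F hs (w := vec e t) (fun i => B.hyp.bf_e_vec i t)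
  exact ⟨y, ⟨hy, fun l => by rw [B.frame_row F hsv hy hy' hyt l, hM]⟩, B.qa_sq F hs hy hy', hy'⟩

theorem exists_frame_vec {s : ℕ} (hs : s < 16) (hs0 : s ≠ 0) :
    ∃ g u, Fr z Q v g u ∧ v (g * z * g⁻¹) = vec e s := by
  obtain ⟨g, u, F, hg, -⟩ := B.exists_frame (B.pp_mem s)
    (by rw [(B.pp_x s).2]; exact fun h => hs0 (B.hyp.vec_eq_zero hs h))
  exact ⟨g, u, F, by rw [hg, (B.pp_x s).2]⟩

end Lifts

theorem pair_check : ∀ k : Fin 6, ∀ k' : Fin 6, k.1 + k'.1 = 5 ∨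
    ∃ i j j' : Fin 4, (∀ l, wrow (2 ^ i.1) (2 ^ j.1) l = row (2 ^ k.1) l) ∧
      ∀ l, wrow (2 ^ i.1) (2 ^ j'.1) l = row (2 ^ k'.1) l := by
  decide +kernel

/-- The commutation of elements attached to disjoint pairs. -/
def Lifts.Cross {z : G} {Q : Subgroup G} {v : G → V8} {e f : Fin 4 → V8} {x q : Fin 4 → G}
    (B : Lifts z Q v e f x q) : Prop :=
  ∀ k : Fin 6, ∀ a b, B.HasRow a (2 ^ k.1) → B.HasRow b (2 ^ (5 - k.1)) → a * b = b * a

namespace Lifts

variable {z : G} {Q : Subgroup G} {v : G → V8} {e f : Fin 4 → V8} {x q : Fin 4 → G}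
  (B : Lifts z Q v e f x q)
include B

theorem comm_transfer {a a' b b' : G} {M N : ℕ} (ha : B.HasRow a M) (ha' : B.HasRow a' M)
    (hb : B.HasRow b N) (hb' : B.HasRow b' N) (h : a' * b' = b' * a') : a * b = b * a := by
  have h1 := B.hasRow_same ha' ha
  have h2 := B.hasRow_same hb' hb
  have c1 : Commute (a'⁻¹ * a) (b'⁻¹ * b) := B.E_comm h1 h2
  have c2 : Commute a' (b'⁻¹ * b) := B.A_comm_E ha'.1 h2
  have c3 : Commute b' (a'⁻¹ * a) := B.A_comm_E hb'.1 h1
  have := ((show Commute a' b' from h).mul_right c2).mul_left (c3.symm.mul_right c1)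
  simpa using this.eq

theorem comm_of_cross (hc : B.Cross) (k k' : Fin 6) {a b : G} (ha : B.HasRow a (2 ^ k.1))
    (hb : B.HasRow b (2 ^ k'.1)) : a * b = b * a := by
  rcases pair_check k k' with h | ⟨i, j, j', h1, h2⟩
  · exact hc k a b ha (by rw [show 5 - k.1 = k'.1 by omega]; exact hb)
  obtain ⟨g, u, F, hsv⟩ := B.exists_frame_vec (s := 2 ^ i.1) (by fin_cases i <;> norm_num) (by positivity)
  obtain ⟨a', ha', -, hag⟩ := B.exists_pair_elt F hsv h1
  obtain ⟨b', hb', -, hbg⟩ := B.exists_pair_elt F hsv h2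
  exact B.comm_transfer ha ha' hb hb'
    (B.qa_comm F (fun i => by rw [hsv]; exact B.hyp.bf_e_vec i _) ha'.1 hag hb'.1 hbg)

theorem exists_six : ∃ y : Fin 6 → G, ∀ k, B.HasRow (y k) (2 ^ k.1) ∧ y k * y k = 1 := by
  have h : ∀ k : Fin 6, ∃ y, B.HasRow y (2 ^ k.1) ∧ y * y = 1 := by
    intro k
    have hk : ∀ k : Fin 6, ∃ i j : Fin 4, ∀ l, wrow (2 ^ i.1) (2 ^ j.1) l = row (2 ^ k.1) l := by
      decide +kernel
    obtain ⟨i, j, h⟩ := hk k
    obtain ⟨g, u, F, hsv⟩ := B.exists_frame_vec (s := 2 ^ i.1) (by fin_cases i <;> norm_num) (by positivity)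
    obtain ⟨y, hy, hy2, -⟩ := B.exists_pair_elt F hsv h
    exact ⟨y, hy, hy2⟩
  choose y hy using h
  exact ⟨y, hy⟩

/-- Generation by the preimage and six attached elements. -/
theorem A_le_closure {y : Fin 6 → G} (hy : ∀ k, B.HasRow (y k) (2 ^ k.1)) :
    Asub z x ≤ Subgroup.closure ((Esub z x : Set G) ∪ Set.range y) := by
  intro a ha
  obtain ⟨M, hM, hMa⟩ := B.exists_row ha
  have key : ∀ n ≤ 6, ∀ N < 2 ^ n, ∃ w ∈ Subgroup.closure ((Esub z x : Set G) ∪ Set.range y),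
      B.HasRow w N := by
    intro n
    induction n with
    | zero =>
      intro _ N hN
      have : N = 0 := by simpa using hN
      exact ⟨1, one_mem _, this ▸ B.hasRow_E (one_mem _)⟩
    | succ n ih =>
      intro hn N hN
      by_cases hlt : N < 2 ^ n
      · exact ih (by omega) N hlt
      have h2 : N - 2 ^ n < 2 ^ n := by rw [pow_succ] at hN; omega
      obtain ⟨w, hw, hwr⟩ := ih (by omega) _ h2
      have h64 : 2 ^ n < 64 := by
        calc 2 ^ n ≤ 2 ^ 5 := Nat.pow_le_pow_right (by norm_num) (by omega)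
          _ < 64 := by norm_num
      refine ⟨y ⟨n, by omega⟩ * w, mul_mem (Subgroup.subset_closure (Or.inr ⟨_, rfl⟩)) hw, ?_⟩
      have := B.hasRow_mul h64 (by omega) (hy ⟨n, by omega⟩) hwr
      have e1 : 2 ^ n + (N - 2 ^ n) = 2 ^ n ^^^ (N - 2 ^ n) := by
        have := Nat.two_pow_add_eq_or_of_lt h2 1
        rw [mul_one] at this
        rw [this]
        refine Nat.eq_of_testBit_eq fun i => ?_
        rw [Nat.testBit_or, Nat.testBit_xor, Nat.testBit_two_pow]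
        by_cases h : n = i
        · subst h; rw [Nat.testBit_lt_two_pow h2]; simp
        · simp [h]
      rwa [← e1, Nat.add_sub_cancel' (by omega)] at this
  obtain ⟨w, hw, hwr⟩ := key 6 le_rfl M hM
  have := B.hasRow_same hwr hMa
  have h := mul_mem hw (Subgroup.subset_closure (k := ((Esub z x : Set G) ∪ Set.range y)) (Or.inl this))
  rwa [mul_inv_cancel_left] at h

theorem elementary (hc : B.Cross) : Cfsg.IsElementaryAbelian 2 (Asub z x) := by
  obtain ⟨y, hy⟩ := B.exists_six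
  set S : Set G := (Esub z x : Set G) ∪ Set.range y with hS
  have hle : Asub z x ≤ Subgroup.closure S := B.A_le_closure fun k => (hy k).1
  have hSA : ∀ s ∈ S, s ∈ Asub z x := by
    rintro s (hs | ⟨k, rfl⟩)
    exacts [B.E_le_A hs, (hy k).1.1]
  have hcomm : ∀ s ∈ S, ∀ t ∈ S, s * t = t * s := by
    rintro s (hs | ⟨k, rfl⟩) t (ht | ⟨k', rfl⟩)
    · exact B.E_comm hs ht
    · exact ((B.A_comm_E (hy k').1.1 hs).symm).eq
    · exact (B.A_comm_E (hy k).1.1 ht).eq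
    · exact B.comm_of_cross hc k k' (hy k).1 (hy k').1
  have hcc : ∀ a ∈ Subgroup.closure S, ∀ b ∈ Subgroup.closure S, a * b = b * a := by
    have h1 : Subgroup.closure S ≤ Subgroup.centralizer S := (Subgroup.closure_le _).mpr fun s hs =>
      Subgroup.mem_centralizer_iff.mpr fun t ht => hcomm t ht s hs
    intro a ha b hb
    have h2 : b ∈ Subgroup.centralizer (Subgroup.closure S : Set G) := by
      rw [Subgroup.centralizer_closure]
      exact h1 hb
    exact Subgroup.mem_centralizer_iff.mp h2 a ha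
  refine ⟨⟨⟨fun a b => Subtype.ext (hcc _ (hle a.2) _ (hle b.2))⟩⟩, fun a ha => ?_⟩
  rw [pow_two]
  have ha' := hle ha
  clear ha
  induction ha' using Subgroup.closure_induction with
  | mem s hs =>
    rcases hs with hs | ⟨k, rfl⟩
    · exact B.E_sq hs
    · exact (hy k).2
  | one => exact one_mul 1
  | mul a b ha hb iha ihb =>
    rw [show a * b * (a * b) = a * (b * a) * b by group, ← hcc a ha b hb,
      show a * (a * b) * b = (a * a) * (b * b) by group, iha, ihb, one_mul]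
  | inv a _ iha => rw [← mul_inv_rev, iha, inv_one]

end Lifts

end CfsgLib.CoOneGolay
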