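import Cfsg.Agent.Lib.CoOneGolay.Orbit
import Mathlib.LinearAlgebra.Matrix.Transvection
import Mathlib.LinearAlgebra.Matrix.GeneralLinearGroup.Card

/-!
Every linear substitution of the four-space is induced by the normaliser, inside the centraliser of
the centre.
-/

set_option autoImplicit false

namespace CfsgLib.CoOneGolay

open CfsgLib.CoOneType CfsgLib.Extraspecial CfsgLib.Extraspecial.Pair
open Matrix

/-- The combination with coefficients in the field of two elements. -/
def emb (e : Fin 4 → V8) (c : Fin 4 → ZMod 2) : V8 := ∑ i, c i • e i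

theorem emb_single (e : Fin 4 → V8) (i : Fin 4) : emb e (Pi.single i 1) = e i := by
  unfold emb
  rw [Finset.sum_eq_single i]
  · simp
  · intro j _ hj; simp [hj]
  · intro h; exact absurd (Finset.mem_univ i) h

theorem trans_chk : ∀ i j : Fin 4, i ≠ j →
    chk (fun k => 2 ^ k.1 ^^^ cond (decide (k = j)) (2 ^ i.1) 0) (fun _ => 0) (fun _ => 0)
      (fun k => 2 ^ k.1 ^^^ cond (decide (k = i)) (2 ^ j.1) 0) = true := by
  decide +kernel

/-- The substitution is induced by an isometry of even fixed dimension. -/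
def Ind (e : Fin 4 → V8) (M : Matrix (Fin 4) (Fin 4) (ZMod 2)) : Prop :=
  ∃ L : Lin, Good L ∧ ∀ c, L (emb e c) = emb e (M *ᵥ c)

variable {e f : Fin 4 → V8} (h : Hyp e f)
include h

theorem bf_f_emb (i : Fin 4) (c : Fin 4 → ZMod 2) : bf (f i) (emb e c) = decide (c i = 1) := by
  have hs : ∀ (d : ZMod 2) (w : V8), bf (f i) (d • w) = (decide (d = 1) && bf (f i) w) := fun d w => by
    rcases zmod_cases d with rfl | rfl
    · simp [bf_zero_right]
    · simp
  simp only [emb, Fin.sum_univ_four, bf_xor_right, hs, h.swap.ef]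
  fin_cases i <;> simp

theorem bf_e_emb (i : Fin 4) (c : Fin 4 → ZMod 2) : bf (e i) (emb e c) = false := by
  have hs : ∀ (d : ZMod 2) (w : V8), bf (e i) (d • w) = (decide (d = 1) && bf (e i) w) := fun d w => by
    rcases zmod_cases d with rfl | rfl
    · simp [bf_zero_right]
    · simp
  simp [emb, Fin.sum_univ_four, bf_xor_right, hs, h.ee]

theorem emb_inj : Function.Injective (emb e) := fun a b hab => funext fun i => by
  have h1 := bf_f_emb h i a
  rw [hab, bf_f_emb h i b, decide_eq_decide] at h1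
  rcases zmod_cases (a i) with ha | ha <;> rcases zmod_cases (b i) with hb | hb <;> rw [ha, hb] at h1 ⊢ <;>
    revert h1 <;> decide

theorem ind_all {M : Matrix (Fin 4) (Fin 4) (ZMod 2)} (hM : M.det ≠ 0) : Ind e M := by
  refine Matrix.diagonal_transvection_induction_of_det_ne_zero (Ind e) M hM ?_ ?_ ?_
  · intro D hD
    have : D = fun _ => 1 := by
      funext i
      rcases zmod_cases (D i) with hz | hz
      · exact absurd (by rw [det_diagonal]; exact Finset.prod_eq_zero (Finset.mem_univ i) hz) hD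
      · exact hz
    refine ⟨1, good_one, fun c => ?_⟩
    rw [this, diagonal_one, one_mulVec]
    rfl
  · intro t
    rcases zmod_cases t.c with hc | hc
    · refine ⟨1, good_one, fun c => ?_⟩
      rw [TransvectionStruct.toMatrix, hc, transvection_zero, one_mulVec]
      rfl
    obtain ⟨L, hL, hLe, -⟩ := h.exists_good _ _ _ _ (trans_chk t.i t.j t.hij)
    refine ⟨L, hL, fun c => ?_⟩
    have hLe' : ∀ k, L (e k) = e k + (if k = t.j then e t.i else 0) := fun k => by
      rw [hLe, comb, vec_zero, add_zero, vec_xor, vec_two_pow]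
      by_cases hk : k = t.j
      · rw [decide_eq_true hk, cond_true, vec_two_pow, if_pos hk]
      · rw [decide_eq_false hk, cond_false, vec_zero, if_neg hk]
    simp only [emb, map_sum, map_smul, hLe', smul_add, Finset.sum_add_distrib]
    rw [TransvectionStruct.toMatrix, hc, transvection, add_mulVec, one_mulVec]
    simp only [Pi.add_apply, add_smul, Finset.sum_add_distrib]
    congr 1
    simp [mulVec, dotProduct, Matrix.single_apply, ite_smul, ite_and]
  · rintro A B - - ⟨L, hL, hA⟩ ⟨K, hK, hB⟩
    exact ⟨L * K, good_mul hL hK, fun c => by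
      show L (K (emb e c)) = _
      rw [hB, hA, mulVec_mulVec]⟩

variable {G : Type*} [Group G] [Finite G] {z : G} {Q : Subgroup G} {v : G → V8} {x q : Fin 4 → G}
omit h in
theorem exists_gl_lift (B : Lifts z Q v e f x q) (M : GL (Fin 4) (ZMod 2)) :
    ∃ c ∈ Subgroup.normalizer (Asub z x : Set G), c * z = z * c ∧
      ∀ i, v (c * x i * c⁻¹) = emb e ((M : Matrix (Fin 4) (Fin 4) (ZMod 2)) *ᵥ Pi.single i 1) := by
  have hdet : (M : Matrix (Fin 4) (Fin 4) (ZMod 2)).det ≠ 0 := by
    intro h0
    have := (Matrix.isUnit_iff_isUnit_det _).mp (⟨M, rfl⟩ : IsUnit (M : Matrix (Fin 4) (Fin 4) (ZMod 2)))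
    rw [h0] at this
    exact not_isUnit_zero this
  obtain ⟨L, hL, hLM⟩ := ind_all B.hyp hdet
  obtain ⟨c, hc, hcv⟩ := B.co.real L hL
  have hLe : ∀ i, L (e i) = emb e ((M : Matrix (Fin 4) (Fin 4) (ZMod 2)) *ᵥ Pi.single i 1) := fun i => by
    rw [← hLM, emb_single]
  refine ⟨c, mem_normalizer_of_le fun b hb => B.conj_A' B hc hL hcv
    (fun i j => by rw [hLe]; exact bf_e_emb B.hyp _ _) hb, hc, fun i => ?_⟩
  rw [hcv _ (B.xQ i), B.xv, app, hLe]

end CfsgLib.CoOneGolay
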