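import Cfsg.Agent.Lib.CoOneGolay.El
import Cfsg.Agent.Lib.CoOneGolay.Cert
import Cfsg.Agent.Lib.CoOneType.NotZ

/-!
The elements of the centraliser conjugate to the centre form one orbit of the normaliser.
-/

set_option autoImplicit false

namespace CfsgLib.CoOneGolay

open CfsgLib.CoOneType CfsgLib.Extraspecial CfsgLib.Extraspecial.Pair

variable {G : Type*} [Group G] [Finite G]

/-- Bases carrying the first vector to each nonzero vector, with their duals. -/
def glList : List (List ℕ × List ℕ) :=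
  [([1, 2, 4, 8], [1, 2, 4, 8]), ([2, 1, 4, 8], [2, 1, 4, 8]), ([3, 2, 4, 8], [1, 3, 4, 8]), ([4, 1, 2, 8], [4, 1, 2, 8]), ([5, 2, 4, 8], [1, 2, 5, 8]), ([6, 1, 4, 8], [2, 1, 6, 8]), ([7, 2, 4, 8], [1, 3, 5, 8]), ([8, 1, 2, 4], [8, 1, 2, 4]), ([9, 2, 4, 8], [1, 2, 4, 9]), ([10, 1, 4, 8], [2, 1, 4, 10]), ([11, 2, 4, 8], [1, 3, 4, 9]), ([12, 1, 2, 8], [4, 1, 2, 12]), ([13, 2, 4, 8], [1, 2, 5, 9]), ([14, 1, 4, 8], [2, 1, 6, 10]), ([15, 2, 4, 8], [1, 3, 5, 9])]

theorem gl_chk : ∀ w < 16, w ≠ 0 → ∃ p ∈ glList, p.1.getD 0 0 = w ∧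
    chk (fun i => p.1.getD i.1 0) (fun _ => 0) (fun _ => 0) (fun i => p.2.getD i.1 0) = true := by
  decide +kernel

/-- The xor of the rows selected by a number. -/
def rowC (c : ℕ) (r : Fin 4 → ℕ) : ℕ :=
  cond (c.testBit 0) (r 0) 0 ^^^ cond (c.testBit 1) (r 1) 0 ^^^ cond (c.testBit 2) (r 2) 0 ^^^
    cond (c.testBit 3) (r 3) 0

set_option synthInstance.maxSize 4096 in
theorem plane_exists : ∀ M < 64, M ≠ 0 → pf M = false → ∃ s < 16, ∃ t < 16,
    s ≠ 0 ∧ t ≠ 0 ∧ s ≠ t ∧ ∀ l, wrow s t l = row M l := by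
  decide +kernel

theorem qc_central : (List.range 16).all (fun c => (List.range 2048).all fun n =>
    qcL c n != (n ^^^ 1) || rowC c (row (n >>> 5)) == 0) = true := by
  decide +kernel

theorem wrow_kernel : (List.range 16).all (fun s => (List.range 16).all fun t => (List.range 16).all fun c =>
    s == 0 || t == 0 || s == t || rowC c (wrow s t) != 0 || (!dot s c && !dot t c)) = true := by
  decide +kernel

theorem span_or : (List.range 16).all (fun s => (List.range 16).all fun t => (List.range 16).all fun k =>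
    (k == 0 || k == s || k == t || k == (t ^^^ s)) ||
      (List.range 16).any fun c => !dot s c && !dot t c && dot k c) = true := by
  decide +kernel

theorem span_dot : (List.range 16).all (fun s => (List.range 16).all fun t => (List.range 16).all fun c =>
    dot s c || dot t c || !dot (t ^^^ s) c) = true := by
  decide +kernel

theorem qImg_lt : ∀ l : Fin 4, ∀ i < 11, qImg l i < 2048 := by decide +kernel

theorem rImg_lt : (List.range 512).all (fun b => (List.range 11).all fun i => decide (rImg b i < 2048)) = true := by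
  decide +kernel

theorem linR_lt {img : ℕ → ℕ} (h : ∀ i < 11, img i < 2048) (n : ℕ) :
    ∀ k ≤ 11, linR img k n < 2048 := by
  intro k
  induction k with
  | zero => intro _; simp [linR]
  | succ k ih =>
    intro hk
    have h1 : cond (n.testBit k) (img k) 0 < 2 ^ 11 := by
      cases n.testBit k
      · norm_num
      · exact h k (by omega)
    exact Nat.xor_lt_two_pow h1 (ih (by omega))

theorem qTab_lt (l : Fin 4) (n : ℕ) : qTab l n < 2048 := linR_lt (qImg_lt l) n 11 le_rfl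

theorem qcTab_lt (c : ℕ) {n : ℕ} (hn : n < 2048) : qcTab c n < 2048 := by
  have h : ∀ (d : Bool) (l : Fin 4) (m : ℕ), m < 2048 → cond d (qTab l m) m < 2048 := fun d l m hm => by
    cases d
    · exact hm
    · exact qTab_lt l m
  exact h _ _ _ (h _ _ _ (h _ _ _ (h _ _ _ hn)))

namespace Lifts

variable {z : G} {Q : Subgroup G} {v : G → V8} {e f : Fin 4 → V8} {x q : Fin 4 → G}
  (B : Lifts z Q v e f x q)
include B

theorem Q_normalizer {p : G} (hp : p ∈ Q) : p ∈ Subgroup.normalizer (Asub z x : Set G) :=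
  mem_normalizer_of_le fun _ ha => B.conj_A hp ha

/-- An element of the centraliser of `z` in the normaliser moving the first lift to a given one. -/
theorem exists_to {a : G} (ha : a ∈ Esub z x) (hv : v a ≠ 0) :
    ∃ c ∈ Subgroup.normalizer (Asub z x : Set G), c * z = z * c ∧ c * x 0 * c⁻¹ = a := by
  obtain ⟨w, hw, hwa⟩ := B.E_vec ha
  obtain ⟨p, hp, hp0, hpc⟩ := gl_chk w hw (fun h => hv (by rw [hwa, h, vec_zero]))
  obtain ⟨L, hL, hLe, -⟩ := B.hyp.exists_good _ _ _ _ hpc
  have hU : ∀ i j, bf (e i) (L (e j)) = false := fun i j => by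
    rw [hLe, B.hyp.bf_e_comb, Nat.zero_testBit]
  obtain ⟨c, hc, hcv⟩ := B.co.real L hL
  have hcN : c ∈ Subgroup.normalizer (Asub z x : Set G) :=
    mem_normalizer_of_le fun b hb => B.conj_A' B hc hL hcv hU hb
  have hva : v (c * x 0 * c⁻¹) = v a := by
    rw [hcv _ (B.xQ 0), B.xv, app, hLe, comb, vec_zero, add_zero, hwa]
    exact congrArg (vec e) hp0
  rcases B.co.eq_or (B.co.conj_mem hc (B.xQ 0)) (B.E_le_Q ha) hva with h | h
  · exact ⟨c, hcN, hc, h⟩
  obtain ⟨r, hr, hra⟩ := B.co.st.exists_move (B.E_le_Q ha) (B.ne_of_vec hv).1 (B.ne_of_vec hv).2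
  refine ⟨r * c, mul_mem (B.Q_normalizer hr) hcN,
    (show Commute r z from B.co.commute_z hr).mul_left hc, ?_⟩
  rw [show r * c * x 0 * (r * c)⁻¹ = r * (c * x 0 * c⁻¹) * r⁻¹ by group, h,
    show r * (z * a) * r⁻¹ = (r * z * r⁻¹) * (r * a * r⁻¹) by group, hra, B.co.commute_z hr,
    mul_inv_cancel_right, ← mul_assoc, B.co.st.zz, one_mul]

end Lifts

/-- The orbit of the centre under the normaliser. -/
def InO (z : G) (x : Fin 4 → G) (a : G) : Prop :=
  ∃ c ∈ Subgroup.normalizer (Asub z x : Set G), c * z * c⁻¹ = a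

omit [Finite G] in
theorem InO.conj {z : G} {x : Fin 4 → G} {a c : G} (h : InO z x a)
    (hc : c ∈ Subgroup.normalizer (Asub z x : Set G)) : InO z x (c * a * c⁻¹) := by
  obtain ⟨d, hd, rfl⟩ := h
  exact ⟨c * d, mul_mem hc hd, by group⟩

omit [Finite G] in
theorem InO.of_conj {z : G} {x : Fin 4 → G} {a c : G} (h : InO z x (c * a * c⁻¹))
    (hc : c ∈ Subgroup.normalizer (Asub z x : Set G)) : InO z x a := by
  have := h.conj (inv_mem hc)
  rwa [show c⁻¹ * (c * a * c⁻¹) * c⁻¹⁻¹ = a by group] at this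

omit [Finite G] in
theorem InO.isConj {z : G} {x : Fin 4 → G} {a : G} (h : InO z x a) : IsConj a z := by
  obtain ⟨d, -, rfl⟩ := h
  exact (isConj_iff.mpr ⟨d, rfl⟩ : IsConj z (d * z * d⁻¹)).symm

namespace Crd

variable {z : G} {Q : Subgroup G} {v : G → V8} {e f : Fin 4 → V8} {x q : Fin 4 → G}
  {B : Lifts z Q v e f x q} {y : Fin 6 → G} {ρ : G} {b : ℕ} (C : Crd B y ρ b)
include C

theorem qc_el (c : ℕ) {n : ℕ} (hn : n < 2048) :
    pp q c * el z x y n * (pp q c)⁻¹ = el z x y (qcTab c n) := by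
  have h : ∀ (d : Bool) (l : Fin 4) (m : ℕ), m < 2048 →
      cond d (q l) 1 * el z x y m * (cond d (q l) 1)⁻¹ = el z x y (cond d (qTab l m) m) ∧
        cond d (qTab l m) m < 2048 := fun d l m hm => by
    cases d
    · simp [hm]
    · exact ⟨C.q_el l hm, qTab_lt l m⟩
  obtain ⟨e3, l3⟩ := h (c.testBit 3) 3 n hn
  obtain ⟨e2, l2⟩ := h (c.testBit 2) 2 _ l3
  obtain ⟨e1, l1⟩ := h (c.testBit 1) 1 _ l2
  obtain ⟨e0', -⟩ := h (c.testBit 0) 0 _ l1
  show _ = el z x y (cond (c.testBit 0) (qTab 0 _) _)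
  rw [show pp q c * el z x y n * (pp q c)⁻¹ = cond (c.testBit 0) (q 0) 1 *
    (cond (c.testBit 1) (q 1) 1 * (cond (c.testBit 2) (q 2) 1 *
      (cond (c.testBit 3) (q 3) 1 * el z x y n * (cond (c.testBit 3) (q 3) 1)⁻¹) *
        (cond (c.testBit 2) (q 2) 1)⁻¹) * (cond (c.testBit 1) (q 1) 1)⁻¹) *
          (cond (c.testBit 0) (q 0) 1)⁻¹ by rw [pp]; group, e3, e2, e1]
  exact e0'

theorem el_E {n : ℕ} (hn : n < 32) : el z x y n ∈ Esub z x := by
  have : n >>> 5 = 0 := by rw [Nat.shiftRight_eq_div_pow]; omega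
  rw [el, this, show p6 y 0 = 1 by simp [p6], mul_one]
  exact mul_mem (C.cond_z_mem _) (B.pp_mem _)

variable (hρ : ρ * z * ρ⁻¹ = x 0)
include hρ

theorem inO_E {a : G} (ha : a ∈ Esub z x) (h1 : a ≠ 1) : InO z x a := by
  by_cases hv : v a = 0
  · rcases (B.co.zero a (B.E_le_Q ha)).mp hv with h | h
    · exact absurd h h1
    · exact ⟨1, one_mem _, by rw [h]; group⟩
  obtain ⟨c, hc, -, hca⟩ := B.exists_to ha hv
  exact ⟨c * ρ, mul_mem hc C.rN, by
    rw [show c * ρ * z * (c * ρ)⁻¹ = c * (ρ * z * ρ⁻¹) * c⁻¹ by group, hρ, hca]⟩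

theorem inO_QA {g a : G} (hg : g * z * g⁻¹ ∈ Esub z x) (ha : a ∈ Asub z x)
    (ha' : a ∈ Subgroup.map (MulEquiv.toMonoidHom (MulAut.conj g)) Q) (h1 : a ≠ 1) : InO z x a := by
  have hg1 : g * z * g⁻¹ ≠ 1 := fun h => B.co.st.ne_one (conj_eq_one_iff.mp h)
  obtain ⟨n, hn, hnz⟩ := C.inO_E hρ hg hg1
  rw [← B.co.st.map_eq (a := n) (b := g) hnz] at ha'
  obtain ⟨r, hr, rfl⟩ := ha'
  change n * r * n⁻¹ ∈ Asub z x at ha
  have hrA : r ∈ Asub z x := (Subgroup.mem_normalizer_iff.mp hn r).mpr ha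
  exact (C.inO_E hρ (B.A_Q hrA hr) (fun h => h1 (by
    show n * r * n⁻¹ = 1
    rw [h]; group))).conj hn

theorem plane {n : ℕ} (hn : n < 2048) (hM0 : n >>> 5 ≠ 0) (hpf : pf (n >>> 5) = false) :
    (pureB n = true → InO z x (el z x y n)) ∧ (pureB n = false → ¬ IsConj (el z x y n) z) := by
  have hM : n >>> 5 < 64 := by rw [Nat.shiftRight_eq_div_pow]; omega
  obtain ⟨s, hs, t, ht, hs0, ht0, hst, hrow⟩ := plane_exists _ hM hM0 hpf
  obtain ⟨g, u, F, hg, hsU⟩ := B.exists_frame (B.pp_mem s)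
    (by rw [(B.pp_x s).2]; exact fun h => hs0 (B.hyp.vec_eq_zero hs h))
  have hgE : g * z * g⁻¹ ∈ Esub z x := hg.symm ▸ B.pp_mem s
  have hsv : v (g * z * g⁻¹) = vec e s := by rw [hg, (B.pp_x s).2]
  obtain ⟨w, hw, hw', hwt⟩ := B.qa_exists F hsU (w := vec e t) (fun i => B.hyp.bf_e_vec i t)
  have hwrow : B.HasRow w (n >>> 5) := ⟨hw, fun l => by rw [B.frame_row F hsv hw hw' hwt l, hrow]⟩
  set a := el z x y n with ha
  have haA : a ∈ Asub z x := C.el_mem n
  have hpE : w⁻¹ * a ∈ Esub z x := B.hasRow_same hwrow (C.el_row hn)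
  set p := w⁻¹ * a with hp
  have hap : a = p * w := by
    rw [B.A_comm C.ea (B.E_le_A hpE) hw, hp, mul_inv_cancel_left]
  obtain ⟨k, hk, hkv⟩ := B.E_vec hpE
  have hw2 := B.qa_mem_P' F hw hw'
  have hal : v (al u w) = vec e t ∨ v (al u w) = vec e (t ^^^ s) := by
    rcases hwt.symm with h | h
    · exact Or.inl h
    · exact Or.inr (by rw [h, hsv, vec_xor]; rfl)
  have h16 : ∀ m : ℕ, m < 16 → ∀ i : ℕ, i < 16 → m ^^^ i < 16 := fun m hm i hi =>
    Nat.xor_lt_two_pow (n := 4) hm hi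
  have hperp : ∀ c, dot s c = false → dot t c = false →
      pp q c * a * (pp q c)⁻¹ = cond (dot k c) z 1 * a := by
    intro c hc1 hc2
    obtain ⟨hcQ, hcv⟩ := B.swap.pp_x c
    have hb : ∀ m, bf (v (pp q c)) (vec e m) = dot m c := fun m => by
      rw [hcv, bf_comm, B.hyp.bf_vec_vec]
    have hcP : pp q c ∈ P Q z g := F.mem_P_of hcQ (by rw [hsv, hb, hc1])
    have hcal : bf (v (pp q c)) (v (al u w)) = false := by
      rw [← hwt.bf_eq (by rw [hsv, hb, hc1]), hb, hc2]
    have hcw := (F.comm_rel hcP hw2).1 hcal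
    have hcp : pp q c * p * (pp q c)⁻¹ = cond (dot k c) z 1 * p := by
      rcases B.co.st.comm_cases hcQ (B.E_le_Q hpE) with h | h <;> cases hd : dot k c
      · rw [h, cond_false, one_mul]
      · have := (B.co.comm _ hcQ _ (B.E_le_Q hpE)).mpr (mul_inv_eq_iff_eq_mul.mp h)
        rw [hkv, hb, hd] at this
        exact absurd this (by simp)
      · have := (B.co.comm _ hcQ _ (B.E_le_Q hpE)).mp (by rw [hkv, hb, hd])
        rw [this, mul_inv_cancel_right] at h
        exact absurd (mul_eq_right.mp h.symm) B.co.st.ne_one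
      · rw [h, cond_true]
    rw [hap, show pp q c * (p * w) * (pp q c)⁻¹ = (pp q c * p * (pp q c)⁻¹) * (pp q c * w * (pp q c)⁻¹) by group,
      hcp, hcw, mul_inv_cancel_right, mul_assoc]
  have hchk := List.all_eq_true.mp pure_chk n (List.mem_range.mpr hn)
  rw [beq_iff_eq] at hchk
  simp only [hpf, Bool.not_false, Bool.and_true] at hchk
  rw [show (n >>> 5 != 0) = true by simpa using hM0, Bool.true_and] at hchk
  have hspan : pureB n = true ↔ (k = 0 ∨ k = s ∨ k = t ∨ k = t ^^^ s) := by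
    have hor := List.all_eq_true.mp (List.all_eq_true.mp (List.all_eq_true.mp span_or s (List.mem_range.mpr hs))
      t (List.mem_range.mpr ht)) k (List.mem_range.mpr hk)
    simp only [Bool.or_eq_true, beq_iff_eq, List.any_eq_true, List.mem_range, Bool.and_eq_true,
      Bool.not_eq_true'] at hor
    rw [hchk, List.all_eq_true]
    constructor
    · intro hall
      rcases hor with h | ⟨c, hc, ⟨hc1, hc2⟩, hc3⟩
      · tauto
      exfalso
      have h1 := hperp c hc1 hc2
      rw [hc3, cond_true, C.qc_el c hn, show z * a = el z x y (1 ^^^ n) by rw [C.el_xor, C.el_z], qcTab_eq hc hn,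
        Nat.xor_comm] at h1
      have hlt1 : qcL c n < 2048 := qcTab_eq hc hn ▸ qcTab_lt c hn
      have h2 := C.el_inj hlt1 (Nat.xor_lt_two_pow (n := 11) hn (by norm_num)) h1
      have h3 := hall c (List.mem_range.mpr hc)
      rw [h2] at h3
      simp at h3
    · intro hk' c hc
      rw [List.mem_range] at hc
      rw [bne_iff_ne]
      intro heq
      have hz := List.all_eq_true.mp (List.all_eq_true.mp qc_central c (List.mem_range.mpr hc)) n
        (List.mem_range.mpr hn)
      rw [heq] at hz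
      simp only [bne_self_eq_false, Bool.false_or, beq_iff_eq] at hz
      rw [show row (n >>> 5) = wrow s t from funext fun l => (hrow l).symm] at hz
      have hd := List.all_eq_true.mp (List.all_eq_true.mp (List.all_eq_true.mp wrow_kernel s
        (List.mem_range.mpr hs)) t (List.mem_range.mpr ht)) c (List.mem_range.mpr hc)
      simp [hs0, ht0, hst, hz] at hd
      have h1 := hperp c hd.1 hd.2
      rw [C.qc_el c hn, qcTab_eq hc hn, heq, C.el_xor, C.el_z] at h1
      have hst' := List.all_eq_true.mp (List.all_eq_true.mp (List.all_eq_true.mp span_dot s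
        (List.mem_range.mpr hs)) t (List.mem_range.mpr ht)) c (List.mem_range.mpr hc)
      simp [hd.1, hd.2] at hst'
      have hk0 : dot k c = false := by
        rcases hk' with rfl | rfl | rfl | rfl
        · simp [dot]
        · exact hd.1
        · exact hd.2
        · exact hst'
      rw [hk0, cond_false, one_mul] at h1
      exact B.co.st.ne_one (mul_eq_left.mp h1)
  have hane : a ≠ 1 := fun h => by
    have h1 := C.el_inj hn (by norm_num) (h.trans C.el_zero.symm)
    rw [h1] at hM0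
    exact hM0 rfl
  refine ⟨fun hpure => ?_, fun hnp => ?_⟩
  · obtain hk' := hspan.mp hpure
    have hcase : Eqm (v (g * z * g⁻¹)) (v p) 0 ∨ Eqm (v (g * z * g⁻¹)) (v p) (v (al u w)) := by
      rw [hkv, hsv]
      rcases hk' with rfl | rfl | rfl | rfl
      · exact Or.inl (Or.inl (vec_zero e))
      · exact Or.inl (eqm_zero.mpr (Or.inr rfl))
      all_goals right
      all_goals rcases hal with h | h <;> rw [h]
      · exact Or.inl rfl
      · exact Or.inr (by rw [vec_xor, xr, add_assoc, CoOneType.add_self, add_zero])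
      · exact Or.inr (by rw [vec_xor]; rfl)
      · exact Or.inl rfl
    rcases hcase with h | h
    · refine C.inO_QA hρ hgE haA ?_ hane
      rw [hap]
      exact mul_mem (F.V_le_Q' (F.mem_V_of (B.E_le_Q hpE) h)) hw'
    · have halQ := (F.mem_P.mp (F.al_mem hw2)).1
      have hε : p * (al u w)⁻¹ ∈ V z g := F.mem_V_of (mul_mem (B.E_le_Q hpE) (inv_mem halQ)) (by
        rw [B.co.mul _ (B.E_le_Q hpE) _ (inv_mem halQ), B.co.v_inv halQ]
        have := Eqm.xr h (Eqm.refl (v (g * z * g⁻¹)) (v (al u w)))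
        rwa [xr_self] at this)
      have hug : u * g * z * (u * g)⁻¹ = z * (g * z * g⁻¹) := by
        rw [← F.us]; group
      refine C.inO_QA hρ (g := u * g) (by rw [hug]; exact mul_mem B.z_mem_E hgE) haA ?_ hane
      have hN : u⁻¹ * (p * (al u w)⁻¹) * u ∈ V z g := by
        have := (Subgroup.mem_normalizer_iff.mp (F.pr.Q_le_normalizer (inv_mem F.uQ)) _).mp hε
        rwa [inv_inv] at this
      obtain ⟨r, hr, hre⟩ := mul_mem (F.V_le_Q' hN) hw'
      refine ⟨r, hr, ?_⟩
      change u * g * r * (u * g)⁻¹ = a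
      change g * r * g⁻¹ = u⁻¹ * (p * (al u w)⁻¹) * u * w at hre
      rw [show u * g * r * (u * g)⁻¹ = u * (g * r * g⁻¹) * u⁻¹ by group, hre, hap, al]
      group
  · have hk' : k ≠ 0 ∧ k ≠ s ∧ k ≠ t ∧ k ≠ t ^^^ s := by
      refine ⟨?_, ?_, ?_, ?_⟩ <;> intro hh
      · simp [hspan.mpr (Or.inl hh)] at hnp
      · simp [hspan.mpr (Or.inr (Or.inl hh))] at hnp
      · simp [hspan.mpr (Or.inr (Or.inr (Or.inl hh)))] at hnp
      · simp [hspan.mpr (Or.inr (Or.inr (Or.inr hh)))] at hnp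
    obtain ⟨j, hj, hjv, hj0, hjs, hkj, hkj'⟩ : ∃ j < 16, v (al u w) = vec e j ∧ j ≠ 0 ∧ j ≠ s ∧ k ≠ j ∧
        k ≠ j ^^^ s := by
      rcases hal with h | h
      · exact ⟨t, ht, h, ht0, Ne.symm hst, hk'.2.2.1, hk'.2.2.2⟩
      · refine ⟨t ^^^ s, h16 t ht s hs, h, fun e' => hst (Nat.xor_eq_zero_iff.mp e').symm, fun e' => ht0 ?_,
          hk'.2.2.2, ?_⟩
        · have := congrArg (· ^^^ s) e'
          simpa [Nat.xor_assoc] using this
        · rw [Nat.xor_assoc, Nat.xor_self, Nat.xor_zero]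
          exact hk'.2.2.1
    have hne : ∀ {i m : ℕ}, i < 16 → m < 16 → i ≠ m → vec e i ≠ vec e m := fun hi hm h e' =>
      h (B.hyp.vec_inj hi hm e')
    have hne0 : ∀ {i : ℕ}, i < 16 → i ≠ 0 → vec e i ≠ 0 := fun hi h e' => h (B.hyp.vec_eq_zero hi e')
    have hU : ∀ i m, bf (vec e i) (vec e m) = false := fun i m =>
      B.U_bf (fun l => B.hyp.bf_e_vec l i) (fun l => B.hyp.bf_e_vec l m)
    have hC : Cfg false (v (g * z * g⁻¹)) (v p) (v (al u w)) := by
      rw [hsv, hkv, hjv]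
      refine ⟨hne0 hs hs0, B.hyp.qf_vec _, B.hyp.qf_vec _, B.hyp.qf_vec _, hU _ _, hU _ _, hU _ _,
        hne0 hk hk'.1, hne hk hs hk'.2.1, hne0 hj hj0, hne hj hs hjs, hne hj hk (Ne.symm hkj), ?_⟩
      rw [← vec_xor]
      refine hne hj (h16 s hs k hk) fun e' => hkj' ?_
      rw [e', Nat.xor_comm s, Nat.xor_assoc, Nat.xor_self, Nat.xor_zero]
    rw [hap]
    exact B.co.kd_not_isConj F (F.kd_of_cfg (B.E_le_P F hsU hpE) hw2 hC)

theorem base_inO {n : ℕ} (hn : n < 2048) (h : baseB n = true) : InO z x (el z x y n) := by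
  simp only [baseB, Bool.or_eq_true, Bool.and_eq_true, decide_eq_true_eq, bne_iff_ne] at h
  rcases h with ⟨h32, h0⟩ | h
  · exact C.inO_E hρ (C.el_E h32) fun h => h0 (C.el_inj hn (by norm_num) (h.trans C.el_zero.symm))
  have hchk := List.all_eq_true.mp pure_chk n (List.mem_range.mpr hn)
  rw [beq_iff_eq, h] at hchk
  simp only [eq_comm (a := true), Bool.and_eq_true, bne_iff_ne, Bool.not_eq_true'] at hchk
  exact (C.plane hρ hn hchk.1.1 hchk.1.2).1 h

theorem bad_not {n : ℕ} (hn : n < 2048) (h : badB n = true) : ¬ IsConj (el z x y n) z := by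
  simp only [badB, Bool.and_eq_true, bne_iff_ne, Bool.not_eq_true'] at h
  exact (C.plane hρ hn h.1.1 h.1.2).2 h.2

theorem mem_alive : b ∈ alive := by
  by_contra hb
  have h := List.all_eq_true.mp kill_chk b (List.mem_range.mpr C.blt)
  simp only [Bool.or_eq_true, List.contains_iff_mem, List.any_eq_true, Bool.and_eq_true] at h
  rcases h with h | ⟨a, ha, hbase, hbad⟩
  · exact hb h
  have ha' : a < 2048 := by
    simp only [List.mem_cons, List.not_mem_nil, or_false] at ha
    omega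
  have hr : rTab b a < 2048 := linR_lt (fun i hi => by
    simpa using List.all_eq_true.mp (List.all_eq_true.mp rImg_lt b (List.mem_range.mpr C.blt)) i
      (List.mem_range.mpr hi)) a 11 le_rfl
  refine C.bad_not hρ hr hbad ?_
  rw [← C.r_el ha']
  exact ((C.base_inO hρ ha' hbase).conj C.rN).isConj

/-- The central elements form one orbit and are given by the table. -/
theorem orbit {n : ℕ} (hn : n < 2048) :
    (octB b n = true → InO z x (el z x y n)) ∧ (octB b n = false → ¬ IsConj (el z x y n) z) := by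
  have hb := C.mem_alive hρ
  have h := List.all_eq_true.mp (split_chk b hb) n (List.mem_range.mpr hn)
  have hmove : ∀ c < 16, CfsgLib.Golay.comb (rLit b) (qcL c n) < 2048 ∧
      ρ * pp q c ∈ Subgroup.normalizer (Asub z x : Set G) ∧
      (ρ * pp q c) * el z x y n * (ρ * pp q c)⁻¹ = el z x y (CfsgLib.Golay.comb (rLit b) (qcL c n)) := by
    intro c hc
    have h1 : qcL c n < 2048 := qcTab_eq hc hn ▸ qcTab_lt c hn
    refine ⟨?_, mul_mem C.rN (B.Q_normalizer (B.swap.pp_x c).1), ?_⟩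
    · rw [← rTab_eq hb h1]
      exact linR_lt (fun i hi => by
        simpa using List.all_eq_true.mp (List.all_eq_true.mp rImg_lt b (List.mem_range.mpr C.blt)) i
          (List.mem_range.mpr hi)) _ 11 le_rfl
    · rw [show (ρ * pp q c) * el z x y n * (ρ * pp q c)⁻¹ = ρ * (pp q c * el z x y n * (pp q c)⁻¹) * ρ⁻¹ by
        group, C.qc_el c hn, qcTab_eq hc hn, C.r_el h1, rTab_eq hb h1]
  constructor
  · intro ho
    simp only [splitAt, ho, if_true, Bool.or_eq_true, Bool.and_eq_true, List.any_eq_true, List.mem_range] at h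
    rcases h with h | ⟨-, c, hc, h⟩
    · exact C.base_inO hρ hn h
    obtain ⟨hlt, hN, he⟩ := hmove c hc
    exact InO.of_conj (he ▸ C.base_inO hρ hlt h) hN
  · intro ho hconj
    simp only [splitAt, ho, Bool.false_eq_true, if_false, Bool.or_eq_true, beq_iff_eq, Bool.and_eq_true,
      List.any_eq_true, List.mem_range] at h
    rcases h with (h | h) | ⟨-, c, hc, h⟩
    · rw [h, C.el_zero, isConj_one_right] at hconj
      exact B.co.st.ne_one hconj
    · exact C.bad_not hρ hn h hconj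
    obtain ⟨hlt, -, he⟩ := hmove c hc
    exact C.bad_not hρ hlt h (he ▸ ((isConj_iff.mpr ⟨ρ * pp q c, rfl⟩ :
      IsConj (el z x y n) ((ρ * pp q c) * el z x y n * (ρ * pp q c)⁻¹)).symm.trans hconj))

end Crd

end CfsgLib.CoOneGolay
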