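import Cfsg.Agent.Lib.CoOneGolay.Lifted
import Cfsg.Agent.Lib.CoOneGolay.Faithful

/-!
The normaliser acts on the centraliser as the group of the binary code of length twenty-four.
-/

set_option autoImplicit false

namespace CfsgLib.CoOneGolay

open CfsgLib.CoOneType CfsgLib.Extraspecial CfsgLib.Extraspecial.Pair
open CfsgLib.Golay (wd inC inC_iff_mem_codeList mem_golayCode wd_xor wd_zero)
open CfsgLib.Golay.CodeAut (E clsW cls modEq)
open Cfsg (GolayPt golayCode M24)

/-- The word of coordinates. -/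
def psi (b a : ℕ) : GolayPt → ZMod 2 := wd (CfsgLib.Golay.comb (psiW b) a)

theorem octB_card : ∀ b ∈ alive, ((Finset.univ : Finset (Fin 2048)).filter fun a => octB b a.1).card = 759 := by
  decide +kernel

theorem oct_other : ∀ b ∈ alive, (List.range 2048).any (fun a => !octB b a && a != 0) = true := by
  decide +kernel

theorem psi_xor (b m n : ℕ) : psi b (m ^^^ n) = psi b m + psi b n := by
  rw [psi, CfsgLib.Golay.comb_xor, wd_xor]; rfl

theorem psi_zero (b : ℕ) : psi b 0 = 0 := by rw [psi, comb_zero, wd_zero]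

theorem psi_spec {b : ℕ} (hb : b ∈ alive) :
    (∀ a, psi b a ∈ golayCode) ∧
    (∀ a < 2048, clsW (psi b a) = if a = 0 then 0 else if octB b a then 8 else 12) ∧
    ∀ w ∈ golayCode, ∃ a < 2048, E w (psi b a) := by
  have h := psi_chk b hb
  simp only [psiOK, Bool.and_eq_true, List.all_eq_true, List.mem_range, decide_eq_true_eq, beq_iff_eq] at h
  obtain ⟨⟨hW, hcls⟩, hon⟩ := h
  refine ⟨fun a => CfsgLib.Golay.wd_comb_mem _ (fun r hr => CfsgLib.Golay.wd_mem_of_inC (hW r hr)) a,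
    fun a ha => (CfsgLib.Golay.CodeAut.clsW_wd _).trans (hcls a ha), fun w hw => ?_⟩
  obtain ⟨m, -, hmc, rfl⟩ := mem_golayCode.1 hw
  obtain ⟨i, hi, rfl⟩ := List.mem_map.1 (inC_iff_mem_codeList.1 hmc)
  obtain ⟨hlt, he⟩ := hon i (List.mem_range.1 hi)
  exact ⟨_, hlt, (CfsgLib.Golay.CodeAut.E_of_modEq he).symm⟩

theorem psi_inj {b a a' : ℕ} (hb : b ∈ alive) (ha : a < 2048) (ha' : a' < 2048)
    (h : E (psi b a) (psi b a')) : a = a' := by
  have hlt : a ^^^ a' < 2048 := Nat.xor_lt_two_pow (n := 11) ha ha'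
  have h1 : E (psi b (a ^^^ a')) 0 := by
    rw [psi_xor]
    have := E.add h (E.refl (psi b a'))
    rwa [CfsgLib.Golay.Invariant.add_self] at this
  have h2 := CfsgLib.Golay.CodeAut.clsW_eq_of_E h1
  rw [(psi_spec hb).2.1 _ hlt] at h2
  have h0 : clsW (0 : GolayPt → ZMod 2) = 0 := by simp [clsW, Cfsg.support₂]
  rw [h0] at h2
  by_contra hne
  rw [if_neg (fun e => hne (Nat.xor_eq_zero_iff.mp e))] at h2
  split at h2 <;> omega

variable {G : Type*} [Group G] [Finite G]

/-- The permutation induced by an element of the normaliser. -/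
def Induces (z : G) (x : Fin 4 → G) (y : Fin 6 → G) (b : ℕ) (n : G) (σ : Equiv.Perm GolayPt) : Prop :=
  ∀ a < 2048, ∀ a' < 2048, n * el z x y a * n⁻¹ = el z x y a' →
    E (psi b a') (CfsgLib.Golay.Invariant.act σ (psi b a))

namespace Crd

variable {z : G} {Q : Subgroup G} {v : G → V8} {e f : Fin 4 → V8} {x q : Fin 4 → G}
  {B : Lifts z Q v e f x q} {y : Fin 6 → G} {ρ : G} {b : ℕ} (C : Crd B y ρ b)
  (hρ : ρ * z * ρ⁻¹ = x 0)
include C hρ

theorem conj_el {n : G} (hn : n ∈ Subgroup.normalizer (Asub z x : Set G)) (a : ℕ) :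
    ∃ a' < 2048, n * el z x y a * n⁻¹ = el z x y a' := by
  obtain ⟨a', ha', h⟩ := C.exists_el ((Subgroup.mem_normalizer_iff.mp hn _).mp (C.el_mem a))
  exact ⟨a', ha', h.symm⟩

theorem octB_iff {a : ℕ} (ha : a < 2048) : octB b a = true ↔ IsConj (el z x y a) z := by
  refine ⟨fun h => ((C.orbit hρ ha).1 h).isConj, fun h => ?_⟩
  by_contra hne
  rw [Bool.not_eq_true] at hne
  exact (C.orbit hρ ha).2 hne h

theorem cls_conj {n : G} {a a' : ℕ} (ha : a < 2048) (ha' : a' < 2048)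
    (h : n * el z x y a * n⁻¹ = el z x y a') : clsW (psi b a') = clsW (psi b a) := by
  have hb := C.mem_alive hρ
  rw [(psi_spec hb).2.1 a ha, (psi_spec hb).2.1 a' ha']
  have h0 : a = 0 ↔ a' = 0 := by
    constructor <;> intro e'
    · subst e'
      rw [C.el_zero, mul_one, mul_inv_cancel] at h
      exact C.el_inj ha' (by norm_num) (h.symm.trans C.el_zero.symm)
    · subst e'
      rw [C.el_zero, conj_eq_one_iff] at h
      exact C.el_inj ha (by norm_num) (h.trans C.el_zero.symm)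
  have h8 : octB b a = true ↔ octB b a' = true := by
    rw [C.octB_iff hρ ha, C.octB_iff hρ ha']
    have hc : IsConj (el z x y a) (el z x y a') := isConj_iff.mpr ⟨n, h⟩
    exact ⟨fun e' => hc.symm.trans e', fun e' => hc.trans e'⟩
  by_cases hz : a = 0
  · rw [if_pos hz, if_pos (h0.mp hz)]
  · rw [if_neg hz, if_neg (fun e' => hz (h0.mpr e'))]
    cases ho : octB b a <;> cases ho' : octB b a' <;> simp_all

theorem exists_induced {n : G} (hn : n ∈ Subgroup.normalizer (Asub z x : Set G)) :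
    ∃ σ ∈ M24, Induces z x y b n σ := by
  obtain ⟨hmem, -, hsurj⟩ := psi_spec (C.mem_alive hρ)
  have hinj := fun {a a' : ℕ} (ha : a < 2048) (ha' : a' < 2048) => psi_inj (a := a) (a' := a') (C.mem_alive hρ) ha ha'
  choose p hp hpn using C.conj_el hρ hn
  choose idx hidx hidxE using hsurj
  classical
  let Y : (GolayPt → ZMod 2) → (GolayPt → ZMod 2) := fun w =>
    if hw : w ∈ golayCode then psi b (p (idx w hw)) + (w + psi b (idx w hw)) else w
  have padd : ∀ a a', p (a ^^^ a') = p a ^^^ p a' := fun a a' => by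
    refine C.el_inj (hp _) (Nat.xor_lt_two_pow (n := 11) (hp a) (hp a')) ?_
    rw [← hpn, C.el_xor, C.el_xor, ← hpn a, ← hpn a']
    group
  have hone : (CfsgLib.Golay.CodeAut.one : GolayPt → ZMod 2) ∈ golayCode := CfsgLib.Golay.Invariant.one_mem_code
  have hE : ∀ w hw, E (Y w) (psi b (p (idx w hw))) := fun w hw => by
    simp only [Y, dif_pos hw]
    rcases hidxE w hw with h | h
    · rw [← h, CfsgLib.Golay.Invariant.add_self, add_zero]; exact E.refl _
    · refine Or.inr ?_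
      congr 1
      nth_rw 1 [h]
      rw [add_comm (psi b (idx w hw)), add_assoc, CfsgLib.Golay.Invariant.add_self, add_zero]
  have hY : CfsgLib.Golay.CodeAut.Good Y := by
    refine ⟨fun a c ha hc => ?_, fun c hc => ?_⟩
    · have hac := add_mem ha hc
      have hi : idx (a + c) hac = idx a ha ^^^ idx c hc := by
        refine hinj (hidx _ _) (Nat.xor_lt_two_pow (n := 11) (hidx a ha) (hidx c hc)) ?_
        rw [psi_xor]
        exact (hidxE _ hac).symm.trans (E.add (hidxE a ha) (hidxE c hc))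
      simp only [Y, dif_pos hac, dif_pos ha, dif_pos hc]
      rw [hi, padd, psi_xor, psi_xor]
      abel
    · have hci := hidx c hc
      obtain ⟨k, hk, hkE⟩ := exists_move_cls hc (hmem (p (idx c hc))) (by
        rw [CfsgLib.Golay.CodeAut.clsW_eq_of_E (hidxE c hc), C.cls_conj hρ hci (hp _) (hpn _)])
      exact ⟨k, hk, (hE c hc).trans hkE⟩
  have hY1 : Y CfsgLib.Golay.CodeAut.one = CfsgLib.Golay.CodeAut.one := by
    simp only [Y, dif_pos hone]
    have hi : idx _ hone = 0 := hinj (hidx _ _) (by norm_num) (by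
      rw [psi_zero]
      exact (hidxE _ hone).symm.trans (Or.inr (zero_add _).symm))
    have hp0 : p 0 = 0 := by
      refine C.el_inj (hp 0) (by norm_num) ?_
      rw [← hpn, C.el_zero]; group
    rw [hi, hp0, psi_zero, zero_add, add_zero]
  obtain ⟨σ, hσ, hσY⟩ := CfsgLib.Golay.CodeAut.exists_induced hY hY1
  refine ⟨σ, hσ, fun a ha a' ha' h => ?_⟩
  have hpa : p a = a' := C.el_inj (hp a) ha' ((hpn a).symm.trans h)
  have hi : idx _ (hmem a) = a := hinj (hidx _ _) ha (hidxE _ (hmem a)).symm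
  have := (hE _ (hmem a)).symm.trans (hσY _ (hmem a))
  rwa [hi, hpa] at this

theorem induces_unique {n : G} (hn : n ∈ Subgroup.normalizer (Asub z x : Set G)) {σ τ : Equiv.Perm GolayPt}
    (hσ : Induces z x y b n σ) (hτ : Induces z x y b n τ) : σ = τ := by
  obtain ⟨hmem, -, hsurj⟩ := psi_spec (C.mem_alive hρ)
  refine (inv_mul_eq_one.mp (perm_eq_one (σ := τ⁻¹ * σ) fun c hc => ?_)).symm
  obtain ⟨a, ha, hca⟩ := hsurj c hc
  obtain ⟨a', ha', h⟩ := C.conj_el hρ hn a
  refine (E.act hca _).trans (E.trans ?_ hca.symm)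
  rw [CfsgLib.Golay.Invariant.act_mul]
  have h1 := (E.act ((hσ a ha a' ha' h).symm.trans (hτ a ha a' ha' h)) τ⁻¹)
  rwa [← CfsgLib.Golay.Invariant.act_mul τ⁻¹ τ, inv_mul_cancel] at h1

theorem induces_mul {n m : G} {σ τ : Equiv.Perm GolayPt} (hm : m ∈ Subgroup.normalizer (Asub z x : Set G))
    (hσ : Induces z x y b n σ) (hτ : Induces z x y b m τ) : Induces z x y b (n * m) (σ * τ) := by
  intro a ha a'' ha'' h
  obtain ⟨a', ha', h'⟩ := C.conj_el hρ hm a
  have h1 : n * el z x y a' * n⁻¹ = el z x y a'' := by rw [← h, ← h']; group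
  rw [CfsgLib.Golay.Invariant.act_mul]
  exact (hσ a' ha' a'' ha'' h1).trans ((hτ a ha a' ha' h').act σ)

/-- The homomorphism to the group of the code. -/
theorem exists_hom : ∃ φ : ↥(Subgroup.normalizer (Asub z x : Set G)) →* ↥M24,
    φ.ker = (Asub z x).subgroupOf (Subgroup.normalizer (Asub z x : Set G)) ∧
    ∀ n : ↥(Subgroup.normalizer (Asub z x : Set G)), Induces z x y b (n : G) (φ n : Equiv.Perm GolayPt) := by
  choose s hs hsI using fun n : ↥(Subgroup.normalizer (Asub z x : Set G)) => C.exists_induced hρ n.2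
  let φ : ↥(Subgroup.normalizer (Asub z x : Set G)) →* ↥M24 :=
    MonoidHom.mk' (fun n => ⟨s n, hs n⟩) fun n m => Subtype.ext
      (C.induces_unique hρ (n * m).2 (hsI _) (C.induces_mul hρ m.2 (hsI n) (hsI m)))
  refine ⟨φ, ?_, hsI⟩
  ext n
  rw [MonoidHom.mem_ker, Subgroup.mem_subgroupOf]
  constructor
  · intro h
    have h1 : s n = 1 := congrArg Subtype.val h
    refine B.mem_A.mpr ?_
    have hfix : ∀ a < 2048, (n : G) * el z x y a = el z x y a * n := fun a ha => by
      obtain ⟨a', ha', h'⟩ := C.conj_el hρ n.2 a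
      have h2 := hsI n a ha a' ha' h'
      rw [h1] at h2
      rw [psi_inj (C.mem_alive hρ) ha' ha h2] at h'
      exact mul_inv_eq_iff_eq_mul.mp h'
    refine ⟨?_, fun i => ?_⟩
    · have := hfix 1 (by norm_num)
      rwa [C.el_z] at this
    · have := hfix (2 ^ (i.1 + 1)) (by fin_cases i <;> norm_num)
      rwa [C.el_x] at this
  · intro h
    refine Subtype.ext (C.induces_unique hρ n.2 (hsI n) fun a ha a' ha' h' => ?_)
    rw [B.A_comm C.ea h (C.el_mem a), mul_inv_cancel_right] at h'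
    rw [C.el_inj ha ha' h']
    exact E.refl _

theorem card_normalizer :
    2 ^ 11 * 244823040 ≤ Nat.card ↥(Subgroup.normalizer (Asub z x : Set G)) := by
  classical
  have hb := C.mem_alive hρ
  choose n hnN hnz using fun a : {a : Fin 2048 // octB b a.1 = true} => (C.orbit hρ a.1.2).1 a.2
  choose c hcN hcz hcv using exists_gl_lift B
  let Φ : {a : Fin 2048 // octB b a.1 = true} × ↥(Asub z x) × Fin 16 × GL (Fin 4) (ZMod 2) →
      ↥(Subgroup.normalizer (Asub z x : Set G)) := fun t =>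
    ⟨n t.1 * ((t.2.1 : G) * pp q t.2.2.1.1 * c t.2.2.2),
      mul_mem (hnN _) (mul_mem (mul_mem (Subgroup.le_normalizer t.2.1.2)
        (B.Q_normalizer (B.swap.pp_x _).1)) (hcN _))⟩
  have hinj : Function.Injective Φ := by
    rintro ⟨a₁, w₁, c₁, M₁⟩ ⟨a₂, w₂, c₂, M₂⟩ h
    have h' : n a₁ * ((w₁ : G) * pp q c₁.1 * c M₁) = n a₂ * ((w₂ : G) * pp q c₂.1 * c M₂) :=
      congrArg Subtype.val h
    have hz : ∀ (w : ↥(Asub z x)) (k : ℕ) M, Commute ((w : G) * pp q k * c M) z := fun w k M =>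
      ((show Commute (w : G) z from (B.mem_A.mp w.2).1).mul_left
        (show Commute (pp q k) z from B.co.commute_z (B.swap.pp_x k).1)).mul_left (hcz M)
    have e1 : el z x y a₁.1.1 = el z x y a₂.1.1 := by
      have := congrArg (fun g => g * z * g⁻¹) h'
      simp only [mul_inv_rev, mul_assoc] at this
      rw [← hnz a₁, ← hnz a₂]
      have k1 : ∀ a w k M, n a * ((w : ↥(Asub z x)) * pp q k * c M) * z * (n a * ((w : G) * pp q k * c M))⁻¹ =
          n a * z * (n a)⁻¹ := fun a w k M => by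
        calc _ = n a * (((w : G) * pp q k * c M) * z * ((w : G) * pp q k * c M)⁻¹) * (n a)⁻¹ := by group
          _ = _ := by rw [(hz w k M).eq, mul_inv_cancel_right]
      rw [← k1 a₁ w₁ c₁.1 M₁, ← k1 a₂ w₂ c₂.1 M₂, h']
    have ea : a₁ = a₂ := Subtype.ext (Fin.ext (C.el_inj a₁.1.2 a₂.1.2 e1))
    subst ea
    have h2 : (w₁ : G) * pp q c₁.1 * c M₁ = (w₂ : G) * pp q c₂.1 * c M₂ := mul_left_cancel h'
    have hval : ∀ (w : ↥(Asub z x)) (k : ℕ) M i,
        v (((w : G) * pp q k * c M) * x i * ((w : G) * pp q k * c M)⁻¹) =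
          emb e ((M : Matrix (Fin 4) (Fin 4) (ZMod 2)).mulVec (Pi.single i 1)) := fun w k M i => by
      have hm := B.co.conj_mem (hcz M) (B.xQ i)
      have hE : pp q k * (c M * x i * (c M)⁻¹) * (pp q k)⁻¹ ∈ Esub z x :=
        B.conj_E (B.swap.pp_x k).1 (B.mem_E.mpr ⟨hm, fun j => by rw [hcv]; exact bf_e_emb B.hyp _ _⟩)
      rw [show (w : G) * pp q k * c M * x i * ((w : G) * pp q k * c M)⁻¹ =
        (w : G) * (pp q k * (c M * x i * (c M)⁻¹) * (pp q k)⁻¹) * (w : G)⁻¹ by group,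
        (B.A_comm_E w.2 hE).eq, mul_inv_cancel_right, B.co.v_inner (B.swap.pp_x k).1 hm, hcv]
    have eM : M₁ = M₂ := Units.ext (Matrix.ext_of_mulVec_single fun i => emb_inj B.hyp (by
      rw [← hval w₁ c₁.1 M₁ i, ← hval w₂ c₂.1 M₂ i, h2]))
    subst eM
    have h3 : (w₁ : G) * pp q c₁.1 = (w₂ : G) * pp q c₂.1 := mul_right_cancel h2
    have h4 : pp q c₁.1 * (pp q c₂.1)⁻¹ = (w₁ : G)⁻¹ * (w₂ : G) := by
      rw [eq_inv_mul_iff_mul_eq, ← mul_assoc, h3, mul_inv_cancel_right]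
    have h5 := B.A_Q (mul_mem (inv_mem w₁.2) w₂.2) (h4 ▸ mul_mem (B.swap.pp_x _).1 (inv_mem (B.swap.pp_x _).1))
    have h6 := (B.mem_E.mp h5).2
    rw [← h4, B.co.mul _ (B.swap.pp_x _).1 _ (inv_mem (B.swap.pp_x _).1), B.co.v_inv (B.swap.pp_x _).1,
      (B.swap.pp_x _).2, (B.swap.pp_x _).2] at h6
    have ec : c₁ = c₂ := by
      have h7 : c₁.1 ^^^ c₂.1 = 0 := by
        refine Nat.eq_of_testBit_eq fun i => ?_
        rw [Nat.zero_testBit]
        by_cases hi : i < 4
        · have h8 := h6 ⟨i, hi⟩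
          rw [xr, ← vec_xor, B.hyp.swap.bf_f_vec] at h8
          exact h8
        · exact Nat.testBit_lt_two_pow (lt_of_lt_of_le (Nat.xor_lt_two_pow (n := 4) c₁.2 c₂.2)
            (Nat.pow_le_pow_right (by norm_num) (by omega)))
      exact Fin.ext (Nat.xor_eq_zero_iff.mp h7)
    subst ec
    have ew : w₁ = w₂ := Subtype.ext (mul_right_cancel h3)
    rw [ew]
  have hle := Nat.card_le_card_of_injective Φ hinj
  rw [Nat.card_prod, Nat.card_prod, Nat.card_prod, C.card_A, Nat.card_fin, Matrix.card_GL_field,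
    Nat.card_eq_fintype_card, Fintype.card_subtype, octB_card b hb, ZMod.card] at hle
  simp only [Fin.prod_univ_four, Fin.val_zero, Fin.val_one, Fin.val_two] at hle
  have h3 : ((3 : Fin 4) : ℕ) = 3 := rfl
  rw [h3] at hle
  norm_num at hle ⊢
  omega

/-- The quotient is the group of the code. -/
theorem exists_equiv : ∃ φ : ↥(Subgroup.normalizer (Asub z x : Set G)) →* ↥M24,
    φ.ker = (Asub z x).subgroupOf (Subgroup.normalizer (Asub z x : Set G)) ∧ Function.Surjective φ ∧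
    ∀ n : ↥(Subgroup.normalizer (Asub z x : Set G)), Induces z x y b (n : G) (φ n : Equiv.Perm GolayPt) := by
  obtain ⟨φ, hker, hφ⟩ := C.exists_hom hρ
  refine ⟨φ, hker, ?_, hφ⟩
  have h1 := Subgroup.card_eq_card_quotient_mul_card_subgroup φ.ker
  rw [Nat.card_congr (QuotientGroup.quotientKerEquivRange φ).toEquiv, hker,
    Nat.card_congr (Subgroup.subgroupOfEquivOfLe Subgroup.le_normalizer).toEquiv, C.card_A] at h1
  have h2 := C.card_normalizer hρ
  rw [← MonoidHom.range_eq_top]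
  refine Subgroup.eq_top_of_le_card _ ?_
  rw [CfsgLib.Golay.natCard_M24]
  omega

/-- Exactly two orbits on the non-trivial elements. -/
theorem two_orbits : ∃ a ∈ Asub z x, ∃ c ∈ Asub z x, a ≠ 1 ∧ c ≠ 1 ∧
    (∀ n ∈ Subgroup.normalizer (Asub z x : Set G), n * a * n⁻¹ ≠ c) ∧
    ∀ w ∈ Asub z x, w ≠ 1 → ∃ n ∈ Subgroup.normalizer (Asub z x : Set G), n * w * n⁻¹ = a ∨ n * w * n⁻¹ = c := by
  have hb := C.mem_alive hρ
  obtain ⟨φ, -, hsur, hφ⟩ := C.exists_equiv hρ
  obtain ⟨hmem, hcls, -⟩ := psi_spec hb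
  have h := oct_other b hb
  simp only [List.any_eq_true, List.mem_range, Bool.and_eq_true, Bool.not_eq_true', bne_iff_ne] at h
  obtain ⟨a₀, ha₀, hno, h0⟩ := h
  refine ⟨z, B.z_mem_A, el z x y a₀, C.el_mem a₀, B.co.st.ne_one, fun e' =>
    h0 (C.el_inj ha₀ (by norm_num) (e'.trans C.el_zero.symm)), fun n hn e' => ?_, fun w hw hw1 => ?_⟩
  · exact (C.orbit hρ ha₀).2 hno ((isConj_iff.mpr ⟨n, e'⟩ : IsConj z (el z x y a₀)).symm)
  obtain ⟨a, ha, rfl⟩ := C.exists_el hw
  cases hoa : octB b a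
  · have ha1 : a ≠ 0 := fun e' => hw1 (e' ▸ C.el_zero)
    obtain ⟨k, hk, hkE⟩ := exists_move_cls (hmem a) (hmem a₀) (by
      rw [hcls a ha, hcls a₀ ha₀, if_neg ha1, if_neg h0, hoa, hno])
    obtain ⟨n, hn⟩ := hsur ⟨k, hk⟩
    refine ⟨n, n.2, Or.inr ?_⟩
    obtain ⟨a', ha', h'⟩ := C.conj_el hρ n.2 a
    have h2 := hφ n a ha a' ha' h'
    rw [hn] at h2
    rw [h', psi_inj hb ha' ha₀ (h2.trans hkE.symm)]
  · obtain ⟨n, hn, hnz⟩ := (C.orbit hρ ha).1 hoa
    exact ⟨n⁻¹, inv_mem hn, Or.inl (by rw [← hnz]; group)⟩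

end Crd

end CfsgLib.CoOneGolay
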