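import Cfsg.Agent.Lib.CoOneGolay.Complement

/-!
A two-subgroup of order `2^10` of the normaliser, and the complement of the centraliser.
-/

set_option autoImplicit false

namespace CfsgLib.CoOneGolay

open CfsgLib.CoOneType CfsgLib.Extraspecial CfsgLib.Extraspecial.Pair

variable {G : Type*} [Group G] [Finite G]

theorem Lifts.exists_two_group {z : G} {Q : Subgroup G} {v : G → V8} {e f : Fin 4 → V8} {x q : Fin 4 → G}
    (B : Lifts z Q v e f x q) (hc : B.Cross) :
    ∃ T : Subgroup G, T ≤ Subgroup.normalizer (Asub z x : Set G) ∧ T ⊓ Asub z x = ⊥ ∧ Nat.card T = 1024 := by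
  obtain ⟨a, ha⟩ := B.exists_root 0 1 (by decide)
  obtain ⟨b, hb⟩ := B.exists_root 1 2 (by decide)
  obtain ⟨c, hc'⟩ := B.exists_root 2 3 (by decide)
  obtain ⟨d₀, hd₀⟩ := B.exists_root 0 2 (by decide)
  obtain ⟨e₀, he₀⟩ := B.exists_root 1 3 (by decide)
  obtain ⟨f₀, hf₀⟩ := B.exists_root 0 3 (by decide)
  -- the commutators of the generators
  have cm : ∀ {s t r : G} {i j k l m p : Fin 4}, Root B i j s → Root B k l t → Root B m p r →
      (∀ w, rowC (rowC (rowC (rootU k l w) (rootU i j)) (rootU k l)) (rootU i j) = rootU m p w ∧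
        rowC (rowC (rowC (rootW k l w) (rootW i j)) (rootW k l)) (rootW i j) = rootW m p w) →
      ∃ δ n, s * t * (s * t) = r * cond δ z 1 * pp q n := by
    intro s t r i j k l m p hs ht hr h
    have h1 := B.act_mul hs.act (B.act_mul ht.act (B.act_mul hs.act ht.act))
    rw [show (fun w => rowC ((fun w' => rowC ((fun w'' => rowC (rootU k l w'') (rootU i j)) w') (rootU k l)) w)
        (rootU i j)) = rootU m p from funext fun w => (h w).1,
      show (fun w => rowC ((fun w' => rowC ((fun w'' => rowC (rootW k l w'') (rootW i j)) w') (rootW k l)) w)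
        (rootW i j)) = rootW m p from funext fun w => (h w).2, show s * (t * (s * t)) = s * t * (s * t) by group] at h1
    exact B.act_same_split hr.act h1
  obtain ⟨α, n₁, hab⟩ := cm ha hb hd₀ fun w => (comm_root_U w).1
  obtain ⟨β, n₂, hbc⟩ := cm hb hc' he₀ fun w => (comm_root_U w).2.1
  set e' := e₀ * cond β z 1 with hee
  obtain ⟨γ, n₃, hae⟩ : ∃ γ n, a * e' * (a * e') = f₀ * cond γ z 1 * pp q n := by
    have h1 := B.act_mul ha.act (B.act_mul (B.act_z he₀.act β) (B.act_mul ha.act (B.act_z he₀.act β)))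
    rw [show (fun w => rowC ((fun w' => rowC ((fun w'' => rowC (rootU 1 3 w'') (rootU 0 1)) w') (rootU 1 3)) w)
        (rootU 0 1)) = rootU 0 3 from funext fun w => (comm_root_U w).2.2.1,
      show (fun w => rowC ((fun w' => rowC ((fun w'' => rowC (rootW 1 3 w'') (rootW 0 1)) w') (rootW 1 3)) w)
        (rootW 0 1)) = rootW 0 3 from funext fun w => (comm_root_U w).2.2.2,
      show a * (e₀ * cond β z 1 * (a * (e₀ * cond β z 1))) = a * e' * (a * e') by rw [hee]; group] at h1
    exact B.act_same_split hf₀.act h1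
  set d := d₀ * cond α z 1 with hdd
  set f' := f₀ * cond γ z 1 with hff
  have hzc : ∀ {i j : Fin 4} {t : G}, Root B i j t → ∀ δ, Commute t (cond δ z 1) := fun {i j t} ht δ => by
    cases δ
    · exact Commute.one_right _
    · exact ht.act.cz
  have hzsq : ∀ δ : Bool, cond δ z 1 * cond δ z 1 = 1 := fun δ => by
    cases δ
    · exact one_mul 1
    · exact B.co.st.zz
  have hsq : ∀ {i j : Fin 4} {t : G}, Root B i j t → ∀ δ,
      t * cond δ z 1 * (t * cond δ z 1) = 1 := fun {i j t} ht δ => by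
    rw [show t * cond δ z 1 * (t * cond δ z 1) = t * (cond δ z 1 * t) * cond δ z 1 by group,
      ← (hzc ht δ).eq, show t * (t * cond δ z 1) * cond δ z 1 = t * t * (cond δ z 1 * cond δ z 1) by group,
      ht.sq, hzsq, one_mul]
  -- the group modulo the products of the dual lifts
  set F := Fsub B with hF
  set N := Subgroup.normalizer (F : Set G) with hN
  have hmem : ∀ {w : G} {U W : Fin 4 → ℕ}, HasAct B w U W → w ∈ N := fun {w U W} h =>
    mem_normalizer_of_le fun r hr => by
      obtain ⟨n, rfl⟩ := hr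
      exact ⟨rowC n W, (B.act_pp_q h n).symm⟩
  have hFn : (F.subgroupOf N).Normal := Subgroup.normal_subgroupOf_iff_le_normalizer
    Subgroup.le_normalizer |>.mpr le_rfl
  set π := QuotientGroup.mk' (F.subgroupOf N) with hπ
  have hda := B.act_z hd₀.act α
  have hea := B.act_z he₀.act β
  have hfa := B.act_z hf₀.act γ
  set a' : N := ⟨a, hmem ha.act⟩ with ha'
  set b' : N := ⟨b, hmem hb.act⟩ with hb'
  set c' : N := ⟨c, hmem hc'.act⟩ with hc''
  set d' : N := ⟨d, hmem hda⟩ with hd'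
  set g' : N := ⟨e', hmem hea⟩ with hg'
  set h' : N := ⟨f', hmem hfa⟩ with hh'
  have hπ1 : ∀ (w w' : N) (n : ℕ), (w : G) = w' * pp q n → π w = π w' := fun w w' n h => by
    refine (QuotientGroup.eq (a := w) (b := w')).mpr ?_
    rw [Subgroup.mem_subgroupOf, Subgroup.coe_mul, Subgroup.coe_inv, h, mul_inv_rev, inv_mul_cancel_right]
    exact inv_mem (⟨n, rfl⟩ : pp q n ∈ F)
  have eq1 : ∀ {w w' : N}, (w : G) = w' → π w = π w' := fun h => congrArg π (Subtype.ext h)
  have sq1 : ∀ w : N, (w : G) * w = 1 → π w * π w = 1 := fun w h => by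
    rw [← map_mul, show w * w = 1 from Subtype.ext h, map_one]
  have cm1 : ∀ w w' : N, (w : G) * w' = w' * w → π w * π w' = π w' * π w := fun w w' h => by
    rw [← map_mul, ← map_mul, show w * w' = w' * w from Subtype.ext h]
  -- commuting pairs
  have RC : ∀ {i j k l : Fin 4} {s t : G}, Root B i j s → Root B k l t → ∀ (S : Fin 4 → Bool) (δ ε : Bool),
      (S 0 ^^ S 1 ^^ S 2 ^^ S 3) = false → S i = true → S j = false → S k = true → S l = false →
      s * cond δ z 1 * (t * cond ε z 1) = t * cond ε z 1 * (s * cond δ z 1) := by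
    intro i j k l s t hs ht S δ ε hS h1 h2 h3 h4
    have c0 : Commute s t := B.root_comm hc hs ht S hS h1 h2 h3 h4
    have c1 : Commute (cond δ z 1) (cond ε z 1) := by
      cases δ <;> cases ε
      exacts [Commute.refl _, Commute.one_left _, Commute.one_right _, Commute.refl _]
    exact ((c0.mul_right (hzc hs ε)).mul_left ((hzc ht δ).symm.mul_right c1)).eq
  let S02 : Fin 4 → Bool := ![true, false, true, false]
  let S03 : Fin 4 → Bool := ![true, false, false, true]
  let S01 : Fin 4 → Bool := ![true, true, false, false]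
  let S12 : Fin 4 → Bool := ![false, true, true, false]
  have rac : π a' * π c' = π c' * π a' :=
    cm1 _ _ (by simpa using RC ha hc' S02 false false rfl rfl rfl rfl rfl)
  have rad : π a' * π d' = π d' * π a' :=
    cm1 _ _ (by simpa using RC ha hd₀ S03 false α rfl rfl rfl rfl rfl)
  have raf : π a' * π h' = π h' * π a' :=
    cm1 _ _ (by simpa using RC ha hf₀ S02 false γ rfl rfl rfl rfl rfl)
  have rbd : π b' * π d' = π d' * π b' :=
    cm1 _ _ (by simpa using RC hb hd₀ S01 false α rfl rfl rfl rfl rfl)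
  have rbe : π b' * π g' = π g' * π b' :=
    cm1 _ _ (by simpa using RC hb he₀ S01 false β rfl rfl rfl rfl rfl)
  have rbf : π b' * π h' = π h' * π b' :=
    cm1 _ _ (by simpa using RC hb hf₀ S01 false γ rfl rfl rfl rfl rfl)
  have rce : π c' * π g' = π g' * π c' :=
    cm1 _ _ (by simpa using RC hc' he₀ S12 false β rfl rfl rfl rfl rfl)
  have rcf : π c' * π h' = π h' * π c' :=
    cm1 _ _ (by simpa using RC hc' hf₀ S02 false γ rfl rfl rfl rfl rfl)
  have rde : π d' * π g' = π g' * π d' :=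
    cm1 _ _ (by simpa using RC hd₀ he₀ S01 α β rfl rfl rfl rfl rfl)
  have rdf : π d' * π h' = π h' * π d' :=
    cm1 _ _ (by simpa using RC hd₀ hf₀ S01 α γ rfl rfl rfl rfl rfl)
  have ref' : π g' * π h' = π h' * π g' :=
    cm1 _ _ (by simpa using RC he₀ hf₀ S01 β γ rfl rfl rfl rfl rfl)
  have sa := sq1 a' ha.sq
  have sb := sq1 b' hb.sq
  have sc := sq1 c' hc'.sq
  have sd := sq1 d' (hsq hd₀ α)
  have se := sq1 g' (hsq he₀ β)
  have sf := sq1 h' (hsq hf₀ γ)
  have qab : π a' * π b' * (π a' * π b') = π d' := by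
    rw [← map_mul, ← map_mul]; exact hπ1 _ _ n₁ hab
  have qbc : π b' * π c' * (π b' * π c') = π g' := by
    rw [← map_mul, ← map_mul]; exact hπ1 _ _ n₂ hbc
  have qae : π a' * π g' * (π a' * π g') = π h' := by
    rw [← map_mul, ← map_mul]; exact hπ1 _ _ n₃ hae
  have rab := comm_form sa sb qab
  have rbc := comm_form sb sc qbc
  have rae := comm_form sa se qae
  have rcd := third_comm sc se sf rac rbe raf rbf rdf ref' qab rbc rae
  set H := Subgroup.closure ({π a', π b', π c'} : Set (N ⧸ F.subgroupOf N)) with hH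
  let T : Subgroup G := (H.comap π).map N.subtype
  -- the words
  let W : Bool × Bool × Bool × Bool × Bool × Bool × Fin 16 → N := fun t =>
    word6 a' b' c' d' g' h' t.1 t.2.1 t.2.2.1 t.2.2.2.1 t.2.2.2.2.1 t.2.2.2.2.2.1 *
      ⟨pp q t.2.2.2.2.2.2.1, hmem (B.act_pp _)⟩
  have hword : ∀ i j k l m n, π (word6 a' b' c' d' g' h' i j k l m n) =
      word6 (π a') (π b') (π c') (π d') (π g') (π h') i j k l m n := by
    intro i j k l m n
    have hcond : ∀ (δ : Bool) (w : N), π (cond δ w 1) = cond δ (π w) 1 := fun δ w => by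
      cases δ
      · exact map_one π
      · rfl
    simp only [word6, map_mul, hcond]
  have hWact : ∀ t, ∃ U W', HasAct B ((W t : N) : G) U W' ∧
      ∀ p, U p = rowC (2 ^ p.1)
        (wordU t.1 t.2.1 t.2.2.1 t.2.2.2.1 t.2.2.2.2.1 t.2.2.2.2.2.1) := by
    rintro ⟨i, j, k, l, m, n, p⟩
    have hcoe : ∀ (δ : Bool) (w : N), ((cond δ w 1 : N) : G) = cond δ (w : G) 1 := fun δ w => by
      cases δ <;> rfl
    have h1 := B.act_mul (B.act_mul (B.act_sel hfa i) (B.act_mul (B.act_sel hea j) (B.act_mul (B.act_sel hda k)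
      (B.act_mul (B.act_sel hc'.act l) (B.act_mul (B.act_sel hb.act m) (B.act_sel ha.act n)))))) (B.act_pp p.1)
    have hW : ((W (i, j, k, l, m, n, p) : N) : G) = (cond i f' 1 * (cond j e' 1 * (cond k d 1 *
        (cond l c 1 * (cond m b 1 * cond n a 1))))) * pp q p.1 := by
      simp [W, word6, hcoe, a', b', c', d', g', h']
    exact ⟨_, _, hW.symm ▸ h1, fun r => rfl⟩
  have hTmem : ∀ w ∈ T, ∃ t, ((W t : N) : G) = w := by
    rintro w ⟨u, hu, rfl⟩
    obtain ⟨i, j, k, l, m, n, h⟩ :=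
      mem_word6 sa sb sc sd se sf rac rad raf rbd rbe rbf rce rcf rde rdf ref' rab rbc rae rcd hu
    rw [← hword] at h
    have := (QuotientGroup.eq (a := word6 a' b' c' d' g' h' i j k l m n) (b := u)).mp h.symm
    rw [Subgroup.mem_subgroupOf] at this
    obtain ⟨r, hr⟩ := this
    refine ⟨⟨i, j, k, l, m, n, ⟨r % 16, Nat.mod_lt _ (by norm_num)⟩⟩, ?_⟩
    show ((word6 a' b' c' d' g' h' i j k l m n : N) : G) * pp q (r % 16) = (u : G)
    rw [← B.pp_mod, hr, Subgroup.coe_mul, Subgroup.coe_inv, mul_inv_cancel_left]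
  have hrow1 : ∀ (U : Fin 4 → ℕ) (p : Fin 4), rowC (2 ^ p.1) U = U p := fun U p => by
    simp only [rowC, Nat.testBit_two_pow]
    fin_cases p <;> simp
  have hval : ∀ t p, v (((W t : N) : G) * x p * ((W t : N) : G)⁻¹) =
      vec e (wordU t.1 t.2.1 t.2.2.1 t.2.2.2.1 t.2.2.2.2.1 t.2.2.2.2.2.1 p) := fun t p => by
    obtain ⟨U, W', h, hU⟩ := hWact t
    rw [h.hx p, hU, hrow1]
  have hWinj : Function.Injective W := by
    rintro ⟨i, j, k, l, m, n, p⟩ ⟨i', j', k', l', m', n', p'⟩ h
    obtain ⟨⟨rfl, rfl, rfl⟩, rfl, rfl, rfl⟩ := wordU_inj i j k l m n i' j' k' l' m' n' fun r =>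
      B.hyp.vec_inj (wordU_lt _ _ _ _ _ _ r) (wordU_lt _ _ _ _ _ _ r)
        (by rw [← hval ⟨i, j, k, l, m, n, p⟩ r, h, hval])
    have h1 : pp q p.1 = pp q p'.1 := congrArg Subtype.val (mul_left_cancel h :)
    have h2 : pp q (p.1 ^^^ p'.1) = 1 := by rw [B.swap.pp_xor, h1, ← B.swap.pp_xor, Nat.xor_self]; simp [pp]
    have h3 := B.pp_q_eq_zero (Nat.xor_lt_two_pow (n := 4) p.2 p'.2) (h2.symm ▸ one_mem _)
    rw [Fin.ext (Nat.xor_eq_zero_iff.mp h3)]
  have hWT : ∀ t, ((W t : N) : G) ∈ T := by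
    rintro ⟨i, j, k, l, m, n, p⟩
    refine Subgroup.mem_map.mpr ⟨W (i, j, k, l, m, n, p), ?_, rfl⟩
    show π (_ * _) ∈ H
    have hp : π ⟨pp q p.1, hmem (B.act_pp _)⟩ = 1 :=
      (QuotientGroup.eq_one_iff _).mpr (Subgroup.mem_subgroupOf.mpr ⟨p.1, rfl⟩)
    rw [map_mul, hword, hp, mul_one]
    have ga : π a' ∈ H := Subgroup.subset_closure (by simp)
    have gb : π b' ∈ H := Subgroup.subset_closure (by simp)
    have gc : π c' ∈ H := Subgroup.subset_closure (by simp)
    have gd : π d' ∈ H := qab ▸ mul_mem (mul_mem ga gb) (mul_mem ga gb)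
    have ge : π g' ∈ H := qbc ▸ mul_mem (mul_mem gb gc) (mul_mem gb gc)
    have gf : π h' ∈ H := qae ▸ mul_mem (mul_mem ga ge) (mul_mem ga ge)
    have hcnd : ∀ (δ : Bool) {w}, w ∈ H → cond δ w 1 ∈ H := fun δ {w} hw => by
      cases δ
      · exact one_mem _
      · exact hw
    exact mul_mem (hcnd _ gf) (mul_mem (hcnd _ ge) (mul_mem (hcnd _ gd) (mul_mem (hcnd _ gc)
      (mul_mem (hcnd _ gb) (hcnd _ ga)))))
  refine ⟨T, fun w hw => ?_, ?_, ?_⟩
  · obtain ⟨t, rfl⟩ := hTmem w hw
    obtain ⟨U, W', h, -⟩ := hWact t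
    exact B.act_normalizer h
  · refine (Subgroup.eq_bot_iff_forall _).mpr fun w hw => ?_
    obtain ⟨hwT, hwA⟩ := Subgroup.mem_inf.mp hw
    obtain ⟨⟨i, j, k, l, m, n, p⟩, rfl⟩ := hTmem w hwT
    have hfix : ∀ r, wordU i j k l m n r = 2 ^ r.1 := fun r => B.hyp.vec_inj (wordU_lt _ _ _ _ _ _ r)
      (by fin_cases r <;> norm_num) (by
        rw [← hval ⟨i, j, k, l, m, n, p⟩ r, (B.A_comm_E hwA (B.x_mem r)).eq, mul_inv_cancel_right, B.xv,
          vec_two_pow])
    obtain ⟨⟨rfl, rfl, rfl⟩, rfl, rfl, rfl⟩ := wordU_inj i j k l m n false false false false false false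
      fun r => (hfix r).trans (wordU_id r).symm
    have e1 : ((W ⟨false, false, false, false, false, false, p⟩ : N) : G) = pp q p.1 := by
      simp [W, word6]
    rw [e1] at hwA ⊢
    rw [B.pp_q_eq_zero p.2 hwA]
    simp [pp]
  · let Ψ : Bool × Bool × Bool × Bool × Bool × Bool × Fin 16 → T := fun t => ⟨_, hWT t⟩
    have hb : Function.Bijective Ψ := by
      refine ⟨fun s t h => hWinj (Subtype.ext (congrArg (fun w : T => (w : G)) h)), fun w => ?_⟩
      obtain ⟨t, ht⟩ := hTmem w w.2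
      exact ⟨t, Subtype.ext ht⟩
    rw [← Nat.card_congr (Equiv.ofBijective Ψ hb)]
    simp [Nat.card_prod]

theorem Crd.exists_complement {z : G} {Q : Subgroup G} {v : G → V8} {e f : Fin 4 → V8} {x q : Fin 4 → G}
    {B : Lifts z Q v e f x q} {y : Fin 6 → G} {ρ : G} {b : ℕ} (C : Crd B y ρ b) (hρ : ρ * z * ρ⁻¹ = x 0)
    (hc : B.Cross) :
    ∃ K : Subgroup ↥(Subgroup.normalizer (Asub z x : Set G)),
      ((Asub z x).subgroupOf (Subgroup.normalizer (Asub z x : Set G))).IsComplement' K := by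
  obtain ⟨T, hTN, hTA, hTcard⟩ := B.exists_two_group hc
  set NA := Subgroup.normalizer (Asub z x : Set G) with hNA
  set A' := (Asub z x).subgroupOf NA with hA'
  set T' := T.subgroupOf NA with hT'
  obtain ⟨φ, hker, hsur, -⟩ := C.exists_equiv hρ
  replace hker : φ.ker = A' := hker
  haveI : A'.Normal := hker ▸ MonoidHom.normal_ker φ
  haveI : IsMulCommutative A' :=
    ⟨⟨fun s t => Subtype.ext (Subtype.ext (B.A_comm C.ea (a := ((s : NA) : G)) (b := ((t : NA) : G)) s.2 t.2))⟩⟩
  have hdisj : T' ⊓ A' = ⊥ := by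
    refine (Subgroup.eq_bot_iff_forall _).mpr fun w hw => Subtype.ext ?_
    have : (w : G) ∈ T ⊓ Asub z x := ⟨hw.1, hw.2⟩
    rw [hTA] at this
    exact this
  have hinj : Function.Injective (φ.comp T'.subtype) := by
    refine (injective_iff_map_eq_one _).mpr fun w hw => ?_
    have h1 : (w : NA) ∈ T' ⊓ A' := ⟨w.2, hker ▸ (hw : φ w = 1)⟩
    rw [hdisj] at h1
    exact Subtype.ext h1
  have hmap : Nat.card (T'.map φ) = 1024 := by
    have h1 : T'.map φ = (φ.comp T'.subtype).range := by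
      rw [MonoidHom.range_comp, Subgroup.range_subtype]
    rw [h1, ← Nat.card_congr (MonoidHom.ofInjective hinj).toEquiv,
      Nat.card_congr (Subgroup.subgroupOfEquivOfLe hTN).toEquiv, hTcard]
  have hidx : (A' ⊔ T').index = 239085 := by
    rw [← Subgroup.index_map_eq (A' ⊔ T') hsur (hker ▸ le_sup_left), Subgroup.map_sup,
      show A'.map φ = ⊥ from (Subgroup.map_eq_bot_iff _).mpr hker.ge, bot_sup_eq]
    have h1 := (T'.map φ).card_mul_index
    rw [hmap, CfsgLib.Golay.natCard_M24] at h1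
    omega
  have hA11 : Nat.card A' = 2 ^ 11 := by
    rw [Nat.card_congr (Subgroup.subgroupOfEquivOfLe Subgroup.le_normalizer).toEquiv, C.card_A]
  exact CfsgLib.Gaschutz.exists_complement (K := A') (U := A' ⊔ T') (A := T') le_sup_left
    (by rw [hA11, hidx]; norm_num) hdisj rfl

end CfsgLib.CoOneGolay
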